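import Cfsg.Agent.Chevalley.Core

/-!
The homomorphism from `SL₂` onto the subgroup generated by a pair of opposite root subgroups.
-/

set_option autoImplicit false

namespace CfsgLib.Chevalley

open Cfsg.Lie
open scoped Matrix MatrixGroups

/-- Elements of a group satisfying the relations of `SL₂`. -/
structure SL2Rel (F G : Type*) [Field F] [Group G] where
  x : F → G
  y : F → G
  h : Fˣ →* G
  w : G
  x_add : ∀ s t, x (s + t) = x s * x t
  h_x : ∀ (a : Fˣ) (t : F), h a * x t = x ((a : F) ^ 2 * t) * h a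
  w_h : ∀ a : Fˣ, w * h a = h a⁻¹ * w
  w_sq : w * w = h (-1)
  w_x : ∀ t, w * x t = y (-t) * w
  rel : ∀ a : Fˣ, h a * w = x a * y (-(a : F)⁻¹) * x a

namespace SL2Rel

variable {F G : Type*} [Field F] [Group G] (R : SL2Rel F G)

theorem x_zero : R.x 0 = 1 := by
  have h1 := R.x_add 0 0
  rw [add_zero] at h1
  exact mul_eq_left.1 h1.symm

theorem x_inv (t : F) : (R.x t)⁻¹ = R.x (-t) :=
  inv_eq_of_mul_eq_one_right (by rw [← R.x_add, add_neg_cancel, R.x_zero])

theorem x_h (a : Fˣ) (t : F) : R.x t * R.h a = R.h a * R.x (((a : F) ^ 2)⁻¹ * t) := by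
  rw [R.h_x, ← mul_assoc ((a : F) ^ 2), mul_inv_cancel₀ (pow_ne_zero _ a.ne_zero), one_mul]

/-- The value on a matrix with entries `a, b, c, d`. -/
noncomputable def val (a b c d : F) : G := by
  classical
  exact if hc : c = 0 then (if ha : a = 0 then 1 else R.h (Units.mk0 a ha) * R.x (b / a))
    else R.x (a / c) * R.h (Units.mk0 (-c⁻¹) (neg_ne_zero.mpr (inv_ne_zero hc))) * R.w * R.x (d / c)

theorem val_zero {a : F} (ha : a ≠ 0) (b d : F) :
    R.val a b 0 d = R.h (Units.mk0 a ha) * R.x (b / a) := by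
  rw [val, dif_pos rfl, dif_neg ha]

theorem val_ne {c : F} (hc : c ≠ 0) (u : Fˣ) (hu : (u : F) = -c⁻¹) (a b d : F) :
    R.val a b c d = R.x (a / c) * R.h u * R.w * R.x (d / c) := by
  rw [val, dif_neg hc]
  congr 3
  exact congrArg _ (Units.ext hu.symm)

theorem val_mul_x {a b c d : F} (hdet : a * d - b * c = 1) (t : F) :
    R.val a (a * t + b) c (c * t + d) = R.val a b c d * R.x t := by
  by_cases hc : c = 0
  · subst hc
    have ha : a ≠ 0 := fun e => by simp [e] at hdet
    rw [R.val_zero ha, R.val_zero ha, mul_assoc, ← R.x_add]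
    congr 2
    field_simp
    ring
  · set u := Units.mk0 (-c⁻¹) (neg_ne_zero.mpr (inv_ne_zero hc))
    rw [R.val_ne hc u rfl, R.val_ne hc u rfl, mul_assoc _ (R.x (d / c)), ← R.x_add]
    congr 2
    field_simp
    ring

theorem val_mul_h {a b c d : F} (hdet : a * d - b * c = 1) (u : Fˣ) :
    R.val (a * u) (b * (u : F)⁻¹) (c * u) (d * (u : F)⁻¹) = R.val a b c d * R.h u := by
  have hu := u.ne_zero
  by_cases hc : c = 0
  · subst hc
    have ha : a ≠ 0 := fun e => by simp [e] at hdet
    rw [zero_mul, R.val_zero (mul_ne_zero ha hu), R.val_zero ha, mul_assoc (R.h _), R.x_h u,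
      ← mul_assoc, ← map_mul]
    congr 2
    · exact Units.ext (by simp)
    · field_simp
  · set v := Units.mk0 (-c⁻¹) (neg_ne_zero.mpr (inv_ne_zero hc))
    rw [R.val_ne (mul_ne_zero hc hu) (v * u⁻¹) (by simp [v, mul_inv, mul_comm]), R.val_ne hc v rfl]
    symm
    calc R.x (a / c) * R.h v * R.w * R.x (d / c) * R.h u
        = R.x (a / c) * R.h v * R.w * (R.x (d / c) * R.h u) := mul_assoc _ _ _
      _ = R.x (a / c) * R.h v * (R.w * R.h u) * R.x (((u : F) ^ 2)⁻¹ * (d / c)) := by
          rw [R.x_h u (d / c)]; simp only [mul_assoc]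
      _ = R.x (a / c) * (R.h v * R.h u⁻¹) * R.w * R.x (((u : F) ^ 2)⁻¹ * (d / c)) := by
          rw [R.w_h]; simp only [mul_assoc]
      _ = _ := ?_
    rw [← map_mul]
    congr 4
    · field_simp
    · field_simp

theorem val_mul_w {a b c d : F} (hdet : a * d - b * c = 1) :
    R.val (-b) a (-d) c = R.val a b c d * R.w := by
  by_cases hc : c = 0
  · subst hc
    have ha : a ≠ 0 := fun e => by simp [e] at hdet
    have had : a * d = 1 := by linear_combination hdet
    have hd : d ≠ 0 := fun e => by simp [e] at had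
    rw [R.val_ne (neg_ne_zero.mpr hd) (Units.mk0 a ha)
      (by rw [inv_neg, neg_neg]; exact eq_inv_of_mul_eq_one_left had), R.val_zero ha, R.h_x,
      zero_div, R.x_zero, mul_one]
    congr 3
    rw [Units.val_mk0]
    field_simp
    linear_combination -b * had
  · by_cases hd : d = 0
    · subst hd
      have hbc : -b * c = 1 := by linear_combination hdet
      have hb : -b ≠ 0 := fun e => by simp [e] at hbc
      set v := Units.mk0 (-c⁻¹) (neg_ne_zero.mpr (inv_ne_zero hc))
      have hv : v * -1 = Units.mk0 (-b) hb :=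
        Units.ext (by simp [v, eq_inv_of_mul_eq_one_left hbc])
      rw [neg_zero, R.val_zero hb, R.val_ne hc v rfl, zero_div, R.x_zero, mul_one, mul_assoc,
        R.w_sq, mul_assoc, ← map_mul, hv, R.x_h]
      congr 2
      have hb0 : b ≠ 0 := fun e => hb (by simp [e])
      rw [Units.val_mk0]
      field_simp
      linear_combination a * hbc
    · set v := Units.mk0 (-c⁻¹) (neg_ne_zero.mpr (inv_ne_zero hc))
      set k := Units.mk0 (c / d) (div_ne_zero hc hd) with hk
      have hy : R.y (-(d / c)) = R.x (-(c / d)) * R.h k * R.w * R.x (-(c / d)) := by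
        have := R.rel k
        rw [show -((k : F))⁻¹ = -(d / c) by simp [hk]] at this
        rw [← R.x_inv, mul_assoc _ (R.h k), show (k : F) = c / d from rfl] at *
        rw [this]
        group
      have e1 : R.x (-(c / d)) * R.h (-1) = R.h (-1) * R.x (-(c / d)) := by
        rw [R.x_h]
        norm_num
      rw [R.val_ne (neg_ne_zero.mpr hd) (v * (k * -1)) (by
        simp [v, hk]; field_simp), R.val_ne hc v rfl, mul_assoc _ (R.x (d / c)) R.w]
      symm
      calc R.x (a / c) * R.h v * R.w * (R.x (d / c) * R.w)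
          = R.x (a / c) * R.h v * ((R.w * R.x (d / c)) * R.w) := by simp only [mul_assoc]
        _ = R.x (a / c) * R.h v * (R.x (-(c / d)) * R.h k * R.w *
              (R.x (-(c / d)) * R.h (-1))) := by
            rw [R.w_x, mul_assoc (R.y _), R.w_sq, hy, mul_assoc _ (R.x (-(c / d)))]
        _ = R.x (a / c) * (R.h v * R.x (-(c / d))) * R.h k * (R.w * R.h (-1)) *
              R.x (-(c / d)) := by
            rw [e1]; simp only [mul_assoc]
        _ = R.x (a / c) * R.x ((v : F) ^ 2 * -(c / d)) * (R.h v * (R.h k * R.h (-1))) * R.w *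
              R.x (-(c / d)) := by
            rw [R.h_x, R.w_h, inv_neg, inv_one]; simp only [mul_assoc]
        _ = _ := by
            rw [← map_mul, ← map_mul, ← R.x_add]
            congr 4
            · simp [v]
              field_simp
              linear_combination hdet
            · rw [div_neg]

/-- The map on `SL₂`. -/
noncomputable def toFun (g : SL(2, F)) : G := R.val (g.1 0 0) (g.1 0 1) (g.1 1 0) (g.1 1 1)

/-- `[[1, t], [0, 1]]`. -/
def upper (t : F) : SL(2, F) := ⟨!![1, t; 0, 1], by simp [Matrix.det_fin_two]⟩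

theorem upper_val (t : F) : (upper t : Matrix (Fin 2) (Fin 2) F) = !![1, t; 0, 1] := rfl

/-- `[[u, 0], [0, u⁻¹]]`. -/
def dia (u : Fˣ) : SL(2, F) := ⟨!![(u : F), 0; 0, (u : F)⁻¹], by simp [Matrix.det_fin_two]⟩

/-- `[[0, 1], [-1, 0]]`. -/
def weyl : SL(2, F) := ⟨!![0, 1; -1, 0], by simp [Matrix.det_fin_two]⟩

theorem dia_val (u : Fˣ) :
    (dia u : Matrix (Fin 2) (Fin 2) F) = !![(u : F), 0; 0, (u : F)⁻¹] := rfl

theorem weyl_val : ((weyl : SL(2, F)) : Matrix (Fin 2) (Fin 2) F) = !![0, 1; -1, 0] := rfl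

theorem det_eq (g : SL(2, F)) : g.1 0 0 * g.1 1 1 - g.1 0 1 * g.1 1 0 = 1 := by
  rw [← Matrix.det_fin_two]; exact g.2

theorem toFun_mul_upper (g : SL(2, F)) (t : F) : R.toFun (g * upper t) = R.toFun g * R.x t := by
  simp only [toFun, Matrix.SpecialLinearGroup.coe_mul, upper_val, Matrix.mul_apply, Fin.sum_univ_two]
  simp [← R.val_mul_x (det_eq g) t, mul_comm t]

theorem toFun_mul_dia (g : SL(2, F)) (u : Fˣ) : R.toFun (g * dia u) = R.toFun g * R.h u := by
  simp only [toFun, Matrix.SpecialLinearGroup.coe_mul, dia_val, Matrix.mul_apply, Fin.sum_univ_two]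
  simp [← R.val_mul_h (det_eq g) u]

theorem toFun_mul_weyl (g : SL(2, F)) : R.toFun (g * weyl) = R.toFun g * R.w := by
  simp only [toFun, Matrix.SpecialLinearGroup.coe_mul, weyl_val, Matrix.mul_apply, Fin.sum_univ_two]
  simp [← R.val_mul_w (det_eq g)]

theorem toFun_one : R.toFun 1 = 1 := by
  simp [toFun, R.val_zero (one_ne_zero (α := F)), R.x_zero,
    show Units.mk0 (1 : F) one_ne_zero = 1 from Units.ext rfl]

/-- The homomorphism. -/
noncomputable def lift : SL(2, F) →* G where
  toFun := R.toFun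
  map_one' := R.toFun_one
  map_mul' g k := by
    let Q : SL(2, F) → Prop := fun k => ∀ g, R.toFun (g * k) = R.toFun g * R.toFun k
    have hQ : ∀ k k', Q k → Q k' → Q (k * k') := fun k k' hk hk' g => by
      rw [← mul_assoc, hk', hk, hk', mul_assoc]
    have gen : ∀ (k : SL(2, F)) (z : G), (∀ g, R.toFun (g * k) = R.toFun g * z) → Q k :=
      fun k z hz g => by
        have h1 := hz 1
        rw [one_mul, R.toFun_one, one_mul] at h1
        rw [hz g, h1]
    have hU : ∀ t, Q (upper t) := fun t => gen _ _ fun g => R.toFun_mul_upper g t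
    have hD : ∀ u, Q (dia u) := fun u => gen _ _ fun g => R.toFun_mul_dia g u
    have hW : Q weyl := gen _ _ fun g => R.toFun_mul_weyl g
    suffices Q k from this g
    have hdet := det_eq k
    by_cases hc : k.1 1 0 = 0
    · have ha : k.1 0 0 ≠ 0 := fun e => by simp [e, hc] at hdet
      rw [hc, mul_zero, sub_zero] at hdet
      rw [show k = dia (Units.mk0 _ ha) * upper (k.1 0 1 / k.1 0 0) from ?_]
      · exact hQ _ _ (hD _) (hU _)
      apply Matrix.SpecialLinearGroup.ext
      intro i j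
      fin_cases i <;> fin_cases j <;>
        simp [upper_val, dia_val, Matrix.mul_apply, Fin.sum_univ_two, hc]
      · field_simp
      · exact eq_inv_of_mul_eq_one_right hdet
    · rw [show k = upper (k.1 0 0 / k.1 1 0) *
        dia (Units.mk0 (-(k.1 1 0)⁻¹) (neg_ne_zero.mpr (inv_ne_zero hc))) * weyl *
        upper (k.1 1 1 / k.1 1 0) from ?_]
      · exact hQ _ _ (hQ _ _ (hQ _ _ (hU _) (hD _)) hW) (hU _)
      apply Matrix.SpecialLinearGroup.ext
      intro i j
      fin_cases i <;> fin_cases j <;>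
        simp [upper_val, dia_val, weyl_val, Matrix.mul_apply, Fin.sum_univ_two]
      · field_simp
      · field_simp
        linear_combination -hdet
      · field_simp

theorem lift_upper {g : SL(2, F)} {t : F} (hg : (g : Matrix (Fin 2) (Fin 2) F) = !![1, t; 0, 1]) :
    R.lift g = R.x t := by
  show R.toFun g = R.x t
  rw [show g = 1 * upper t by rw [one_mul]; exact Subtype.ext hg, R.toFun_mul_upper, R.toFun_one,
    one_mul]

theorem lift_lower {g : SL(2, F)} {t : F} (hg : (g : Matrix (Fin 2) (Fin 2) F) = !![1, 0; t, 1]) :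
    R.lift g = R.y t := by
  have e : g * weyl = weyl * upper (-t) := by
    apply Subtype.ext
    rw [Matrix.SpecialLinearGroup.coe_mul, Matrix.SpecialLinearGroup.coe_mul, hg, weyl_val, upper_val]
    ext a b
    fin_cases a <;> fin_cases b <;> simp [Matrix.mul_apply, Fin.sum_univ_two]
  have e1 : R.lift weyl = R.w := by
    show R.toFun weyl = R.w
    rw [show (weyl : SL(2, F)) = 1 * weyl from (one_mul _).symm, R.toFun_mul_weyl, R.toFun_one,
      one_mul]
  have h1 := congrArg R.lift e
  rw [map_mul, map_mul, e1, R.lift_upper (g := upper (-t)) rfl, R.w_x, neg_neg] at h1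
  exact mul_right_cancel h1

theorem range_lift : R.lift.range = Subgroup.closure (Set.range R.x ∪ Set.range R.y) := by
  set K := Subgroup.closure (Set.range R.x ∪ Set.range R.y) with hK
  have hx : ∀ t, R.x t ∈ K := fun t => Subgroup.subset_closure (Or.inl ⟨t, rfl⟩)
  have hy : ∀ t, R.y t ∈ K := fun t => Subgroup.subset_closure (Or.inr ⟨t, rfl⟩)
  have hn : ∀ a, R.h a * R.w ∈ K := fun a => by
    rw [R.rel]; exact mul_mem (mul_mem (hx _) (hy _)) (hx _)
  have hw : R.w ∈ K := by simpa using hn 1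
  have hh : ∀ a, R.h a ∈ K := fun a => by simpa using mul_mem (hn a) (inv_mem hw)
  refine le_antisymm ?_ ((Subgroup.closure_le _).mpr ?_)
  · rintro _ ⟨g, rfl⟩
    show R.val _ _ _ _ ∈ K
    rw [val]
    split_ifs
    · exact one_mem _
    · exact mul_mem (hh _) (hx _)
    · exact mul_mem (mul_mem (mul_mem (hx _) (hh _)) hw) (hx _)
  · rintro _ (⟨t, rfl⟩ | ⟨t, rfl⟩)
    · exact ⟨⟨!![1, t; 0, 1], by simp [Matrix.det_fin_two]⟩, R.lift_upper rfl⟩
    · exact ⟨⟨!![1, 0; t, 1], by simp [Matrix.det_fin_two]⟩, R.lift_lower rfl⟩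

end SL2Rel

/-- Multiplying the off-diagonal entries by a sign. -/
def signTwist {F : Type*} [Field F] (k : F) (hk : k * k = 1) : SL(2, F) →* SL(2, F) where
  toFun g := ⟨!![g.1 0 0, k * g.1 0 1; k * g.1 1 0, g.1 1 1], by
    rw [Matrix.det_fin_two_of]
    linear_combination SL2Rel.det_eq g - (g.1 0 1 * g.1 1 0) * hk⟩
  map_one' := by
    apply Subtype.ext
    simp [Matrix.one_fin_two]
  map_mul' g g' := by
    apply Subtype.ext
    show (!![_, _; _, _] : Matrix (Fin 2) (Fin 2) F) = !![_, _; _, _] * !![_, _; _, _]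
    ext i j
    fin_cases i <;> fin_cases j <;>
      simp [Matrix.SpecialLinearGroup.coe_mul, Matrix.mul_apply, Fin.sum_univ_two]
    · linear_combination -(g.1 0 1 * g'.1 1 0) * hk
    · ring
    · ring
    · linear_combination -(g.1 1 0 * g'.1 0 1) * hk

theorem signTwist_val {F : Type*} [Field F] (k : F) (hk : k * k = 1) (g : SL(2, F)) :
    (signTwist k hk g : Matrix (Fin 2) (Fin 2) F) =
      !![g.1 0 0, k * g.1 0 1; k * g.1 1 0, g.1 1 1] := rfl

variable {D : ChevalleyDatum}

namespace Sys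

variable (S : Sys D)
include S

variable (F : Type*) [Field F]

/-- The relations of `SL₂` for a fundamental root. -/
noncomputable def sl2Rel {i : ℕ} (hi : i < D.rank) : SL2Rel F (GL D.Idx F) where
  x := S.xG F (D.simple i)
  y := S.xG F (D.neg (D.simple i))
  h := (tor D F).comp (MonoidHom.mulSingle (fun _ : ℕ => Fˣ) i)
  w := S.nG F (D.simple i) 1
  x_add s t := (S.xG_add F _ s t).symm
  h_x a t := by
    show tor D F (Pi.mulSingle i a) * _ = _ * tor D F (Pi.mulSingle i a)
    rw [← mul_inv_eq_iff_eq_mul, S.tor_conj F _ (S.wf.simple_lt i hi)]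
    congr 2
    rw [torusVal, Finset.prod_eq_single_of_mem i (Finset.mem_range.mpr hi), Pi.mulSingle_eq_same,
      S.cartan_simple hi, Units.val_zpow_eq_zpow_val, zpow_ofNat]
    intro b _ hb
    rw [Pi.mulSingle_eq_of_ne hb, one_zpow]
  w_h a := by
    show _ * tor D F (Pi.mulSingle i a) = tor D F (Pi.mulSingle i a⁻¹) * _
    rw [S.nG_tor F hi, ← Pi.mulSingle_mul]
    congr 3
    rw [torusVal, Finset.prod_eq_single_of_mem i (Finset.mem_range.mpr hi), Pi.mulSingle_eq_same,
      S.cartan_simple hi]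
    · group
    · intro b _ hb
      rw [Pi.mulSingle_eq_of_ne hb, one_zpow]
  w_sq := by
    show _ = tor D F (Pi.mulSingle i (-1))
    have e : tor D F (Pi.mulSingle i (-1)) = S.nG F (D.simple i) (-1) * S.nG F (D.simple i) (-1) := by
      apply Units.ext
      rw [S.tor_single F hi, Units.val_mul, S.nG_val, Units.val_neg, Units.val_one, S.hMat_eq]
    have e2 : tor D F (Pi.mulSingle i (-1)) = (tor D F (Pi.mulSingle i (-1)))⁻¹ := by
      rw [← map_inv, ← Pi.mulSingle_inv, inv_neg, inv_one]
    rw [e2, e, S.nG_neg_one, ← mul_inv_rev, inv_inv]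
  w_x t := by
    have := S.nG_conj_xG F hi (S.wf.simple_lt i hi) t
    rw [S.w_simple hi, S.eta_simple i hi] at this
    simpa using this
  rel a := by
    show tor D F (Pi.mulSingle i a) * _ = _
    rw [← S.nG_eq]
    have e : tor D F (Pi.mulSingle i a) = S.nG F (D.simple i) a * S.nG F (D.simple i) (-1) := by
      apply Units.ext
      rw [S.tor_single F hi, Units.val_mul, S.nG_val, S.nG_val, S.hMat_eq]
    rw [e, S.nG_neg_one, inv_mul_cancel_right]

theorem rootSubgroup_sup (r : ℕ) : D.rootSubgroup F r ⊔ D.rootSubgroup F (D.neg r) =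
    Subgroup.closure (Set.range (S.xG F r) ∪ Set.range (S.xG F (D.neg r))) := by
  have e : ∀ q, (D.rootSubgroup F q : Set (GL D.Idx F)) = Set.range (S.xG F q) := fun q =>
    Set.ext fun g => (S.mem_rootSubgroup F).trans (by simp [eq_comm])
  rw [Subgroup.closure_union, ← e, ← e, Subgroup.closure_eq, Subgroup.closure_eq]

/-- `SL₂` maps onto `⟨X_r, X_{-r}⟩`. -/
theorem exists_sl2_hom {r : ℕ} (hr : r < D.nroots) :
    ∃ φ : SL(2, F) →* GL D.Idx F,
      φ.range = D.rootSubgroup F r ⊔ D.rootSubgroup F (D.neg r) ∧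
      ∀ (g : SL(2, F)) (t : F),
        ((g : Matrix (Fin 2) (Fin 2) F) = !![1, t; 0, 1] → φ g = S.xG F r t) ∧
        ((g : Matrix (Fin 2) (Fin 2) F) = !![1, 0; t, 1] → φ g = S.xG F (D.neg r) t) := by
  revert r
  refine fun {r} hr => S.root_induction (P := fun r => ∃ φ : SL(2, F) →* GL D.Idx F,
      φ.range = D.rootSubgroup F r ⊔ D.rootSubgroup F (D.neg r) ∧
      ∀ (g : SL(2, F)) (t : F),
        ((g : Matrix (Fin 2) (Fin 2) F) = !![1, t; 0, 1] → φ g = S.xG F r t) ∧
        ((g : Matrix (Fin 2) (Fin 2) F) = !![1, 0; t, 1] → φ g = S.xG F (D.neg r) t)) ?_ ?_ r hr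
  · intro i hi
    refine ⟨(S.sl2Rel F hi).lift, ?_, fun g t => ⟨(S.sl2Rel F hi).lift_upper,
      (S.sl2Rel F hi).lift_lower⟩⟩
    rw [S.rootSubgroup_sup, SL2Rel.range_lift]
    rfl
  · rintro i hi r hr ⟨φ, hφ, hφ'⟩
    set k : F := (S.eta i (D.reflectRoot i r) : F) with hkdef
    have hwl := S.w_lt i hi r hr
    have hk : k * k = 1 := by
      rcases S.eta_sign i hi _ hwl with e | e <;> simp [hkdef, e]
    set n := S.nG F (D.simple i) 1
    have hx : ∀ t, n * S.xG F (D.reflectRoot i r) t * n⁻¹ = S.xG F r (k * t) := fun t => by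
      have := S.nG_conj_xG F hi hwl t
      rw [S.w_w i hi r hr] at this
      rw [this, mul_inv_cancel_right]
    have hy : ∀ t, n * S.xG F (D.neg (D.reflectRoot i r)) t * n⁻¹ = S.xG F (D.neg r) (k * t) :=
      fun t => by
        have := S.nG_conj_xG F hi (S.wf.neg_lt _ hwl) t
        rw [S.w_neg i hi _ hwl, S.w_w i hi r hr, S.eta_neg i hi _ hwl] at this
        rw [this, mul_inv_cancel_right]
    refine ⟨(MulAut.conj n).toMonoidHom.comp (φ.comp (signTwist k hk)), ?_, fun g t => ⟨?_, ?_⟩⟩
    · have hsurj : Function.Surjective (signTwist k hk) := fun g => ⟨signTwist k hk g, by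
        apply Matrix.SpecialLinearGroup.ext
        intro a b
        fin_cases a <;> fin_cases b <;> simp [signTwist_val, ← mul_assoc, hk]⟩
      rw [MonoidHom.range_comp, MonoidHom.range_comp, MonoidHom.range_eq_top.mpr hsurj,
        ← MonoidHom.range_eq_map, hφ, Subgroup.map_sup]
      have hmap : ∀ p q, (∀ t, n * S.xG F p t * n⁻¹ = S.xG F q (k * t)) →
          (D.rootSubgroup F p).map (MulAut.conj n).toMonoidHom = D.rootSubgroup F q := by
        intro p q h
        ext g
        simp only [Subgroup.mem_map, MulEquiv.coe_toMonoidHom, MulAut.conj_apply,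
          S.mem_rootSubgroup F]
        constructor
        · rintro ⟨_, ⟨t, rfl⟩, rfl⟩; exact ⟨_, h t⟩
        · rintro ⟨t, rfl⟩; exact ⟨_, ⟨k * t, rfl⟩, by rw [h, ← mul_assoc, hk, one_mul]⟩
      rw [hmap _ _ hx, hmap _ _ hy]
    · intro hg
      have h1 := (hφ' (signTwist k hk g) (k * t)).1 (by rw [signTwist_val, hg]; simp)
      simp only [MonoidHom.comp_apply, MulEquiv.coe_toMonoidHom, MulAut.conj_apply, h1, hx,
        ← mul_assoc, hk, one_mul]
    · intro hg
      have h1 := (hφ' (signTwist k hk g) (k * t)).2 (by rw [signTwist_val, hg]; simp)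
      simp only [MonoidHom.comp_apply, MulEquiv.coe_toMonoidHom, MulAut.conj_apply, h1, hy,
        ← mul_assoc, hk, one_mul]

end Sys

end CfsgLib.Chevalley
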