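import Cfsg.Agent.Chevalley.HighRoot

/-!
Centralisers, in characteristic two, of products of commuting positive root elements: the tools.
-/

set_option autoImplicit false

namespace CfsgLib.Chevalley

open Cfsg.Lie
open scoped Matrix Pointwise

variable {D : ChevalleyDatum}

/-- The subgroup generated by the root elements of the roots in `A`. -/
def genSub (D : ChevalleyDatum) (F : Type*) [Field F] (A : Set ℕ) : Subgroup (GL D.Idx F) :=
  Subgroup.closure {g | ∃ (r : ℕ) (t : F), r ∈ A ∧ (g : Matrix D.Idx D.Idx F) = D.x F r t}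

theorem genSub_union {F : Type*} [Field F] (A B : Set ℕ) :
    genSub D F A ⊔ genSub D F B = genSub D F (A ∪ B) := by
  refine le_antisymm (sup_le (Subgroup.closure_mono ?_) (Subgroup.closure_mono ?_))
    ((Subgroup.closure_le _).mpr ?_)
  · rintro g ⟨r, t, hr, hg⟩; exact ⟨r, t, Or.inl hr, hg⟩
  · rintro g ⟨r, t, hr, hg⟩; exact ⟨r, t, Or.inr hr, hg⟩
  · rintro g ⟨r, t, hr | hr, hg⟩
    · exact Subgroup.mem_sup_left (Subgroup.subset_closure ⟨r, t, hr, hg⟩)
    · exact Subgroup.mem_sup_right (Subgroup.subset_closure ⟨r, t, hr, hg⟩)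

theorem genSub_mono {F : Type*} [Field F] {A B : Set ℕ} (h : A ⊆ B) :
    genSub D F A ≤ genSub D F B :=
  Subgroup.closure_mono fun _ ⟨r, t, hr, hg⟩ => ⟨r, t, h hr, hg⟩

theorem rootSubgroup_eq_genSub (F : Type*) [Field F] (r : ℕ) :
    D.rootSubgroup F r = genSub D F {r} := by
  simp [ChevalleyDatum.rootSubgroup, genSub]

theorem posUnipotent_eq_genSub (F : Type*) [Field F] :
    D.posUnipotent F = genSub D F {r | D.IsPosRoot r} := rfl

/-- Check: every root of `A` either is in `R` or has even commutator coefficients with the roots in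
`R` other than itself, and none is the negative of one of these. -/
def chkEvenComm (D : ChevalleyDatum) (R A : List ℕ) : Bool :=
  A.all fun s => decide (s < D.nroots) && R.all fun r => decide (r < D.nroots) &&
    decide (s ≠ D.neg r) && ((s == r) || (D.commTerms r s).all fun c => decide (c.2.1 % 2 = 0))

/-- Check: the roots of `R` commute modulo the roots of `W` with the roots of `A`. -/
def chkModComm (D : ChevalleyDatum) (R W A : List ℕ) : Bool :=
  A.all fun s => decide (s < D.nroots) && R.all fun r => decide (r < D.nroots) &&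
    decide (r ≠ D.neg s) && ((s == r) || (D.commTerms s r).all fun c =>
      decide (c.2.1 % 2 = 0) || W.contains c.1)

/-- Check: the roots fixed by the fundamental reflections in `J` and the weighted sum of their
pairings separating the negative roots from the other fundamental roots. -/
def chkStab (D : ChevalleyDatum) (Rw : List (ℕ × ℤ)) (J : List ℕ) : Bool :=
  ((List.range D.rank).all fun i =>
    if J.contains i then Rw.all fun e => decide (D.cartan i e.1 = 0)
    else decide (0 < (Rw.map fun e => e.2 * D.pairing e.1 (D.simple i)).sum)) &&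
  (List.range (D.nroots / 2)).all fun s =>
    decide ((Rw.map fun e => e.2 * D.pairing e.1 s).sum ≤ 0)

/-- No root is a positive combination of two roots in `P`. -/
def Sys.Spread (S : Sys D) (P : Set ℕ) : Prop :=
  ∀ r ∈ P, ∀ s ∈ P, ∀ k < D.nroots, ∀ i j : ℕ, 1 ≤ i → 1 ≤ j →
    ¬ ∀ m < D.rank, S.vec m k = i * S.vec m r + j * S.vec m s

/-- The product of the root elements `x_r(f r)` along a list. -/
noncomputable def Sys.xProd (S : Sys D) (F : Type*) [Field F] (L : List ℕ) (f : ℕ → F) :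
    GL D.Idx F := (L.map fun r => S.xG F r (f r)).prod

namespace Sys

variable (S : Sys D)
include S

theorem Spread.mono {P Q : Set ℕ} (h : S.Spread Q) (hPQ : P ⊆ Q) : S.Spread P :=
  fun r hr s hs => h r (hPQ hr) s (hPQ hs)

theorem closed_of_spread {P : Set ℕ} (h : S.Spread P) : S.Closed P :=
  fun r hr s hs _ _ k hk i j hi hj hv => absurd hv (h r hr s hs k hk i j hi hj)

theorem spread_of_coord (hH : S.HighFacts) {P : Set ℕ} {m : ℕ} (hm : m < D.rank)
    (h : ∀ r ∈ P, S.vec m (topIdx D) < 2 * S.vec m r) : S.Spread P := by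
  intro r hr s hs k hk i j hi hj hv
  have h1 := hH.le_top k hk m hm
  rw [hv m hm] at h1
  have h2 := h r hr
  have h3 := h s hs
  have h4 := S.vec_pos _ hH.lt hH.half_le m hm
  have e1 : S.vec m r ≤ (i : ℤ) * S.vec m r := le_mul_of_one_le_left (by omega) (by omega)
  have e2 : S.vec m s ≤ (j : ℤ) * S.vec m s := le_mul_of_one_le_left (by omega) (by omega)
  omega

theorem spread_commTerms {P : Set ℕ} (h : S.Spread P) {r s : ℕ} (hr : r ∈ P) (hs : s ∈ P)
    (hrl : r < D.nroots) (hsl : s < D.nroots) : D.commTerms r s = [] := by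
  rw [List.eq_nil_iff_forall_not_mem]
  intro c hc
  obtain ⟨c1, c2, c3⟩ := S.commTerms_vec hrl hsl hc
  exact h r hr s hs c.1 (S.commTerms_lt hrl hsl hc) _ _ c1 c2 c3

variable (F : Type*) [Field F]

theorem xG_mem_genSub {A : Set ℕ} {r : ℕ} (hr : r ∈ A) (t : F) : S.xG F r t ∈ genSub D F A :=
  Subgroup.subset_closure ⟨r, t, hr, S.xG_val F r t⟩

theorem genSub_le {A : Set ℕ} {H : Subgroup (GL D.Idx F)} (h : ∀ r ∈ A, ∀ t, S.xG F r t ∈ H) :
    genSub D F A ≤ H := by
  refine (Subgroup.closure_le _).mpr ?_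
  rintro g ⟨r, t, hr, hg⟩
  rw [S.eq_xG F hg]
  exact h r hr t

theorem genSub_le_group {A : Set ℕ} (hA : ∀ r ∈ A, r < D.nroots) :
    genSub D F A ≤ D.group F :=
  S.genSub_le F fun r hr t => S.xG_mem F (hA r hr) t

theorem uSub_le_genSub {P A : Set ℕ} (h : ∀ r ∈ P, D.IsPosRoot r → r ∈ A) :
    uSub D F P ≤ genSub D F A :=
  S.uSub_le F fun r hr h1 h2 t => S.xG_mem_genSub F (h r hr ((S.pos_iff r).mpr ⟨h1, h2⟩)) t

theorem diagonal_le_normalizer_genSub {A : Set ℕ} (hA : ∀ r ∈ A, r < D.nroots) :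
    D.diagonalSubgroup F ≤ Subgroup.normalizer (genSub D F A : Set (GL D.Idx F)) := by
  rw [S.diagonal_eq]
  refine le_normalizer_of_conj_mem ?_
  rintro _ ⟨c, rfl⟩ g hg
  refine closure_conj_mem ?_ hg
  rintro x ⟨r, t, hr, hx⟩
  rw [S.eq_xG F hx, S.tor_conj F c (hA r hr)]
  exact S.xG_mem_genSub F hr _

/-- Conjugating one root element by another. -/
theorem xG_conj {r s : ℕ} (hr : r < D.nroots) (hs : s < D.nroots) (h1 : s ≠ r)
    (h2 : s ≠ D.neg r) (t u : F) :
    S.xG F r t * S.xG F s u * (S.xG F r t)⁻¹ = S.xG F s u * S.wG F (D.commWord F r s (-t) u) := by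
  rw [← S.xG_comm F hr hs h1 h2 (-t) u, S.xG_inv, S.xG_inv, neg_neg]

theorem int_cast_eq_zero [CharP F 2] {z : ℤ} (h : z % 2 = 0) : (z : F) = 0 :=
  (CharP.intCast_eq_zero_iff F 2 z).mpr (Int.dvd_of_emod_eq_zero (by simpa using h))

theorem wG_commWord_one [CharP F 2] {r s : ℕ} (h : ∀ c ∈ D.commTerms r s, c.2.1 % 2 = 0)
    (t u : F) : S.wG F (D.commWord F r s t u) = 1 := by
  refine List.prod_eq_one fun g hg => ?_
  simp only [ChevalleyDatum.commWord, List.map_map, List.mem_map, Function.comp_apply] at hg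
  obtain ⟨c, hc, rfl⟩ := hg
  rw [S.int_cast_eq_zero F (h c hc), zero_mul, zero_mul, S.xG_zero]

theorem evenComm_commute [CharP F 2] {R A : List ℕ} (h : chkEvenComm D R A = true) {r s : ℕ}
    (hr : r ∈ R) (hs : s ∈ A) (t u : F) : Commute (S.xG F r t) (S.xG F s u) := by
  simp only [chkEvenComm, List.all_eq_true, Bool.and_eq_true, decide_eq_true_eq, Bool.or_eq_true,
    beq_iff_eq] at h
  obtain ⟨hsl, h'⟩ := h s hs
  obtain ⟨⟨hrl, hne⟩, h''⟩ := h' r hr
  by_cases hsr : s = r
  · subst hsr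
    show _ * _ = _ * _
    rw [S.xG_add, S.xG_add, add_comm]
  have h3 := h''.resolve_left hsr
  have e := S.xG_conj F hrl hsl hsr hne t u
  rw [S.wG_commWord_one F h3, mul_one, mul_inv_eq_iff_eq_mul] at e
  exact e

theorem genSub_le_centralizer [CharP F 2] {R A : List ℕ} (h : chkEvenComm D R A = true)
    {f : ℕ → F} : genSub D F {r | r ∈ A} ≤ Subgroup.centralizer {S.xProd F R f} := by
  refine S.genSub_le F fun s hs u => Subgroup.mem_centralizer_singleton_iff.mpr ?_
  refine (Commute.list_prod_right _ _ fun g hg => ?_).eq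
  obtain ⟨r, hr, rfl⟩ := List.mem_map.mp hg
  exact (S.evenComm_commute F h hr hs _ u).symm

theorem xProd_nil (f : ℕ → F) : S.xProd F [] f = 1 := rfl

theorem xProd_cons (r : ℕ) (L : List ℕ) (f : ℕ → F) :
    S.xProd F (r :: L) f = S.xG F r (f r) * S.xProd F L f := rfl

theorem xProd_congr {L : List ℕ} {f g : ℕ → F} (h : ∀ r ∈ L, f r = g r) :
    S.xProd F L f = S.xProd F L g := by
  rw [xProd, xProd]
  exact congrArg List.prod (List.map_congr_left fun r hr => by rw [h r hr])

theorem xProd_mem {L : List ℕ} {f : ℕ → F} {P : Set ℕ}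
    (hpos : ∀ r ∈ L, D.nroots / 2 ≤ r ∧ r < D.nroots) (h : ∀ r ∈ L, f r ≠ 0 → r ∈ P) :
    S.xProd F L f ∈ uSub D F P := by
  refine Subgroup.list_prod_mem _ fun g hg => ?_
  obtain ⟨r, hr, rfl⟩ := List.mem_map.mp hg
  by_cases h0 : f r = 0
  · rw [h0, S.xG_zero]; exact one_mem _
  · exact S.xG_mem_uSub F (h r hr h0) (hpos r hr).1 (hpos r hr).2 _

theorem spread_commute {P : Set ℕ} (h : S.Spread P) {r s : ℕ} (hr : r ∈ P) (hs : s ∈ P)
    (hrl : D.nroots / 2 ≤ r ∧ r < D.nroots) (hsl : D.nroots / 2 ≤ s ∧ s < D.nroots) (t u : F) :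
    Commute (S.xG F r t) (S.xG F s u) := by
  by_cases hsr : s = r
  · subst hsr
    show _ * _ = _ * _
    rw [S.xG_add, S.xG_add, add_comm]
  · refine S.xG_commute F hrl.2 hsl.2 hsr (fun e => ?_) (S.spread_commTerms h hr hs hrl.2 hsl.2) t u
    have := (S.neg_half r hrl.2).mpr hrl.1
    omega

theorem xProd_filter {L : List ℕ} (hL : S.Spread {r | r ∈ L})
    (hpos : ∀ r ∈ L, D.nroots / 2 ≤ r ∧ r < D.nroots) (f : ℕ → F) (q : ℕ → Bool) :
    S.xProd F L f = S.xProd F (L.filter q) f * S.xProd F (L.filter fun r => !q r) f := by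
  induction L with
  | nil => simp [xProd]
  | cons a L ih =>
    have hL' : S.Spread {r | r ∈ L} := hL.mono S fun r hr => List.mem_cons_of_mem _ hr
    have hpos' := (List.forall_mem_cons.mp hpos).2
    have hcomm : Commute (S.xG F a (f a)) (S.xProd F (L.filter q) f) := by
      refine Commute.list_prod_right _ _ fun g hg => ?_
      obtain ⟨r, hr, rfl⟩ := List.mem_map.mp hg
      have hr' := (List.mem_filter.mp hr).1
      exact S.spread_commute F hL (List.mem_cons_self ..) (List.mem_cons_of_mem _ hr')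
        (hpos a (List.mem_cons_self ..)) (hpos r (List.mem_cons_of_mem _ hr')) _ _
    rw [xProd_cons, ih hL' hpos']
    cases hq : q a
    · rw [List.filter_cons_of_neg (by simp [hq]), List.filter_cons_of_pos (by simp [hq]),
        xProd_cons, ← mul_assoc, hcomm.eq, mul_assoc]
    · rw [List.filter_cons_of_pos (by simp [hq]), List.filter_cons_of_neg (by simp [hq]),
        xProd_cons, mul_assoc]

/-- The support of a product of root elements with spread roots. -/
theorem xProd_support {f : ℕ → F} {P : Set ℕ} (hP : S.Closed P) : ∀ L : List ℕ, L.Nodup →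
    (∀ r ∈ L, D.nroots / 2 ≤ r ∧ r < D.nroots) → S.Spread {r | r ∈ L} →
    S.xProd F L f ∈ uSub D F P → ∀ r ∈ L, f r ≠ 0 → r ∈ P := by
  intro L
  induction L generalizing P with
  | nil => intro _ _ _ _ r hr; simp at hr
  | cons a L ih =>
    intro hnd hpos hL hmem r hr h0
    obtain ⟨hna, hnd'⟩ := List.nodup_cons.mp hnd
    obtain ⟨hpa, hpos'⟩ := List.forall_mem_cons.mp hpos
    have hL' : S.Spread {r | r ∈ L} := hL.mono S fun r hr => List.mem_cons_of_mem _ hr
    set P' : Set ℕ := {s | s ∈ a :: L ∧ s ∈ P} with hP'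
    have hc1 : S.Closed {s | s ∈ a :: L} := S.closed_of_spread hL
    have hmem' : S.xProd F (a :: L) f ∈ uSub D F ({s | s ∈ a :: L} ∩ P) :=
      (S.uSub_inf F hc1 hP).le ⟨S.xProd_mem F hpos fun s hs _ => hs, hmem⟩
    have hrest : S.xProd F L f ∈ uSub D F {s | s ∈ L} := S.xProd_mem F hpos' fun s hs _ => hs
    have hxa : S.xG F a (f a) ∈ uSub D F (({s | s ∈ a :: L} ∩ P) ∪ {s | s ∈ L}) := by
      rw [← mul_inv_cancel_right (S.xG F a (f a)) (S.xProd F L f), ← xProd_cons]
      exact mul_mem (uSub_mono Set.subset_union_left hmem')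
        (inv_mem (uSub_mono Set.subset_union_right hrest))
    have ha : f a ≠ 0 → a ∈ P := by
      intro h
      have hc : S.Closed (({s | s ∈ a :: L} ∩ P) ∪ {s | s ∈ L}) := S.closed_of_spread
        (hL.mono S (Set.union_subset Set.inter_subset_left fun s hs => List.mem_cons_of_mem _ hs))
      rcases (S.xG_mem_uSub_iff F hc hpa.2 h hxa).1 with h' | h'
      · exact h'.2
      · exact absurd h' hna
    rcases List.mem_cons.mp hr with rfl | hr'
    · exact ha h0
    have hx : S.xG F a (f a) ∈ uSub D F P := by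
      by_cases h : f a = 0
      · rw [h, S.xG_zero]; exact one_mem _
      · exact S.xG_mem_uSub F (ha h) hpa.1 hpa.2 _
    have hL2 : S.xProd F L f ∈ uSub D F P := by
      rw [show S.xProd F L f = (S.xG F a (f a))⁻¹ * S.xProd F (a :: L) f by
        rw [xProd_cons, inv_mul_cancel_left]]
      exact mul_mem (inv_mem hx) hmem
    exact ih hP hnd' hpos' hL' hL2 r hr' h0

theorem xProd_eq_one {f : ℕ → F} {L : List ℕ} (hnd : L.Nodup)
    (hpos : ∀ r ∈ L, D.nroots / 2 ≤ r ∧ r < D.nroots) (hL : S.Spread {r | r ∈ L})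
    (h : S.xProd F L f = 1) : ∀ r ∈ L, f r = 0 := by
  intro r hr
  by_contra h0
  exact S.xProd_support F (P := ∅) (fun r hr => absurd hr (Set.notMem_empty r)) L hnd hpos hL
    (h ▸ one_mem _) r hr h0

theorem xProd_mul {L : List ℕ} (hL : S.Spread {r | r ∈ L})
    (hpos : ∀ r ∈ L, D.nroots / 2 ≤ r ∧ r < D.nroots) (f g : ℕ → F) :
    S.xProd F L f * S.xProd F L g = S.xProd F L fun r => f r + g r := by
  induction L with
  | nil => simp [xProd]
  | cons a L ih =>
    have hcomm : Commute (S.xProd F L f) (S.xG F a (g a)) := by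
      refine (Commute.list_prod_right _ _ fun x hx => ?_).symm
      obtain ⟨r, hr, rfl⟩ := List.mem_map.mp hx
      exact S.spread_commute F hL (List.mem_cons_self ..) (List.mem_cons_of_mem _ hr)
        (hpos a (List.mem_cons_self ..)) (hpos r (List.mem_cons_of_mem _ hr)) _ _
    have ih' := ih (hL.mono S fun r hr => List.mem_cons_of_mem _ hr)
      (List.forall_mem_cons.mp hpos).2
    rw [xProd_cons, xProd_cons, xProd_cons, ← ih', mul_assoc,
      ← mul_assoc (S.xProd F L f), hcomm.eq]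
    simp only [← mul_assoc, S.xG_add]

theorem xProd_inj {f g : ℕ → F} {L : List ℕ} (hnd : L.Nodup)
    (hpos : ∀ r ∈ L, D.nroots / 2 ≤ r ∧ r < D.nroots) (hL : S.Spread {r | r ∈ L})
    (h : S.xProd F L f = S.xProd F L g) : ∀ r ∈ L, f r = g r := by
  intro r hr
  have e : S.xProd F L (fun r => f r - g r) * S.xProd F L g = 1 * S.xProd F L g := by
    rw [S.xProd_mul F hL hpos, one_mul, ← h]
    exact S.xProd_congr F fun r _ => sub_add_cancel _ _
  exact sub_eq_zero.mp (S.xProd_eq_one F hnd hpos hL (mul_right_cancel e) r hr)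

theorem tor_conj_xProd (c : ℕ → Fˣ) {L : List ℕ} (hlt : ∀ r ∈ L, r < D.nroots) (f : ℕ → F) :
    tor D F c * S.xProd F L f * (tor D F c)⁻¹ =
      S.xProd F L fun r => (torusVal D c r : F) * f r := by
  induction L with
  | nil => simp [xProd]
  | cons a L ih =>
    rw [List.forall_mem_cons] at hlt
    rw [xProd_cons, xProd_cons, ← ih hlt.2, ← S.tor_conj F c hlt.1]
    group

/-- If a monomial element carries a product of spread positive root elements into `uSub P`, then
it carries the roots occurring in the product into `P`. -/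
theorem perm_support (n : ↥(D.monomialSubgroup F)) {L : List ℕ} {f : ℕ → F} (hnd : L.Nodup)
    (hpos : ∀ r ∈ L, D.nroots / 2 ≤ r ∧ r < D.nroots) (hL : S.Spread {r | r ∈ L}) {P : Set ℕ}
    (hP : S.Closed P)
    (h : (n : GL D.Idx F) * S.xProd F L f * (n : GL D.Idx F)⁻¹ ∈ uSub D F P) :
    ∀ r (hr : r ∈ L), f r ≠ 0 → (S.perm F n ⟨r, (hpos r hr).2⟩ : ℕ) ∈ P := by
  classical
  let σ : ℕ → ℕ := fun r => if hr : r < D.nroots then (S.perm F n ⟨r, hr⟩ : ℕ) else r
  let q : ℕ → Bool := fun r => decide (D.nroots / 2 ≤ σ r)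
  have hσ : ∀ r (hr : r < D.nroots), σ r = (S.perm F n ⟨r, hr⟩ : ℕ) := fun r hr => dif_pos hr
  have hσlt : ∀ r < D.nroots, σ r < D.nroots := fun r hr => by rw [hσ r hr]; exact Fin.isLt _
  have hσinj : ∀ r < D.nroots, ∀ s < D.nroots, σ r = σ s → r = s := by
    intro r hr s hs e
    rw [hσ r hr, hσ s hs] at e
    simpa using (S.perm F n).injective (Fin.ext e)
  choose c hc0 hc using fun s : Fin D.nroots => S.conj_root F n s
  let k : ℕ → F := fun s => if hs : s < D.nroots then
    c ((S.perm F n).symm ⟨s, hs⟩) * f ((S.perm F n).symm ⟨s, hs⟩ : ℕ) else 0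
  have hconj : ∀ M : List ℕ, (∀ r ∈ M, r < D.nroots) →
      (n : GL D.Idx F) * S.xProd F M f * (n : GL D.Idx F)⁻¹ = S.xProd F (M.map σ) k := by
    intro M hM
    induction M with
    | nil => simp [xProd]
    | cons a M ih =>
      rw [List.forall_mem_cons] at hM
      rw [List.map_cons, xProd_cons, xProd_cons, ← ih hM.2]
      have e : S.xG F (σ a) (k (σ a)) =
          (n : GL D.Idx F) * S.xG F a (f a) * (n : GL D.Idx F)⁻¹ := by
        have := (hc ⟨a, hM.1⟩ (f a)).1
        rw [this, hσ a hM.1]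
        congr 1
        simp [k]
      rw [e]
      group
  have hlt : ∀ r ∈ L, r < D.nroots := fun r hr => (hpos r hr).2
  set Lp := L.filter q with hLp
  set Ln := L.filter fun r => !q r with hLn
  have hsplit := S.xProd_filter F hL hpos f q
  rw [← hLp, ← hLn] at hsplit
  have hpp : ∀ r ∈ Lp, r ∈ L ∧ D.nroots / 2 ≤ σ r := fun r hr => by
    rw [hLp, List.mem_filter] at hr
    exact ⟨hr.1, by simpa [q] using hr.2⟩
  have hnn : ∀ r ∈ Ln, r ∈ L ∧ σ r < D.nroots / 2 := fun r hr => by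
    rw [hLn, List.mem_filter] at hr
    exact ⟨hr.1, by simpa [q] using hr.2⟩
  have hposi : ∀ s ∈ Lp.map σ, D.nroots / 2 ≤ s ∧ s < D.nroots := by
    intro s hs
    obtain ⟨r, hr, rfl⟩ := List.mem_map.mp hs
    exact ⟨(hpp r hr).2, hσlt r (hlt r (hpp r hr).1)⟩
  have hsp : S.Spread {s | s ∈ Lp.map σ} := by
    intro a ha b hb x hx i j hi hj hv
    obtain ⟨a, ha', rfl⟩ := List.mem_map.mp ha
    obtain ⟨b, hb', rfl⟩ := List.mem_map.mp hb
    have hal := hlt a (hpp a ha').1
    have hbl := hlt b (hpp b hb').1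
    refine hL a (hpp a ha').1 b (hpp b hb').1 ((S.perm F n).symm ⟨x, hx⟩ : ℕ) (Fin.isLt _) i j
      hi hj fun m hm => ?_
    have h' := S.vec_perm F n⁻¹ (k := ⟨x, hx⟩) (r := ⟨σ a, hσlt a hal⟩) (s := ⟨σ b, hσlt b hbl⟩)
      i j hv m hm
    simp only [map_inv, hσ a hal, hσ b hbl, Fin.eta] at h'
    simpa using h'
  have hw := h
  rw [hsplit, show (n : GL D.Idx F) * (S.xProd F Lp f * S.xProd F Ln f) * (n : GL D.Idx F)⁻¹ =
    ((n : GL D.Idx F) * S.xProd F Lp f * (n : GL D.Idx F)⁻¹) *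
      ((n : GL D.Idx F) * S.xProd F Ln f * (n : GL D.Idx F)⁻¹) by group,
    hconj Lp fun r hr => hlt r (hpp r hr).1] at hw
  have hpU : S.xProd F (Lp.map σ) k ∈ uSub D F (Set.univ) :=
    S.xProd_mem F hposi fun _ _ _ => trivial
  have hnU : (n : GL D.Idx F) * S.xProd F Ln f * (n : GL D.Idx F)⁻¹ ∈ D.negUnipotent F := by
    rw [hconj Ln fun r hr => hlt r (hnn r hr).1]
    refine Subgroup.list_prod_mem _ fun g hg => ?_
    simp only [List.map_map, List.mem_map, Function.comp_apply] at hg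
    obtain ⟨r, hr, rfl⟩ := hg
    exact S.xG_mem_negUnipotent F (hnn r hr).2 _
  have hone : (n : GL D.Idx F) * S.xProd F Ln f * (n : GL D.Idx F)⁻¹ = 1 := by
    refine Subgroup.mem_bot.mp ((S.borel_inf_neg F).le ⟨Subgroup.mem_sup_left ?_, hnU⟩)
    rw [← uSub_univ]
    have h2 := mul_mem (inv_mem hpU) (uSub_mono (Set.subset_univ P) hw)
    rwa [inv_mul_cancel_left] at h2
  rw [hone, mul_one] at hw
  have hn0 : ∀ r ∈ Ln, f r = 0 := by
    refine S.xProd_eq_one F (hnd.filter _) (fun r hr => hpos r (hnn r hr).1)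
      (hL.mono S fun r hr => (hnn r hr).1) ?_
    rwa [mul_inv_eq_one, mul_eq_left] at hone
  intro r hr h0
  have hrp : r ∈ Lp := by
    rw [hLp, List.mem_filter]
    refine ⟨hr, ?_⟩
    by_contra hq
    exact h0 (hn0 r (by rw [hLn, List.mem_filter]; exact ⟨hr, by simpa using hq⟩))
  have hnd' : (Lp.map σ).Nodup := (hnd.filter _).map_on fun a ha b hb e =>
    hσinj a (hlt a (hpp a ha).1) b (hlt b (hpp b hb).1) e
  have hk : k (σ r) ≠ 0 := by
    simp only [k, dif_pos (hσlt r (hlt r hr))]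
    have : (S.perm F n).symm ⟨σ r, hσlt r (hlt r hr)⟩ = ⟨r, hlt r hr⟩ := by
      rw [Equiv.symm_apply_eq]; exact Fin.ext (hσ r _)
    rw [this]
    exact mul_ne_zero (hc0 _) h0
  have := S.xProd_support F hP _ hnd' hposi hsp hw (σ r) (List.mem_map.mpr ⟨r, hrp, rfl⟩) hk
  rwa [hσ r (hlt r hr)] at this

/-- Modulo the normal part `uSub W`, the roots of `R` are central in `U`. -/
theorem pos_conj_mod [CharP F 2] {R W A : List ℕ} (h : chkModComm D R W A = true)
    (hW : chkModComm D W W A = true) (hA : ∀ r, D.IsPosRoot r → r ∈ A)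
    (hWpos : ∀ r ∈ W, D.nroots / 2 ≤ r ∧ r < D.nroots) {u : GL D.Idx F}
    (hu : u ∈ D.posUnipotent F) :
    (∀ x ∈ uSub D F {r | r ∈ W}, u * x * u⁻¹ ∈ uSub D F {r | r ∈ W}) ∧
      ∀ r ∈ R, ∀ t, (S.xG F r t)⁻¹ * (u * S.xG F r t * u⁻¹) ∈ uSub D F {r | r ∈ W} := by
  have step : ∀ {R : List ℕ}, chkModComm D R W A = true → ∀ s, D.IsPosRoot s → ∀ a : F,
      ∀ r ∈ R, ∀ t,
      (S.xG F r t)⁻¹ * (S.xG F s a * S.xG F r t * (S.xG F s a)⁻¹) ∈ uSub D F {r | r ∈ W} := by
    intro R h s hs a r hr t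
    simp only [chkModComm, List.all_eq_true, Bool.and_eq_true, decide_eq_true_eq,
      Bool.or_eq_true, beq_iff_eq, List.contains_iff_mem] at h
    obtain ⟨hsl, h'⟩ := h s (hA s hs)
    obtain ⟨⟨hrl, hne⟩, h''⟩ := h' r hr
    by_cases hsr : s = r
    · subst hsr
      rw [S.xG_inv, S.xG_inv, S.xG_add, S.xG_add, S.xG_add]
      rw [show -t + (a + t + -a) = 0 by ring, S.xG_zero]
      exact one_mem _
    have h3 := h''.resolve_left hsr
    rw [S.xG_conj F hsl hrl (Ne.symm hsr) hne a t, inv_mul_cancel_left]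
    refine Subgroup.list_prod_mem _ fun g hg => ?_
    simp only [ChevalleyDatum.commWord, List.map_map, List.mem_map, Function.comp_apply] at hg
    obtain ⟨c, hc, rfl⟩ := hg
    rcases h3 c hc with h4 | h4
    · rw [S.int_cast_eq_zero F h4, zero_mul, zero_mul, S.xG_zero]; exact one_mem _
    · exact S.xG_mem_uSub F h4 (hWpos _ h4).1 (hWpos _ h4).2 _
  rw [← uSub_univ] at hu
  induction hu using Subgroup.closure_induction'' with
  | mem x hx =>
    obtain ⟨s, a, ⟨-, hs⟩, hx⟩ := hx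
    rw [S.eq_xG F hx]
    refine ⟨fun x hx => closure_conj_mem ?_ hx, step h s hs a⟩
    rintro y ⟨w, b, ⟨hw, hwp⟩, hy⟩
    rw [S.eq_xG F hy]
    have := mul_mem (S.xG_mem_uSub F hw (hWpos _ hw).1 (hWpos _ hw).2 b) (step hW s hs a w hw b)
    rwa [mul_inv_cancel_left] at this
  | inv_mem x hx =>
    obtain ⟨s, a, ⟨-, hs⟩, hx⟩ := hx
    rw [S.eq_xG F hx, S.xG_inv]
    refine ⟨fun x hx => closure_conj_mem ?_ hx, step h s hs (-a)⟩
    rintro y ⟨w, b, ⟨hw, hwp⟩, hy⟩
    rw [S.eq_xG F hy]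
    have := mul_mem (S.xG_mem_uSub F hw (hWpos _ hw).1 (hWpos _ hw).2 b)
      (step hW s hs (-a) w hw b)
    rwa [mul_inv_cancel_left] at this
  | one => exact ⟨fun x hx => by simpa using hx, fun r _ t => by simp⟩
  | mul u v _ _ hu hv =>
    refine ⟨fun x hx => ?_, fun r hr t => ?_⟩
    · have := hu.1 _ (hv.1 x hx)
      rwa [show u * (v * x * v⁻¹) * u⁻¹ = u * v * x * (u * v)⁻¹ by group] at this
    · have := mul_mem (hu.2 r hr t) (hu.1 _ (hv.2 r hr t))
      rwa [show (S.xG F r t)⁻¹ * (u * S.xG F r t * u⁻¹) *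
        (u * ((S.xG F r t)⁻¹ * (v * S.xG F r t * v⁻¹)) * u⁻¹) =
        (S.xG F r t)⁻¹ * (u * v * S.xG F r t * (u * v)⁻¹) by group] at this

/-- The stabiliser in the monomial group of a dominant combination of roots. -/
theorem stab_mem {Rw : List (ℕ × ℤ)} {J : List ℕ} (hc : chkStab D Rw J = true)
    {Q : Subgroup (GL D.Idx F)} (hQ : ∀ j < D.rank, j ∈ J → S.nG F (D.simple j) 1 ∈ Q)
    (n : ↥(D.monomialSubgroup F))
    (hn : ∀ e ∈ Rw, ∃ he : e.1 < D.nroots, (S.perm F n ⟨e.1, he⟩ : ℕ) = e.1) :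
    (n : GL D.Idx F) ∈ Q ⊔ D.diagonalSubgroup F := by
  simp only [chkStab, Bool.and_eq_true, List.all_eq_true, List.mem_range, decide_eq_true_eq] at hc
  obtain ⟨hJ, hneg⟩ := hc
  suffices ∀ k : ℕ, ∀ n : ↥(D.monomialSubgroup F), (invSet (S.perm F n)).card = k →
      (∀ e ∈ Rw, ∃ he : e.1 < D.nroots, (S.perm F n ⟨e.1, he⟩ : ℕ) = e.1) →
      (n : GL D.Idx F) ∈ Q ⊔ D.diagonalSubgroup F from this _ n rfl hn
  intro k
  induction k using Nat.strong_induction_on with
  | _ k ih =>
    intro n hk hfix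
    obtain ⟨L, hL⟩ := S.exists_wperm F n
    by_cases hall : ∀ i : Fin D.rank, D.nroots / 2 ≤ (S.perm F n (S.simpleF i) : ℕ)
    · have h1 : S.wperm L = 1 := S.wperm_eq_one F L fun s hs =>
        S.keeps_sub (J := List.range D.rank) (U := L) (fun j _ => hL ▸ hall j)
          (fun m hm hmJ => absurd (List.mem_range.mpr hm) hmJ) hs
      have h2 : n ∈ hSub D F := by rw [← S.ker_perm, MonoidHom.mem_ker, hL, h1]
      exact Subgroup.mem_sup_right h2
    push Not at hall
    obtain ⟨i, hi⟩ := hall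
    have hiJ : (i : ℕ) ∈ J := by
      by_contra hne
      have h1 := hJ i i.isLt
      rw [if_neg (by simpa using hne), decide_eq_true_eq] at h1
      have h2 := hneg _ hi
      refine absurd h2 (not_le.mpr (lt_of_lt_of_eq h1 (congrArg List.sum
        (List.map_congr_left fun e he => ?_))))
      obtain ⟨hel, hef⟩ := hfix e he
      have h3 := S.pairing_wperm L ⟨e.1, hel⟩ (S.simpleF i)
      rw [← hL, hef] at h3
      rw [h3]
      rfl
    have hi0 : ∀ e ∈ Rw, D.cartan i e.1 = 0 := by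
      have h1 := hJ i i.isLt
      rw [if_pos (by simpa using hiJ)] at h1
      simpa using h1
    set m := n * S.nN F i with hm
    have hpm : S.perm F m = S.perm F n * S.srefl i := by rw [hm, map_mul, S.perm_nN]
    have hcard : (invSet (S.perm F n)).card = (invSet (S.perm F m)).card + 1 := by
      have h := S.card_inv_mul_srefl (σ := S.perm F m) i (S.perm_negF F m) (by
        rw [hpm, Equiv.Perm.mul_apply, S.srefl_simple, S.perm_negF]
        exact S.root_lt_pos (Fin.isLt _) hi)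
      rwa [hpm, mul_assoc, S.srefl_mul_self, mul_one, ← hpm] at h
    have hfix' : ∀ e ∈ Rw, ∃ he : e.1 < D.nroots, (S.perm F m ⟨e.1, he⟩ : ℕ) = e.1 := by
      intro e he
      obtain ⟨hel, hef⟩ := hfix e he
      refine ⟨hel, ?_⟩
      have e' : S.srefl i ⟨e.1, hel⟩ = ⟨e.1, hel⟩ := Fin.ext (S.w_fix i.isLt hel (hi0 e he))
      rw [hpm, Equiv.Perm.mul_apply, e', hef]
    have hnn : (n : GL D.Idx F) = (m : GL D.Idx F) * (S.nG F (D.simple i) 1)⁻¹ := by
      rw [hm, Subgroup.coe_mul]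
      exact (mul_inv_cancel_right _ _).symm
    rw [hnn]
    exact mul_mem (ih _ (by omega) m rfl hfix')
      (inv_mem (Subgroup.mem_sup_left (hQ i i.isLt hiJ)))

theorem nG_mem_genSub {A : Set ℕ} {r : ℕ} (h1 : r ∈ A) (h2 : D.neg r ∈ A) (t : F) :
    S.nG F r t ∈ genSub D F A := by
  rw [S.nG_eq]
  exact mul_mem (mul_mem (S.xG_mem_genSub F h1 _) (S.xG_mem_genSub F h2 _))
    (S.xG_mem_genSub F h1 _)

/-- A torus element whose parameters outside `J` are trivial. -/
theorem tor_mem_genSub {A : Set ℕ} (d : ℕ → Fˣ)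
    (h : ∀ j < D.rank, (D.simple j ∈ A ∧ D.neg (D.simple j) ∈ A) ∨ d j = 1) :
    tor D F d ∈ genSub D F A := by
  have hcd : tor D F d = tor D F (∏ j ∈ Finset.range D.rank, Pi.mulSingle j (d j)) := by
    apply Units.ext
    rw [S.tor_val, S.tor_val]
    refine dg_congr fun s _ => ?_
    congr 1
    refine Finset.prod_congr rfl fun j hj => ?_
    rw [Finset.prod_apply, Finset.prod_eq_single_of_mem j hj, Pi.mulSingle_eq_same]
    intro b _ hb
    exact Pi.mulSingle_eq_of_ne hb.symm _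
  rw [hcd, ← Subgroup.mem_comap]
  refine Subgroup.prod_mem _ fun j hj => ?_
  rw [Subgroup.mem_comap]
  have hj' := Finset.mem_range.mp hj
  rcases h j hj' with ⟨h1, h2⟩ | h1
  · have e1 : tor D F (Pi.mulSingle j (d j)) =
        S.nG F (D.simple j) (d j : F) * S.nG F (D.simple j) (-1) := by
      apply Units.ext
      rw [S.tor_single F hj', Units.val_mul, S.nG_val, S.nG_val, S.hMat_eq]
    rw [e1]
    exact mul_mem (S.nG_mem_genSub F h1 h2 _) (S.nG_mem_genSub F h1 h2 _)
  · rw [h1, Pi.mulSingle_one, map_one]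
    exact one_mem _

/-- A subgroup of the centraliser normalised by the torus is the whole centraliser, if it covers it
up to the torus and contains the torus part. -/
theorem centralizer_eq {A : Set ℕ} (hA : ∀ r ∈ A, r < D.nroots) {v : GL D.Idx F}
    (hle : genSub D F A ≤ Subgroup.centralizer {v})
    (hcover : ∀ g ∈ D.group F, g * v * g⁻¹ = v → g ∈ genSub D F A ⊔ D.diagonalSubgroup F)
    (htor : ∀ d, tor D F d * v * (tor D F d)⁻¹ = v → tor D F d ∈ genSub D F A) :
    D.group F ⊓ Subgroup.centralizer {v} = genSub D F A := by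
  refine le_antisymm ?_ (le_inf (S.genSub_le_group F hA) hle)
  rintro g ⟨hg, hgc⟩
  replace hgc := Subgroup.mem_centralizer_singleton_iff.mp hgc
  have hmem := hcover g hg (by rw [hgc, mul_inv_cancel_right])
  rw [← SetLike.mem_coe, Subgroup.coe_mul_of_right_le_normalizer_left _ _
    (S.diagonal_le_normalizer_genSub F hA)] at hmem
  obtain ⟨q, hq, h, hh, rfl⟩ := hmem
  refine mul_mem hq ?_
  rw [SetLike.mem_coe, S.diagonal_eq] at hh
  obtain ⟨d, rfl⟩ := hh
  refine htor d ?_
  have hq' := Subgroup.mem_centralizer_singleton_iff.mp (hle hq)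
  calc tor D F d * v * (tor D F d)⁻¹
      = q⁻¹ * ((q * tor D F d) * v) * (tor D F d)⁻¹ := by group
    _ = q⁻¹ * (v * q) := by rw [hgc]; group
    _ = v := by rw [← hq', inv_mul_cancel_left]

/-- Root elements whose commutators with the roots of `W` stay in `W` normalise `uSub W`. -/
theorem genSub_le_normalizer_uSub [CharP F 2] {W A : List ℕ} (h : chkModComm D W W A = true)
    (hWpos : ∀ r ∈ W, D.nroots / 2 ≤ r ∧ r < D.nroots) :
    genSub D F {r | r ∈ A} ≤ Subgroup.normalizer (uSub D F {r | r ∈ W} : Set (GL D.Idx F)) := by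
  simp only [chkModComm, List.all_eq_true, Bool.and_eq_true, decide_eq_true_eq,
    Bool.or_eq_true, beq_iff_eq, List.contains_iff_mem] at h
  have hstab : ∀ s ∈ A, ∀ a : F, ∀ x ∈ uSub D F {r | r ∈ W},
      S.xG F s a * x * (S.xG F s a)⁻¹ ∈ uSub D F {r | r ∈ W} := by
    intro s hs a x hx
    refine closure_conj_mem ?_ hx
    rintro y ⟨w, b, ⟨hw, -⟩, hy⟩
    rw [S.eq_xG F hy]
    obtain ⟨hsl, h'⟩ := h s hs
    obtain ⟨⟨hwl, hne⟩, h''⟩ := h' w hw
    have hxw := S.xG_mem_uSub F (P := {r | r ∈ W}) hw (hWpos w hw).1 (hWpos w hw).2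
    by_cases hsw : s = w
    · subst hsw
      rw [S.xG_inv, S.xG_add, S.xG_add]
      exact hxw _
    rw [S.xG_conj F hsl hwl (Ne.symm hsw) hne a b]
    refine mul_mem (hxw b) (Subgroup.list_prod_mem _ fun g hg => ?_)
    simp only [ChevalleyDatum.commWord, List.map_map, List.mem_map, Function.comp_apply] at hg
    obtain ⟨c, hc, rfl⟩ := hg
    rcases h''.resolve_left hsw c hc with h4 | h4
    · rw [S.int_cast_eq_zero F h4, zero_mul, zero_mul, S.xG_zero]; exact one_mem _
    · exact S.xG_mem_uSub F h4 (hWpos _ h4).1 (hWpos _ h4).2 _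
  refine S.genSub_le F fun s hs a => ?_
  rw [Subgroup.mem_normalizer_iff]
  refine fun y => ⟨fun hy => hstab s hs a y hy, fun hy => ?_⟩
  have h' := hstab s hs (-a) _ hy
  rw [← S.xG_inv] at h'
  simpa [mul_assoc] using h'

theorem exists_xProd {L : List ℕ} (hnd : L.Nodup)
    (hpos : ∀ r ∈ L, D.nroots / 2 ≤ r ∧ r < D.nroots) (hL : S.Spread {r | r ∈ L}) {g : GL D.Idx F}
    (hg : g ∈ uSub D F {r | r ∈ L}) : ∃ f, g = S.xProd F L f := by
  classical
  have hzero : ∀ M : List ℕ, ∀ f : ℕ → F, (∀ r ∈ M, f r = 0) → S.xProd F M f = 1 := by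
    intro M f hf
    refine List.prod_eq_one fun x hx => ?_
    obtain ⟨r, hr, rfl⟩ := List.mem_map.mp hx
    rw [hf r hr, S.xG_zero]
  have hsingle : ∀ M : List ℕ, M.Nodup → ∀ r ∈ M, ∀ t : F,
      S.xProd F M (Pi.single r t) = S.xG F r t := by
    intro M
    induction M with
    | nil => intro _ r hr; simp at hr
    | cons a M ih =>
      intro hM r hr t
      obtain ⟨ha, hM'⟩ := List.nodup_cons.mp hM
      rcases List.mem_cons.mp hr with rfl | hr'
      · rw [xProd_cons, hzero M _ fun s hs => Pi.single_eq_of_ne (by rintro rfl; exact ha hs) _,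
          Pi.single_eq_same, mul_one]
      · rw [xProd_cons, ih hM' r hr' t,
          Pi.single_eq_of_ne (by rintro rfl; exact ha hr'), S.xG_zero, one_mul]
  have hinv : ∀ f, (S.xProd F L f)⁻¹ = S.xProd F L fun r => -f r := fun f =>
    inv_eq_of_mul_eq_one_right
      (by rw [S.xProd_mul F hL hpos]; exact hzero L _ fun r _ => add_neg_cancel _)
  induction hg using Subgroup.closure_induction with
  | mem x hx =>
    obtain ⟨r, t, ⟨hr, -⟩, hx⟩ := hx
    exact ⟨_, (S.eq_xG F hx).trans (hsingle L hnd r hr t).symm⟩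
  | one => exact ⟨0, (hzero L 0 fun _ _ => rfl).symm⟩
  | mul x y _ _ hx hy =>
    obtain ⟨f, rfl⟩ := hx
    obtain ⟨f', rfl⟩ := hy
    exact ⟨_, S.xProd_mul F hL hpos f f'⟩
  | inv x _ hx =>
    obtain ⟨f, rfl⟩ := hx
    exact ⟨_, hinv f⟩

/-- The centraliser of a product of root elements fixed by `U`, the roots being permuted only
trivially. -/
theorem centralizer_dominant [CharP F 2] {R J A : List ℕ} {Rw : List (ℕ × ℤ)} (hnd : R.Nodup)
    (hpos : ∀ r ∈ R, D.nroots / 2 ≤ r ∧ r < D.nroots) (hL : S.Spread {r | r ∈ R})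
    (hev : chkEvenComm D R A = true) (hAU : ∀ r, D.IsPosRoot r → r ∈ A)
    (hAlt : ∀ r ∈ A, r < D.nroots) (hstab : chkStab D Rw J = true)
    (hJA : ∀ j < D.rank, j ∈ J → D.simple j ∈ A ∧ D.neg (D.simple j) ∈ A)
    (hfix : ∀ n : ↥(D.monomialSubgroup F),
      (∀ r (hr : r ∈ R), (S.perm F n ⟨r, (hpos r hr).2⟩ : ℕ) ∈ R) →
        ∀ e ∈ Rw, ∃ he : e.1 < D.nroots, (S.perm F n ⟨e.1, he⟩ : ℕ) = e.1)
    (htor : ∀ d : ℕ → Fˣ, (∀ r ∈ R, (torusVal D d r : F) = 1) → ∀ j < D.rank,
      (D.simple j ∈ A ∧ D.neg (D.simple j) ∈ A) ∨ d j = 1) :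
    D.group F ⊓ Subgroup.centralizer {S.xProd F R fun _ => 1} = genSub D F {r | r ∈ A} := by
  have hU : D.posUnipotent F ≤ genSub D F {r | r ∈ A} :=
    (posUnipotent_eq_genSub F).trans_le (genSub_mono hAU)
  have hcen : ∀ f, genSub D F {r | r ∈ A} ≤ Subgroup.centralizer {S.xProd F R f} :=
    fun f => S.genSub_le_centralizer F hev
  have hconj : ∀ u ∈ D.posUnipotent F, ∀ f, u * S.xProd F R f * u⁻¹ = S.xProd F R f :=
    fun u hu f => by rw [Subgroup.mem_centralizer_singleton_iff.mp (hcen f (hU hu)),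
      mul_inv_cancel_right]
  refine S.centralizer_eq F hAlt (hcen _) (fun g hg hfixv => ?_) fun d hd => ?_
  · obtain ⟨a, ha, n, hn, c, hc, rfl⟩ := S.exists_bruhat F hg
    have hBQ : D.borelSubgroup F ≤ genSub D F {r | r ∈ A} ⊔ D.diagonalSubgroup F :=
      sup_le (hU.trans le_sup_left) le_sup_right
    refine mul_mem (mul_mem (hBQ ha) ?_) (hBQ hc)
    refine S.stab_mem F hstab (fun j hj hjJ => S.nG_mem_genSub F (hJA j hj hjJ).1 (hJA j hj hjJ).2 1)
      ⟨n, hn⟩ (hfix _ fun r hr => ?_)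
    obtain ⟨u, hu, d, rfl⟩ := (S.mem_borel F).mp hc
    obtain ⟨w, hw, e, hae⟩ := (S.mem_borel F).mp (inv_mem ha)
    refine S.perm_support F ⟨n, hn⟩ hnd hpos hL
      (f := fun r => (torusVal D d r : F) * 1) (S.closed_of_spread hL) ?_ r hr (by simp)
    have e1 : (u * tor D F d) * S.xProd F R (fun _ => 1) * (u * tor D F d)⁻¹ =
        S.xProd F R fun r => (torusVal D d r : F) * 1 := by
      rw [mul_inv_rev, show u * tor D F d * S.xProd F R (fun _ => 1) * ((tor D F d)⁻¹ * u⁻¹) =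
        u * (tor D F d * S.xProd F R (fun _ => 1) * (tor D F d)⁻¹) * u⁻¹ by group,
        S.tor_conj_xProd F d (fun r hr => (hpos r hr).2), hconj u hu]
    show n * S.xProd F R (fun r => (torusVal D d r : F) * 1) * n⁻¹ ∈ _
    rw [← e1, show n * (u * tor D F d * S.xProd F R (fun _ => 1) * (u * tor D F d)⁻¹) * n⁻¹ =
      a⁻¹ * (a * n * (u * tor D F d) * S.xProd F R (fun _ => 1) *
        (a * n * (u * tor D F d))⁻¹) * a⁻¹⁻¹ by group, hfixv, hae, mul_inv_rev,
      show w * tor D F e * S.xProd F R (fun _ => 1) * ((tor D F e)⁻¹ * w⁻¹) =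
        w * (tor D F e * S.xProd F R (fun _ => 1) * (tor D F e)⁻¹) * w⁻¹ by group,
      S.tor_conj_xProd F e (fun r hr => (hpos r hr).2), hconj w hw]
    exact S.xProd_mem F hpos fun _ hr _ => hr
  · refine S.tor_mem_genSub F d (htor d fun r hr => ?_)
    rw [S.tor_conj_xProd F d fun r hr => (hpos r hr).2] at hd
    simpa using S.xProd_inj F hnd hpos hL hd r hr

end Sys

end CfsgLib.Chevalley
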