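import Cfsg.Agent.Chevalley.CentralizerFix

/-!
Words in the root elements `x_r(1)` in characteristic two, evaluated on bit vectors: equality of
words and the rank of `w - 1`.
-/

set_option autoImplicit false

namespace CfsgLib.Chevalley

open Cfsg.Lie
open scoped Matrix

variable (D : ChevalleyDatum)

/-- The xor of a list of bit vectors. -/
def xorAll (L : List ℕ) : ℕ := L.foldr (· ^^^ ·) 0

/-- Insertion into a strictly increasing list, cancelling a repeated entry. -/
def togIns (x : ℕ) : List ℕ → List ℕ
  | [] => [x]
  | y :: L => if x = y then L else if x < y then x :: y :: L else y :: togIns x L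

/-- The image of a basis vector under `x_r(1)` modulo two. -/
def colBit (r c : ℕ) : List ℕ :=
  ((colTerms D r c).filter fun q : ℕ × ℤ × ℕ => decide (q.2.1 % (2 : ℤ) ≠ 0)).map fun q => q.1

/-- `x_r(1)` on a set of basis vectors. -/
def appBit (r : ℕ) (v : List ℕ) : List ℕ :=
  ((v.filter fun c => decide (c < D.rank + D.nroots)).flatMap (colBit D r)).foldr togIns []

/-- A word of elements `x_r(1)` on a basis vector. -/
def wordBit (W : List ℕ) (c : ℕ) : List ℕ := W.foldr (appBit D) [c]

/-- Check: two words in the elements `x_r(1)` agree modulo two. -/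
def wordEqBit (W₁ W₂ : List ℕ) : Bool :=
  (W₁.all fun r => decide (r < D.nroots)) && (W₂.all fun r => decide (r < D.nroots)) &&
    (List.range (D.rank + D.nroots)).all fun c => wordBit D W₁ c == wordBit D W₂ c

/-- Reduction of a bit vector by a triangular list `(pivot, vector, combination)`. -/
def redBit (B : List (ℕ × ℕ × List ℕ)) (v : ℕ) : ℕ :=
  B.foldl (fun v e => if v.testBit e.1 then v ^^^ e.2.1 else v) v

/-- Check: pivots are triangular. -/
def triBit : List (ℕ × ℕ × List ℕ) → Bool
  | [] => true
  | e :: B => decide (e.1 < D.rank + D.nroots) && e.2.1.testBit e.1 &&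
      (B.all fun e' => !e'.2.1.testBit e.1) && triBit B

/-- Check: `B` is a basis of the span of the columns `C` of `w - 1`. -/
def chkRank (W : List ℕ) (C : List ℕ) (B : List (ℕ × ℕ × List ℕ)) : Bool :=
  (W.all fun r => decide (r < D.nroots)) &&
  decide (((List.range (D.rank + D.nroots)).map fun c =>
    xorAll ((wordBit D W c).map fun k => 1 <<< k) ^^^ (1 <<< c)) = C) &&
  triBit D B && C.all (fun v => redBit B v == 0) &&
  B.all fun e => e.2.2.all (fun c => decide (c < D.rank + D.nroots)) &&
    decide (xorAll (e.2.2.map fun c => C.getD c 0) = e.2.1)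

variable (F : Type*) [Field F]

/-- A bit vector as a vector over `F`. -/
def toVec (v : ℕ) : D.Idx → F := fun row => if v.testBit (enc D row) then 1 else 0

theorem toVec_zero : toVec D F 0 = 0 := by funext row; simp [toVec]

theorem toVec_single (c : ℕ) : toVec D F (1 <<< c) = bv D F c := by
  funext row
  by_cases h : enc D row = c
  · simp [toVec, bv, Nat.one_shiftLeft, h]
  · simp [toVec, bv, Nat.one_shiftLeft, h, Ne.symm h, Nat.testBit_two_pow]

variable [CharP F 2]

theorem toVec_xor (a b : ℕ) : toVec D F (a ^^^ b) = toVec D F a + toVec D F b := by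
  funext row
  simp only [toVec, Pi.add_apply, Nat.testBit_xor]
  cases a.testBit (enc D row) <;> cases b.testBit (enc D row) <;> simp [CharTwo.add_self_eq_zero]

theorem toVec_xorAll (L : List ℕ) : toVec D F (xorAll L) = (L.map (toVec D F)).sum := by
  induction L with
  | nil => simpa [xorAll] using toVec_zero D F
  | cons a L ih =>
    rw [List.map_cons, List.sum_cons, ← ih, ← toVec_xor]
    rfl

theorem enc_lt (row : D.Idx) : enc D row < D.rank + D.nroots := by
  rcases row with i | s
  · exact lt_of_lt_of_le i.isLt (Nat.le_add_right _ _)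
  · exact Nat.add_lt_add_left s.isLt _

/-- A set of basis vectors as a vector over `F`. -/
def vecOf (L : List ℕ) : D.Idx → F := (L.map (bv D F)).sum

theorem toVec_vecOf (L : List ℕ) : toVec D F (xorAll (L.map fun k => 1 <<< k)) = vecOf D F L := by
  rw [toVec_xorAll, List.map_map, vecOf]
  exact congrArg List.sum (List.map_congr_left fun k _ => toVec_single D F k)

theorem vecOf_togIns (x : ℕ) (L : List ℕ) : vecOf D F (togIns x L) = bv D F x + vecOf D F L := by
  induction L with
  | nil => simp [togIns, vecOf]
  | cons y L ih =>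
    unfold togIns
    split_ifs with h1 h2
    · subst h1
      funext row
      simp [vecOf, ← add_assoc, CharTwo.add_self_eq_zero]
    · simp [vecOf]
    · simp only [vecOf, List.map_cons, List.sum_cons] at ih ⊢
      rw [ih]; abel

theorem vecOf_foldr (L : List ℕ) : vecOf D F (L.foldr togIns []) = vecOf D F L := by
  induction L with
  | nil => rfl
  | cons x L ih => rw [List.foldr_cons, vecOf_togIns, ih]; simp [vecOf]

theorem x_vecOf (W : WellFormed D) {r : ℕ} (hr : r < D.nroots) (v : List ℕ) :
    D.x F r 1 *ᵥ vecOf D F v = vecOf D F (appBit D r v) := by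
  rw [appBit, vecOf_foldr]
  induction v with
  | nil => simp [vecOf]
  | cons c v ih =>
    rw [show vecOf D F (c :: v) = bv D F c + vecOf D F v by simp [vecOf], Matrix.mulVec_add, ih]
    by_cases hc : c < D.rank + D.nroots
    · rw [List.filter_cons_of_pos (by simpa using hc), List.flatMap_cons, x_bv W hr hc]
      simp only [vecOf, List.map_append, List.sum_append]
      congr 1
      rw [colBit, List.map_map]
      induction colTerms D r c with
      | nil => simp
      | cons q L ihq =>
        rw [List.map_cons, List.sum_cons, ihq]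
        by_cases h : q.2.1 % (2 : ℤ) = 0
        · rw [List.filter_cons_of_neg (by simp [h]),
            (CharP.intCast_eq_zero_iff F 2 _).mpr (Int.dvd_of_emod_eq_zero (by simpa using h))]
          simp
        · rw [List.filter_cons_of_pos (by simp [h]), List.map_cons, List.sum_cons]
          have h2 : ((q.2.1 - 1 : ℤ) : F) = 0 := (CharP.intCast_eq_zero_iff F 2 _).mpr (by
            norm_num; omega)
          push_cast at h2
          rw [sub_eq_zero.mp h2]
          simp
    · rw [List.filter_cons_of_neg (by simpa using hc), bv_zero (F := F) (not_lt.mp hc),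
        Matrix.mulVec_zero, zero_add]

theorem wordBit_sound (W : WellFormed D) : ∀ w : List ℕ, (∀ r ∈ w, r < D.nroots) → ∀ c,
    D.wordMat F (w.map fun r => (r, (1 : F))) *ᵥ bv D F c = vecOf D F (wordBit D w c) := by
  intro w
  induction w with
  | nil => intro _ c; simp [ChevalleyDatum.wordMat, wordBit, vecOf]
  | cons r w ih =>
    intro hw c
    rw [List.forall_mem_cons] at hw
    rw [List.map_cons, wordMat_cons, ← Matrix.mulVec_mulVec, ih hw.2 c, x_vecOf D F W hw.1]
    rfl

variable {D}

namespace Sys

variable (S : Sys D)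
include S

theorem xProd_val (L : List ℕ) :
    (S.xProd F L (fun _ => (1 : F)) : Matrix D.Idx D.Idx F) =
      D.wordMat F (L.map fun r => (r, (1 : F))) := by
  rw [xProd, ← S.wG_val, wG, List.map_map]
  rfl

theorem wordEqBit_sound {W₁ W₂ : List ℕ} (h : wordEqBit D W₁ W₂ = true) :
    S.xProd F W₁ (fun _ => (1 : F)) = S.xProd F W₂ fun _ => 1 := by
  simp only [wordEqBit, Bool.and_eq_true, List.all_eq_true, decide_eq_true_eq, List.mem_range,
    beq_iff_eq] at h
  obtain ⟨⟨h1, h2⟩, h3⟩ := h
  refine Units.ext ?_
  rw [S.xProd_val F, S.xProd_val F]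
  refine ext_bv D F fun c hc => ?_
  rw [wordBit_sound D F S.wf W₁ h1, wordBit_sound D F S.wf W₂ h2, h3 c hc]

theorem red_mem_span (B : List (ℕ × ℕ × List ℕ)) : ∀ v, redBit B v = 0 →
    toVec D F v ∈ Submodule.span F {x | ∃ e ∈ B, x = toVec D F e.2.1} := by
  induction B with
  | nil =>
    intro v h
    simp only [redBit, List.foldl_nil] at h
    rw [h, toVec_zero]
    exact Submodule.zero_mem _
  | cons e B ih =>
    intro v h
    simp only [redBit, List.foldl_cons] at h
    have hsub : Submodule.span F {x | ∃ e' ∈ B, x = toVec D F e'.2.1} ≤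
        Submodule.span F {x | ∃ e' ∈ e :: B, x = toVec D F e'.2.1} :=
      Submodule.span_mono fun x ⟨e', he', hx⟩ => ⟨e', List.mem_cons_of_mem _ he', hx⟩
    split_ifs at h with hb
    · have h2 := hsub (ih _ h)
      rw [show v = (v ^^^ e.2.1) ^^^ e.2.1 by rw [Nat.xor_assoc, Nat.xor_self, Nat.xor_zero],
        toVec_xor]
      exact Submodule.add_mem _ h2 (Submodule.subset_span ⟨e, List.mem_cons_self .., rfl⟩)
    · exact hsub (ih _ h)

theorem tri_indep : ∀ B : List (ℕ × ℕ × List ℕ), triBit D B = true →
    LinearIndependent F fun k : Fin B.length => toVec D F (B.get k).2.1 := by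
  intro B
  induction B with
  | nil => intro _; haveI : IsEmpty (Fin ([] : List (ℕ × ℕ × List ℕ)).length) := ⟨fun k => k.elim0⟩; exact linearIndependent_empty_type
  | cons e B ih =>
    intro h
    simp only [triBit, Bool.and_eq_true, decide_eq_true_eq, List.all_eq_true,
      Bool.not_eq_eq_eq_not, Bool.not_true] at h
    obtain ⟨⟨⟨hp, hbit⟩, hz⟩, hB⟩ := h
    have heq : (fun k : Fin (e :: B).length => toVec D F ((e :: B).get k).2.1) =
        Fin.cons (toVec D F e.2.1) fun k : Fin B.length => toVec D F (B.get k).2.1 := by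
      funext k
      refine Fin.cases ?_ (fun k => ?_) k <;> simp
    rw [heq]
    refine linearIndependent_fin_cons.mpr ⟨ih hB, fun hmem => ?_⟩
    obtain ⟨row, hrow⟩ : ∃ row : D.Idx, enc D row = e.1 := by
      by_cases hlt : e.1 < D.rank
      · exact ⟨Sum.inl ⟨e.1, hlt⟩, rfl⟩
      · refine ⟨Sum.inr ⟨e.1 - D.rank, by omega⟩, ?_⟩
        show D.rank + (e.1 - D.rank) = e.1
        omega
    let π : (D.Idx → F) →ₗ[F] F := LinearMap.proj row
    have h0 : Submodule.span F (Set.range fun k : Fin B.length => toVec D F (B.get k).2.1) ≤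
        LinearMap.ker π := by
      rw [Submodule.span_le]
      rintro x ⟨k, rfl⟩
      simp [π, toVec, hrow]
      exact hz _ (List.getElem_mem k.isLt)
    have h1 := LinearMap.mem_ker.mp (h0 hmem)
    simp [π, toVec, hrow, hbit] at h1

/-- The rank of `w - 1`. -/
theorem rank_sub_one {W C : List ℕ} {B : List (ℕ × ℕ × List ℕ)} (h : chkRank D W C B = true) :
    ((S.xProd F W (fun _ => (1 : F)) : Matrix D.Idx D.Idx F) - 1).rank = B.length := by
  classical
  simp only [chkRank, Bool.and_eq_true, List.all_eq_true, decide_eq_true_eq, beq_iff_eq] at h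
  obtain ⟨⟨⟨⟨hW, hC⟩, htri⟩, hred⟩, hB⟩ := h
  set M := (S.xProd F W (fun _ => (1 : F)) : Matrix D.Idx D.Idx F) - 1 with hM
  have hcol : ∀ col : D.Idx, M.col col = toVec D F (C.getD (enc D col) 0) := by
    intro col
    have hl := enc_lt D col
    have e1 : C.getD (enc D col) 0 =
        xorAll ((wordBit D W (enc D col)).map fun k => 1 <<< k) ^^^ (1 <<< enc D col) := by
      rw [← hC]; simp [List.getD, hl]
    rw [e1, toVec_xor, toVec_single, toVec_vecOf, ← wordBit_sound D F S.wf W hW, hM, S.xProd_val F]
    funext row
    rw [bv_enc]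
    simp [Matrix.col, Matrix.mulVec_single, Matrix.one_apply, Pi.single_apply,
      sub_eq_add_neg, CharTwo.neg_eq]
  have hspan : Submodule.span F (Set.range M.col) =
      Submodule.span F (Set.range fun k : Fin B.length => toVec D F (B.get k).2.1) := by
    refine le_antisymm (Submodule.span_le.mpr ?_) (Submodule.span_le.mpr ?_)
    · rintro x ⟨col, rfl⟩
      rw [hcol]
      have hmem : C.getD (enc D col) 0 ∈ C := by
        have : enc D col < C.length := by rw [← hC]; simpa using enc_lt D col
        rw [List.getD_eq_getElem _ _ this]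
        exact List.getElem_mem this
      refine Submodule.span_mono ?_ (S.red_mem_span F B _ (hred _ hmem))
      rintro y ⟨e, he, rfl⟩
      obtain ⟨k, hk⟩ := List.mem_iff_get.mp he
      exact ⟨k, by show _ = toVec D F e.2.1; rw [← hk]⟩
    · rintro x ⟨k, rfl⟩
      obtain ⟨hlt, hx⟩ := hB _ (List.get_mem B k)
      show toVec D F (B.get k).2.1 ∈ _
      rw [← hx, toVec_xorAll, List.map_map]
      refine list_sum_mem fun y hy => ?_
      obtain ⟨c, hc, rfl⟩ := List.mem_map.mp hy
      have hcl := hlt c hc
      obtain ⟨col, rfl⟩ : ∃ col : D.Idx, enc D col = c := by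
        by_cases h' : c < D.rank
        · exact ⟨Sum.inl ⟨c, h'⟩, rfl⟩
        · exact ⟨Sum.inr ⟨c - D.rank, by omega⟩, show D.rank + (c - D.rank) = c by omega⟩
      rw [Function.comp_apply, ← hcol]
      exact Submodule.subset_span ⟨col, rfl⟩
  rw [Matrix.rank_eq_finrank_span_cols, hspan, finrank_span_eq_card (S.tri_indep F B htri)]
  simp

end Sys

end CfsgLib.Chevalley
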