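import Cfsg.Agent.Chevalley.All
import Cfsg.Agent.Chevalley.HighRoot

/-! The checks on the highest root for the types `G2`, `D4`, `E6`, `E7`, `E8`. -/

set_option autoImplicit false

namespace CfsgLib.Chevalley

open Cfsg.Lie

theorem highFacts_of_chk {D : ChevalleyDatum} {T : Tab} (h : Checked D T)
    (hc : chkHigh D T = true) : h.sys.HighFacts := by
  simp only [chkHigh, Bool.and_eq_true, decide_eq_true_eq, List.all_eq_true, List.mem_range] at hc
  exact ⟨hc.1.1.1, hc.1.1.2, hc.1.2, hc.2⟩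

theorem chkHigh_G2 : chkHigh Cfsg.Lie.chevG2 tabG2 = true := by decide +kernel
theorem chkFlank_G2 : chkFlank Cfsg.Lie.chevG2 [0, 1, 5, 6, 10, 11] = true := by decide +kernel
theorem chkHigh_D4 : chkHigh Cfsg.Lie.chevD4 tabD4 = true := by decide +kernel
theorem chkFlank_D4 : chkFlank Cfsg.Lie.chevD4 (List.range 24) = true := by decide +kernel
theorem chkHigh_E6 : chkHigh Cfsg.Lie.chevE6 tabE6 = true := by decide +kernel
theorem chkFlank_E6 : chkFlank Cfsg.Lie.chevE6 (List.range 72) = true := by decide +kernel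
theorem chkHigh_E7 : chkHigh Cfsg.Lie.chevE7 tabE7 = true := by decide +kernel
theorem chkFlank_E7 : chkFlank Cfsg.Lie.chevE7 (List.range 126) = true := by decide +kernel
theorem chkHigh_E8 : chkHigh Cfsg.Lie.chevE8 tabE8 = true := by decide +kernel
theorem chkFlank_E8 : chkFlank Cfsg.Lie.chevE8 (List.range 240) = true := by decide +kernel
theorem chkOrtho_E6 : chkOrtho Cfsg.Lie.chevE6 [15, 29, 32, 34, 35] = true := by decide +kernel
theorem chkOrtho_E7 : chkOrtho Cfsg.Lie.chevE7 [47, 52, 56, 59, 61, 62] = true := by decide +kernel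
theorem chkOrtho_E8 : chkOrtho Cfsg.Lie.chevE8 [77, 98, 104, 109, 113, 116, 118] = true := by decide +kernel

/-- The types in which the highest root subgroup is treated. -/
theorem exists_sys_high {D : ChevalleyDatum}
    (hD : D ∈ [Cfsg.Lie.chevG2, Cfsg.Lie.chevD4, Cfsg.Lie.chevE6, Cfsg.Lie.chevE7, Cfsg.Lie.chevE8]) :
    ∃ S : Sys D, S.HighFacts ∧ ∃ O, chkFlank D O = true := by
  simp only [List.mem_cons, List.not_mem_nil, or_false] at hD
  rcases hD with rfl | rfl | rfl | rfl | rfl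
  · exact ⟨sysG2, highFacts_of_chk checkedG2 chkHigh_G2, _, chkFlank_G2⟩
  · exact ⟨sysD4, highFacts_of_chk checkedD4 chkHigh_D4, _, chkFlank_D4⟩
  · exact ⟨sysE6, highFacts_of_chk checkedE6 chkHigh_E6, _, chkFlank_E6⟩
  · exact ⟨sysE7, highFacts_of_chk checkedE7 chkHigh_E7, _, chkFlank_E7⟩
  · exact ⟨sysE8, highFacts_of_chk checkedE8 chkHigh_E8, _, chkFlank_E8⟩

/-- The types in which the centraliser is stated with an explicit list. -/
theorem exists_sys_ortho {d : ChevalleyDatum × List ℕ}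
    (hd : d ∈ [(Cfsg.Lie.chevE6, [15, 29, 32, 34, 35]), (Cfsg.Lie.chevE7, [47, 52, 56, 59, 61, 62]),
      (Cfsg.Lie.chevE8, [77, 98, 104, 109, 113, 116, 118])]) :
    ∃ S : Sys d.1, S.HighFacts ∧ chkOrtho d.1 d.2 = true := by
  simp only [List.mem_cons, List.not_mem_nil, or_false] at hd
  rcases hd with rfl | rfl | rfl
  · exact ⟨sysE6, highFacts_of_chk checkedE6 chkHigh_E6, chkOrtho_E6⟩
  · exact ⟨sysE7, highFacts_of_chk checkedE7 chkHigh_E7, chkOrtho_E7⟩
  · exact ⟨sysE8, highFacts_of_chk checkedE8 chkHigh_E8, chkOrtho_E8⟩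

end CfsgLib.Chevalley
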