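import Cfsg.Agent.Chevalley.InvDataE8

/-! Involutions in characteristic two of type E8: checks of the tables (generated). -/

set_option autoImplicit false

namespace CfsgLib.Chevalley.InvE8

open Cfsg.Lie

theorem mask12 : chkMask chevE8 (masks.getD 0 (0, [])).1 (masks.getD 0 (0, [])).2 = true := by
  decide +kernel

theorem mask79 : chkMask chevE8 (masks.getD 1 (0, [])).1 (masks.getD 1 (0, [])).2 = true := by
  decide +kernel

theorem mask119 : chkMask chevE8 (masks.getD 2 (0, [])).1 (masks.getD 2 (0, [])).2 = true := by
  decide +kernel

theorem mask121 : chkMask chevE8 (masks.getD 3 (0, [])).1 (masks.getD 3 (0, [])).2 = true := by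
  decide +kernel

theorem mask122 : chkMask chevE8 (masks.getD 4 (0, [])).1 (masks.getD 4 (0, [])).2 = true := by
  decide +kernel

theorem mask126 : chkMask chevE8 (masks.getD 5 (0, [])).1 (masks.getD 5 (0, [])).2 = true := by
  decide +kernel

theorem mask135 : chkMask chevE8 (masks.getD 6 (0, [])).1 (masks.getD 6 (0, [])).2 = true := by
  decide +kernel

theorem mask141 : chkMask chevE8 (masks.getD 7 (0, [])).1 (masks.getD 7 (0, [])).2 = true := by
  decide +kernel

theorem mask152 : chkMask chevE8 (masks.getD 8 (0, [])).1 (masks.getD 8 (0, [])).2 = true := by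
  decide +kernel

theorem mask159 : chkMask chevE8 (masks.getD 9 (0, [])).1 (masks.getD 9 (0, [])).2 = true := by
  decide +kernel

theorem mask213 : chkMask chevE8 (masks.getD 10 (0, [])).1 (masks.getD 10 (0, [])).2 = true := by
  decide +kernel

theorem mask216 : chkMask chevE8 (masks.getD 11 (0, [])).1 (masks.getD 11 (0, [])).2 = true := by
  decide +kernel

theorem mask218 : chkMask chevE8 (masks.getD 12 (0, [])).1 (masks.getD 12 (0, [])).2 = true := by
  decide +kernel

theorem mask220 : chkMask chevE8 (masks.getD 13 (0, [])).1 (masks.getD 13 (0, [])).2 = true := by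
  decide +kernel

theorem mask222 : chkMask chevE8 (masks.getD 14 (0, [])).1 (masks.getD 14 (0, [])).2 = true := by
  decide +kernel

theorem mask226 : chkMask chevE8 (masks.getD 15 (0, [])).1 (masks.getD 15 (0, [])).2 = true := by
  decide +kernel

theorem mask228 : chkMask chevE8 (masks.getD 16 (0, [])).1 (masks.getD 16 (0, [])).2 = true := by
  decide +kernel

theorem mask232 : chkMask chevE8 (masks.getD 17 (0, [])).1 (masks.getD 17 (0, [])).2 = true := by
  decide +kernel

theorem mask233 : chkMask chevE8 (masks.getD 18 (0, [])).1 (masks.getD 18 (0, [])).2 = true := by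
  decide +kernel

theorem mask239 : chkMask chevE8 (masks.getD 19 (0, [])).1 (masks.getD 19 (0, [])).2 = true := by
  decide +kernel

theorem chk_masks : ∀ e ∈ masks, chkMask chevE8 e.1 e.2 = true := by
  intro e he
  obtain ⟨k, hk, rfl⟩ := List.getElem_of_mem he
  replace hk : k < 20 := hk
  rw [← List.getD_eq_getElem _ (0, [])]
  interval_cases k
  · exact mask12
  · exact mask79
  · exact mask119
  · exact mask121
  · exact mask122
  · exact mask126
  · exact mask135
  · exact mask141
  · exact mask152
  · exact mask159
  · exact mask213
  · exact mask216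
  · exact mask218
  · exact mask220
  · exact mask222
  · exact mask226
  · exact mask228
  · exact mask232
  · exact mask233
  · exact mask239

theorem chk_known : chkKnown steps reps = true := by decide +kernel

theorem chk_cover : ∀ T ∈ states, T.1 = [] ∨ T.1 ∈ steps.map (fun e => e.1) ∨ T.1 ∈ reps := by decide +kernel

theorem step0 : chkStepWT chevE8 tabE8 (steps.getD 0 ([], true, [], [])) = true := by decide +kernel

theorem step1 : chkStepWT chevE8 tabE8 (steps.getD 1 ([], true, [], [])) = true := by decide +kernel

theorem step2 : chkStepWT chevE8 tabE8 (steps.getD 2 ([], true, [], [])) = true := by decide +kernel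

theorem step5 : chkStepWT chevE8 tabE8 (steps.getD 5 ([], true, [], [])) = true := by decide +kernel

theorem step7 : chkStepWT chevE8 tabE8 (steps.getD 7 ([], true, [], [])) = true := by decide +kernel

theorem step9 : chkStepWT chevE8 tabE8 (steps.getD 9 ([], true, [], [])) = true := by decide +kernel

theorem step10 : chkStepWT chevE8 tabE8 (steps.getD 10 ([], true, [], [])) = true := by decide +kernel

theorem step12 : chkStepWT chevE8 tabE8 (steps.getD 12 ([], true, [], [])) = true := by decide +kernel

theorem step14 : chkStepWT chevE8 tabE8 (steps.getD 14 ([], true, [], [])) = true := by decide +kernel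

theorem step16 : chkStepWT chevE8 tabE8 (steps.getD 16 ([], true, [], [])) = true := by decide +kernel

theorem step18 : chkStepWT chevE8 tabE8 (steps.getD 18 ([], true, [], [])) = true := by decide +kernel

end CfsgLib.Chevalley.InvE8
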