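import Cfsg.Agent.Chevalley.InvDataE8

/-! Involutions in characteristic two of type E8: checks of the ranks (generated). -/

set_option autoImplicit false

namespace CfsgLib.Chevalley.InvE8

open Cfsg.Lie

theorem chk_rank0 : chkRankMask chevE8 masks [239] cols0 basis0 coef0 = true := by decide +kernel

theorem chk_sq0 : wordEqMask chevE8 masks ([239] ++ [239]) [] = true := by decide +kernel

theorem chk_rank1 : chkRankMask chevE8 masks [232, 233] cols1 basis1 coef1 = true := by decide +kernel

theorem chk_sq1 : wordEqMask chevE8 masks ([232, 233] ++ [232, 233]) [] = true := by decide +kernel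

theorem chk_rank2 : chkRankMask chevE8 masks [228, 222, 218] cols2 basis2 coef2 = true := by decide +kernel

theorem chk_sq2 : wordEqMask chevE8 masks ([228, 222, 218] ++ [228, 222, 218]) [] = true := by decide +kernel

theorem chk_rank3 : chkRankMask chevE8 masks [226, 220, 213, 216] cols3 basis3 coef3 = true := by decide +kernel

theorem chk_sq3 : wordEqMask chevE8 masks ([226, 220, 213, 216] ++ [226, 220, 213, 216]) [] = true := by decide +kernel

end CfsgLib.Chevalley.InvE8
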