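import Cfsg.Agent.Chevalley.InvDataE8

/-! Involutions in characteristic two of type E8: checks of the states (generated). -/

set_option autoImplicit false

namespace CfsgLib.Chevalley.InvE8

open Cfsg.Lie

theorem state0 : chkState chevE8 (tabE8.coord 8) (states.getD 0 ([], [])) = true := by decide +kernel

theorem node0_0 : chkNodeT chevE8 tabE8 (tabE8.coord 8) states edges (states.getD 0 ([], [])) 0 = true := by
  decide +kernel

theorem node0_1 : chkNodeT chevE8 tabE8 (tabE8.coord 8) states edges (states.getD 0 ([], [])) 1 = true := by
  decide +kernel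

theorem node0_2 : chkNodeT chevE8 tabE8 (tabE8.coord 8) states edges (states.getD 0 ([], [])) 2 = true := by
  decide +kernel

theorem node0_3 : chkNodeT chevE8 tabE8 (tabE8.coord 8) states edges (states.getD 0 ([], [])) 3 = true := by
  decide +kernel

theorem node0_4 : chkNodeT chevE8 tabE8 (tabE8.coord 8) states edges (states.getD 0 ([], [])) 4 = true := by
  decide +kernel

theorem node0_5 : chkNodeT chevE8 tabE8 (tabE8.coord 8) states edges (states.getD 0 ([], [])) 5 = true := by
  decide +kernel

theorem node0_6 : chkNodeT chevE8 tabE8 (tabE8.coord 8) states edges (states.getD 0 ([], [])) 6 = true := by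
  decide +kernel

theorem node0_7 : chkNodeT chevE8 tabE8 (tabE8.coord 8) states edges (states.getD 0 ([], [])) 7 = true := by
  decide +kernel

theorem nodes0 : ∀ i ∈ (states.getD 0 ([], [])).2,
    chkNodeT chevE8 tabE8 (tabE8.coord 8) states edges (states.getD 0 ([], [])) i = true := by
  intro i hi
  replace hi : i ∈ ([0, 1, 2, 3, 4, 5, 6, 7] : List ℕ) := hi
  simp only [List.mem_cons, List.not_mem_nil, or_false] at hi
  rcases hi with rfl | rfl | rfl | rfl | rfl | rfl | rfl | rfl
  · exact node0_0
  · exact node0_1
  · exact node0_2
  · exact node0_3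
  · exact node0_4
  · exact node0_5
  · exact node0_6
  · exact node0_7

theorem state1 : chkState chevE8 (tabE8.coord 8) (states.getD 1 ([], [])) = true := by decide +kernel

theorem node1_0 : chkNodeT chevE8 tabE8 (tabE8.coord 8) states edges (states.getD 1 ([], [])) 0 = true := by
  decide +kernel

theorem node1_1 : chkNodeT chevE8 tabE8 (tabE8.coord 8) states edges (states.getD 1 ([], [])) 1 = true := by
  decide +kernel

theorem node1_2 : chkNodeT chevE8 tabE8 (tabE8.coord 8) states edges (states.getD 1 ([], [])) 2 = true := by
  decide +kernel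

theorem node1_3 : chkNodeT chevE8 tabE8 (tabE8.coord 8) states edges (states.getD 1 ([], [])) 3 = true := by
  decide +kernel

theorem node1_4 : chkNodeT chevE8 tabE8 (tabE8.coord 8) states edges (states.getD 1 ([], [])) 4 = true := by
  decide +kernel

theorem node1_5 : chkNodeT chevE8 tabE8 (tabE8.coord 8) states edges (states.getD 1 ([], [])) 5 = true := by
  decide +kernel

theorem node1_6 : chkNodeT chevE8 tabE8 (tabE8.coord 8) states edges (states.getD 1 ([], [])) 6 = true := by
  decide +kernel

theorem nodes1 : ∀ i ∈ (states.getD 1 ([], [])).2,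
    chkNodeT chevE8 tabE8 (tabE8.coord 8) states edges (states.getD 1 ([], [])) i = true := by
  intro i hi
  replace hi : i ∈ ([0, 1, 2, 3, 4, 5, 6] : List ℕ) := hi
  simp only [List.mem_cons, List.not_mem_nil, or_false] at hi
  rcases hi with rfl | rfl | rfl | rfl | rfl | rfl | rfl
  · exact node1_0
  · exact node1_1
  · exact node1_2
  · exact node1_3
  · exact node1_4
  · exact node1_5
  · exact node1_6

theorem state2 : chkState chevE8 (tabE8.coord 8) (states.getD 2 ([], [])) = true := by decide +kernel

theorem node2_1 : chkNodeT chevE8 tabE8 (tabE8.coord 8) states edges (states.getD 2 ([], [])) 1 = true := by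
  decide +kernel

theorem node2_2 : chkNodeT chevE8 tabE8 (tabE8.coord 8) states edges (states.getD 2 ([], [])) 2 = true := by
  decide +kernel

theorem node2_3 : chkNodeT chevE8 tabE8 (tabE8.coord 8) states edges (states.getD 2 ([], [])) 3 = true := by
  decide +kernel

theorem node2_4 : chkNodeT chevE8 tabE8 (tabE8.coord 8) states edges (states.getD 2 ([], [])) 4 = true := by
  decide +kernel

theorem node2_5 : chkNodeT chevE8 tabE8 (tabE8.coord 8) states edges (states.getD 2 ([], [])) 5 = true := by
  decide +kernel

theorem node2_6 : chkNodeT chevE8 tabE8 (tabE8.coord 8) states edges (states.getD 2 ([], [])) 6 = true := by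
  decide +kernel

theorem nodes2 : ∀ i ∈ (states.getD 2 ([], [])).2,
    chkNodeT chevE8 tabE8 (tabE8.coord 8) states edges (states.getD 2 ([], [])) i = true := by
  intro i hi
  replace hi : i ∈ ([1, 2, 3, 4, 5, 6] : List ℕ) := hi
  simp only [List.mem_cons, List.not_mem_nil, or_false] at hi
  rcases hi with rfl | rfl | rfl | rfl | rfl | rfl
  · exact node2_1
  · exact node2_2
  · exact node2_3
  · exact node2_4
  · exact node2_5
  · exact node2_6

theorem state3 : chkState chevE8 (tabE8.coord 8) (states.getD 3 ([], [])) = true := by decide +kernel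

theorem node3_1 : chkNodeT chevE8 tabE8 (tabE8.coord 8) states edges (states.getD 3 ([], [])) 1 = true := by
  decide +kernel

theorem node3_2 : chkNodeT chevE8 tabE8 (tabE8.coord 8) states edges (states.getD 3 ([], [])) 2 = true := by
  decide +kernel

theorem node3_3 : chkNodeT chevE8 tabE8 (tabE8.coord 8) states edges (states.getD 3 ([], [])) 3 = true := by
  decide +kernel

theorem node3_4 : chkNodeT chevE8 tabE8 (tabE8.coord 8) states edges (states.getD 3 ([], [])) 4 = true := by
  decide +kernel

theorem node3_6 : chkNodeT chevE8 tabE8 (tabE8.coord 8) states edges (states.getD 3 ([], [])) 6 = true := by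
  decide +kernel

theorem nodes3 : ∀ i ∈ (states.getD 3 ([], [])).2,
    chkNodeT chevE8 tabE8 (tabE8.coord 8) states edges (states.getD 3 ([], [])) i = true := by
  intro i hi
  replace hi : i ∈ ([1, 2, 3, 4, 6] : List ℕ) := hi
  simp only [List.mem_cons, List.not_mem_nil, or_false] at hi
  rcases hi with rfl | rfl | rfl | rfl | rfl
  · exact node3_1
  · exact node3_2
  · exact node3_3
  · exact node3_4
  · exact node3_6

theorem state4 : chkState chevE8 (tabE8.coord 8) (states.getD 4 ([], [])) = true := by decide +kernel

theorem node4_1 : chkNodeT chevE8 tabE8 (tabE8.coord 8) states edges (states.getD 4 ([], [])) 1 = true := by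
  decide +kernel

theorem node4_2 : chkNodeT chevE8 tabE8 (tabE8.coord 8) states edges (states.getD 4 ([], [])) 2 = true := by
  decide +kernel

theorem node4_4 : chkNodeT chevE8 tabE8 (tabE8.coord 8) states edges (states.getD 4 ([], [])) 4 = true := by
  decide +kernel

theorem node4_6 : chkNodeT chevE8 tabE8 (tabE8.coord 8) states edges (states.getD 4 ([], [])) 6 = true := by
  decide +kernel

theorem nodes4 : ∀ i ∈ (states.getD 4 ([], [])).2,
    chkNodeT chevE8 tabE8 (tabE8.coord 8) states edges (states.getD 4 ([], [])) i = true := by
  intro i hi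
  replace hi : i ∈ ([1, 2, 4, 6] : List ℕ) := hi
  simp only [List.mem_cons, List.not_mem_nil, or_false] at hi
  rcases hi with rfl | rfl | rfl | rfl
  · exact node4_1
  · exact node4_2
  · exact node4_4
  · exact node4_6

theorem state5 : chkState chevE8 (tabE8.coord 8) (states.getD 5 ([], [])) = true := by decide +kernel

theorem node5_1 : chkNodeT chevE8 tabE8 (tabE8.coord 8) states edges (states.getD 5 ([], [])) 1 = true := by
  decide +kernel

theorem node5_2 : chkNodeT chevE8 tabE8 (tabE8.coord 8) states edges (states.getD 5 ([], [])) 2 = true := by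
  decide +kernel

theorem node5_3 : chkNodeT chevE8 tabE8 (tabE8.coord 8) states edges (states.getD 5 ([], [])) 3 = true := by
  decide +kernel

theorem node5_4 : chkNodeT chevE8 tabE8 (tabE8.coord 8) states edges (states.getD 5 ([], [])) 4 = true := by
  decide +kernel

theorem nodes5 : ∀ i ∈ (states.getD 5 ([], [])).2,
    chkNodeT chevE8 tabE8 (tabE8.coord 8) states edges (states.getD 5 ([], [])) i = true := by
  intro i hi
  replace hi : i ∈ ([1, 2, 3, 4] : List ℕ) := hi
  simp only [List.mem_cons, List.not_mem_nil, or_false] at hi
  rcases hi with rfl | rfl | rfl | rfl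
  · exact node5_1
  · exact node5_2
  · exact node5_3
  · exact node5_4

theorem state6 : chkState chevE8 (tabE8.coord 8) (states.getD 6 ([], [])) = true := by decide +kernel

theorem node6_1 : chkNodeT chevE8 tabE8 (tabE8.coord 8) states edges (states.getD 6 ([], [])) 1 = true := by
  decide +kernel

theorem node6_2 : chkNodeT chevE8 tabE8 (tabE8.coord 8) states edges (states.getD 6 ([], [])) 2 = true := by
  decide +kernel

theorem node6_4 : chkNodeT chevE8 tabE8 (tabE8.coord 8) states edges (states.getD 6 ([], [])) 4 = true := by
  decide +kernel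

theorem nodes6 : ∀ i ∈ (states.getD 6 ([], [])).2,
    chkNodeT chevE8 tabE8 (tabE8.coord 8) states edges (states.getD 6 ([], [])) i = true := by
  intro i hi
  replace hi : i ∈ ([1, 2, 4] : List ℕ) := hi
  simp only [List.mem_cons, List.not_mem_nil, or_false] at hi
  rcases hi with rfl | rfl | rfl
  · exact node6_1
  · exact node6_2
  · exact node6_4

theorem state7 : chkState chevE8 (tabE8.coord 8) (states.getD 7 ([], [])) = true := by decide +kernel

theorem node7_2 : chkNodeT chevE8 tabE8 (tabE8.coord 8) states edges (states.getD 7 ([], [])) 2 = true := by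
  decide +kernel

theorem node7_4 : chkNodeT chevE8 tabE8 (tabE8.coord 8) states edges (states.getD 7 ([], [])) 4 = true := by
  decide +kernel

theorem nodes7 : ∀ i ∈ (states.getD 7 ([], [])).2,
    chkNodeT chevE8 tabE8 (tabE8.coord 8) states edges (states.getD 7 ([], [])) i = true := by
  intro i hi
  replace hi : i ∈ ([2, 4] : List ℕ) := hi
  simp only [List.mem_cons, List.not_mem_nil, or_false] at hi
  rcases hi with rfl | rfl
  · exact node7_2
  · exact node7_4

theorem state8 : chkState chevE8 (tabE8.coord 8) (states.getD 8 ([], [])) = true := by decide +kernel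

theorem node8_1 : chkNodeT chevE8 tabE8 (tabE8.coord 8) states edges (states.getD 8 ([], [])) 1 = true := by
  decide +kernel

theorem node8_4 : chkNodeT chevE8 tabE8 (tabE8.coord 8) states edges (states.getD 8 ([], [])) 4 = true := by
  decide +kernel

theorem nodes8 : ∀ i ∈ (states.getD 8 ([], [])).2,
    chkNodeT chevE8 tabE8 (tabE8.coord 8) states edges (states.getD 8 ([], [])) i = true := by
  intro i hi
  replace hi : i ∈ ([1, 4] : List ℕ) := hi
  simp only [List.mem_cons, List.not_mem_nil, or_false] at hi
  rcases hi with rfl | rfl
  · exact node8_1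
  · exact node8_4

theorem state9 : chkState chevE8 (tabE8.coord 8) (states.getD 9 ([], [])) = true := by decide +kernel

theorem node9_1 : chkNodeT chevE8 tabE8 (tabE8.coord 8) states edges (states.getD 9 ([], [])) 1 = true := by
  decide +kernel

theorem node9_2 : chkNodeT chevE8 tabE8 (tabE8.coord 8) states edges (states.getD 9 ([], [])) 2 = true := by
  decide +kernel

theorem nodes9 : ∀ i ∈ (states.getD 9 ([], [])).2,
    chkNodeT chevE8 tabE8 (tabE8.coord 8) states edges (states.getD 9 ([], [])) i = true := by
  intro i hi
  replace hi : i ∈ ([1, 2] : List ℕ) := hi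
  simp only [List.mem_cons, List.not_mem_nil, or_false] at hi
  rcases hi with rfl | rfl
  · exact node9_1
  · exact node9_2

theorem state10 : chkState chevE8 (tabE8.coord 8) (states.getD 10 ([], [])) = true := by decide +kernel

theorem node10_2 : chkNodeT chevE8 tabE8 (tabE8.coord 8) states edges (states.getD 10 ([], [])) 2 = true := by
  decide +kernel

theorem nodes10 : ∀ i ∈ (states.getD 10 ([], [])).2,
    chkNodeT chevE8 tabE8 (tabE8.coord 8) states edges (states.getD 10 ([], [])) i = true := by
  intro i hi
  replace hi : i ∈ ([2] : List ℕ) := hi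
  simp only [List.mem_cons, List.not_mem_nil, or_false] at hi
  subst hi
  · exact node10_2

theorem state11 : chkState chevE8 (tabE8.coord 8) (states.getD 11 ([], [])) = true := by decide +kernel

theorem node11_1 : chkNodeT chevE8 tabE8 (tabE8.coord 8) states edges (states.getD 11 ([], [])) 1 = true := by
  decide +kernel

theorem nodes11 : ∀ i ∈ (states.getD 11 ([], [])).2,
    chkNodeT chevE8 tabE8 (tabE8.coord 8) states edges (states.getD 11 ([], [])) i = true := by
  intro i hi
  replace hi : i ∈ ([1] : List ℕ) := hi
  simp only [List.mem_cons, List.not_mem_nil, or_false] at hi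
  subst hi
  · exact node11_1

theorem state12 : chkState chevE8 (tabE8.coord 8) (states.getD 12 ([], [])) = true := by decide +kernel

theorem nodes12 : ∀ i ∈ (states.getD 12 ([], [])).2,
    chkNodeT chevE8 tabE8 (tabE8.coord 8) states edges (states.getD 12 ([], [])) i = true := by
  intro i hi
  replace hi : i ∈ ([] : List ℕ) := hi
  simp at hi

theorem state13 : chkState chevE8 (tabE8.coord 8) (states.getD 13 ([], [])) = true := by decide +kernel

theorem node13_4 : chkNodeT chevE8 tabE8 (tabE8.coord 8) states edges (states.getD 13 ([], [])) 4 = true := by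
  decide +kernel

theorem nodes13 : ∀ i ∈ (states.getD 13 ([], [])).2,
    chkNodeT chevE8 tabE8 (tabE8.coord 8) states edges (states.getD 13 ([], [])) i = true := by
  intro i hi
  replace hi : i ∈ ([4] : List ℕ) := hi
  simp only [List.mem_cons, List.not_mem_nil, or_false] at hi
  subst hi
  · exact node13_4

theorem state14 : chkState chevE8 (tabE8.coord 8) (states.getD 14 ([], [])) = true := by decide +kernel

theorem node14_2 : chkNodeT chevE8 tabE8 (tabE8.coord 8) states edges (states.getD 14 ([], [])) 2 = true := by
  decide +kernel

theorem node14_4 : chkNodeT chevE8 tabE8 (tabE8.coord 8) states edges (states.getD 14 ([], [])) 4 = true := by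
  decide +kernel

theorem node14_6 : chkNodeT chevE8 tabE8 (tabE8.coord 8) states edges (states.getD 14 ([], [])) 6 = true := by
  decide +kernel

theorem nodes14 : ∀ i ∈ (states.getD 14 ([], [])).2,
    chkNodeT chevE8 tabE8 (tabE8.coord 8) states edges (states.getD 14 ([], [])) i = true := by
  intro i hi
  replace hi : i ∈ ([2, 4, 6] : List ℕ) := hi
  simp only [List.mem_cons, List.not_mem_nil, or_false] at hi
  rcases hi with rfl | rfl | rfl
  · exact node14_2
  · exact node14_4
  · exact node14_6

theorem state15 : chkState chevE8 (tabE8.coord 8) (states.getD 15 ([], [])) = true := by decide +kernel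

theorem node15_1 : chkNodeT chevE8 tabE8 (tabE8.coord 8) states edges (states.getD 15 ([], [])) 1 = true := by
  decide +kernel

theorem node15_4 : chkNodeT chevE8 tabE8 (tabE8.coord 8) states edges (states.getD 15 ([], [])) 4 = true := by
  decide +kernel

theorem node15_6 : chkNodeT chevE8 tabE8 (tabE8.coord 8) states edges (states.getD 15 ([], [])) 6 = true := by
  decide +kernel

theorem nodes15 : ∀ i ∈ (states.getD 15 ([], [])).2,
    chkNodeT chevE8 tabE8 (tabE8.coord 8) states edges (states.getD 15 ([], [])) i = true := by
  intro i hi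
  replace hi : i ∈ ([1, 4, 6] : List ℕ) := hi
  simp only [List.mem_cons, List.not_mem_nil, or_false] at hi
  rcases hi with rfl | rfl | rfl
  · exact node15_1
  · exact node15_4
  · exact node15_6

theorem state16 : chkState chevE8 (tabE8.coord 8) (states.getD 16 ([], [])) = true := by decide +kernel

theorem node16_1 : chkNodeT chevE8 tabE8 (tabE8.coord 8) states edges (states.getD 16 ([], [])) 1 = true := by
  decide +kernel

theorem node16_2 : chkNodeT chevE8 tabE8 (tabE8.coord 8) states edges (states.getD 16 ([], [])) 2 = true := by
  decide +kernel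

theorem node16_6 : chkNodeT chevE8 tabE8 (tabE8.coord 8) states edges (states.getD 16 ([], [])) 6 = true := by
  decide +kernel

theorem nodes16 : ∀ i ∈ (states.getD 16 ([], [])).2,
    chkNodeT chevE8 tabE8 (tabE8.coord 8) states edges (states.getD 16 ([], [])) i = true := by
  intro i hi
  replace hi : i ∈ ([1, 2, 6] : List ℕ) := hi
  simp only [List.mem_cons, List.not_mem_nil, or_false] at hi
  rcases hi with rfl | rfl | rfl
  · exact node16_1
  · exact node16_2
  · exact node16_6

theorem state17 : chkState chevE8 (tabE8.coord 8) (states.getD 17 ([], [])) = true := by decide +kernel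

theorem node17_2 : chkNodeT chevE8 tabE8 (tabE8.coord 8) states edges (states.getD 17 ([], [])) 2 = true := by
  decide +kernel

theorem node17_6 : chkNodeT chevE8 tabE8 (tabE8.coord 8) states edges (states.getD 17 ([], [])) 6 = true := by
  decide +kernel

theorem nodes17 : ∀ i ∈ (states.getD 17 ([], [])).2,
    chkNodeT chevE8 tabE8 (tabE8.coord 8) states edges (states.getD 17 ([], [])) i = true := by
  intro i hi
  replace hi : i ∈ ([2, 6] : List ℕ) := hi
  simp only [List.mem_cons, List.not_mem_nil, or_false] at hi
  rcases hi with rfl | rfl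
  · exact node17_2
  · exact node17_6

theorem state18 : chkState chevE8 (tabE8.coord 8) (states.getD 18 ([], [])) = true := by decide +kernel

theorem node18_1 : chkNodeT chevE8 tabE8 (tabE8.coord 8) states edges (states.getD 18 ([], [])) 1 = true := by
  decide +kernel

theorem node18_6 : chkNodeT chevE8 tabE8 (tabE8.coord 8) states edges (states.getD 18 ([], [])) 6 = true := by
  decide +kernel

theorem nodes18 : ∀ i ∈ (states.getD 18 ([], [])).2,
    chkNodeT chevE8 tabE8 (tabE8.coord 8) states edges (states.getD 18 ([], [])) i = true := by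
  intro i hi
  replace hi : i ∈ ([1, 6] : List ℕ) := hi
  simp only [List.mem_cons, List.not_mem_nil, or_false] at hi
  rcases hi with rfl | rfl
  · exact node18_1
  · exact node18_6

theorem state19 : chkState chevE8 (tabE8.coord 8) (states.getD 19 ([], [])) = true := by decide +kernel

theorem node19_6 : chkNodeT chevE8 tabE8 (tabE8.coord 8) states edges (states.getD 19 ([], [])) 6 = true := by
  decide +kernel

theorem nodes19 : ∀ i ∈ (states.getD 19 ([], [])).2,
    chkNodeT chevE8 tabE8 (tabE8.coord 8) states edges (states.getD 19 ([], [])) i = true := by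
  intro i hi
  replace hi : i ∈ ([6] : List ℕ) := hi
  simp only [List.mem_cons, List.not_mem_nil, or_false] at hi
  subst hi
  · exact node19_6

theorem state20 : chkState chevE8 (tabE8.coord 8) (states.getD 20 ([], [])) = true := by decide +kernel

theorem node20_4 : chkNodeT chevE8 tabE8 (tabE8.coord 8) states edges (states.getD 20 ([], [])) 4 = true := by
  decide +kernel

theorem node20_6 : chkNodeT chevE8 tabE8 (tabE8.coord 8) states edges (states.getD 20 ([], [])) 6 = true := by
  decide +kernel

theorem nodes20 : ∀ i ∈ (states.getD 20 ([], [])).2,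
    chkNodeT chevE8 tabE8 (tabE8.coord 8) states edges (states.getD 20 ([], [])) i = true := by
  intro i hi
  replace hi : i ∈ ([4, 6] : List ℕ) := hi
  simp only [List.mem_cons, List.not_mem_nil, or_false] at hi
  rcases hi with rfl | rfl
  · exact node20_4
  · exact node20_6

theorem chk_inv : chkInv chevE8 (tabE8.coord 8) states edges = true := by
  refine sysE8.chkInv_of (fun i hi => checkedE8.cW i hi) fun T hT => ?_
  obtain ⟨k, hk, rfl⟩ := List.getElem_of_mem hT
  replace hk : k < 21 := hk
  rw [← List.getD_eq_getElem _ ([], []) ]
  interval_cases k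
  · exact ⟨state0, nodes0⟩
  · exact ⟨state1, nodes1⟩
  · exact ⟨state2, nodes2⟩
  · exact ⟨state3, nodes3⟩
  · exact ⟨state4, nodes4⟩
  · exact ⟨state5, nodes5⟩
  · exact ⟨state6, nodes6⟩
  · exact ⟨state7, nodes7⟩
  · exact ⟨state8, nodes8⟩
  · exact ⟨state9, nodes9⟩
  · exact ⟨state10, nodes10⟩
  · exact ⟨state11, nodes11⟩
  · exact ⟨state12, nodes12⟩
  · exact ⟨state13, nodes13⟩
  · exact ⟨state14, nodes14⟩
  · exact ⟨state15, nodes15⟩
  · exact ⟨state16, nodes16⟩
  · exact ⟨state17, nodes17⟩
  · exact ⟨state18, nodes18⟩
  · exact ⟨state19, nodes19⟩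
  · exact ⟨state20, nodes20⟩

end CfsgLib.Chevalley.InvE8
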