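import Cfsg.Agent.Chevalley.InvDataE8

/-! Involutions in characteristic two of type E8: checks of steps, first part (generated). -/

set_option autoImplicit false

namespace CfsgLib.Chevalley.InvE8

open Cfsg.Lie

theorem step3 : wordEqMask chevE8 masks ((steps.getD 3 ([], true, [], [])).2.2.1 ++ (steps.getD 3 ([], true, [], [])).1)
    ((steps.getD 3 ([], true, [], [])).2.2.2 ++ (steps.getD 3 ([], true, [], [])).2.2.1) = true := by decide +kernel

theorem step4 : wordEqMask chevE8 masks ((steps.getD 4 ([], true, [], [])).2.2.1 ++ (steps.getD 4 ([], true, [], [])).1)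
    ((steps.getD 4 ([], true, [], [])).2.2.2 ++ (steps.getD 4 ([], true, [], [])).2.2.1) = true := by decide +kernel

theorem step6 : wordEqMask chevE8 masks ((steps.getD 6 ([], true, [], [])).2.2.1 ++ (steps.getD 6 ([], true, [], [])).1)
    ((steps.getD 6 ([], true, [], [])).2.2.2 ++ (steps.getD 6 ([], true, [], [])).2.2.1) = true := by decide +kernel

theorem step8 : wordEqMask chevE8 masks ((steps.getD 8 ([], true, [], [])).2.2.1 ++ (steps.getD 8 ([], true, [], [])).1)
    ((steps.getD 8 ([], true, [], [])).2.2.2 ++ (steps.getD 8 ([], true, [], [])).2.2.1) = true := by decide +kernel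

end CfsgLib.Chevalley.InvE8
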