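import Cfsg.Agent.Chevalley.InvDataE8

/-! Involutions in characteristic two of type E8: checks of steps, second part (generated). -/

set_option autoImplicit false

namespace CfsgLib.Chevalley.InvE8

open Cfsg.Lie

theorem step11 : wordEqMask chevE8 masks ((steps.getD 11 ([], true, [], [])).2.2.1 ++ (steps.getD 11 ([], true, [], [])).1)
    ((steps.getD 11 ([], true, [], [])).2.2.2 ++ (steps.getD 11 ([], true, [], [])).2.2.1) = true := by decide +kernel

theorem step13 : wordEqMask chevE8 masks ((steps.getD 13 ([], true, [], [])).2.2.1 ++ (steps.getD 13 ([], true, [], [])).1)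
    ((steps.getD 13 ([], true, [], [])).2.2.2 ++ (steps.getD 13 ([], true, [], [])).2.2.1) = true := by decide +kernel

theorem step15 : wordEqMask chevE8 masks ((steps.getD 15 ([], true, [], [])).2.2.1 ++ (steps.getD 15 ([], true, [], [])).1)
    ((steps.getD 15 ([], true, [], [])).2.2.2 ++ (steps.getD 15 ([], true, [], [])).2.2.1) = true := by decide +kernel

theorem step17 : wordEqMask chevE8 masks ((steps.getD 17 ([], true, [], [])).2.2.1 ++ (steps.getD 17 ([], true, [], [])).1)
    ((steps.getD 17 ([], true, [], [])).2.2.2 ++ (steps.getD 17 ([], true, [], [])).2.2.1) = true := by decide +kernel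

end CfsgLib.Chevalley.InvE8
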