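import Cfsg.Agent.Chevalley.InvChkE8Masks
import Cfsg.Agent.Chevalley.InvChkE8Steps
import Cfsg.Agent.Chevalley.InvChkE8StepsB
import Cfsg.Agent.Chevalley.InvChkE8Ranks

/-! Involutions in characteristic two of type E8: checks of the words (generated). -/

set_option autoImplicit false

namespace CfsgLib.Chevalley.InvE8

open Cfsg.Lie

theorem step_conj_E8 (F : Type*) [Field F] [CharP F 2] [Finite F] : ∀ e ∈ steps, ∃ k ∈ chevE8.group F,
    k * sysE8.xProd F e.1 (fun _ => (1 : F)) * k⁻¹ = sysE8.xProd F e.2.2.2 fun _ => 1 := by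
  intro e he
  obtain ⟨k, hk, rfl⟩ := List.getElem_of_mem he
  replace hk : k < 19 := hk
  rw [← List.getD_eq_getElem _ ([], true, [], [])]
  interval_cases k
  · exact sysE8.stepWT_conj F (fun i hi => checkedE8.cW i hi) step0
  · exact sysE8.stepWT_conj F (fun i hi => checkedE8.cW i hi) step1
  · exact sysE8.stepWT_conj F (fun i hi => checkedE8.cW i hi) step2
  · exact sysE8.conj_of_wordEqMask F chk_masks step3
  · exact sysE8.conj_of_wordEqMask F chk_masks step4
  · exact sysE8.stepWT_conj F (fun i hi => checkedE8.cW i hi) step5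
  · exact sysE8.conj_of_wordEqMask F chk_masks step6
  · exact sysE8.stepWT_conj F (fun i hi => checkedE8.cW i hi) step7
  · exact sysE8.conj_of_wordEqMask F chk_masks step8
  · exact sysE8.stepWT_conj F (fun i hi => checkedE8.cW i hi) step9
  · exact sysE8.stepWT_conj F (fun i hi => checkedE8.cW i hi) step10
  · exact sysE8.conj_of_wordEqMask F chk_masks step11
  · exact sysE8.stepWT_conj F (fun i hi => checkedE8.cW i hi) step12
  · exact sysE8.conj_of_wordEqMask F chk_masks step13
  · exact sysE8.stepWT_conj F (fun i hi => checkedE8.cW i hi) step14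
  · exact sysE8.conj_of_wordEqMask F chk_masks step15
  · exact sysE8.stepWT_conj F (fun i hi => checkedE8.cW i hi) step16
  · exact sysE8.conj_of_wordEqMask F chk_masks step17
  · exact sysE8.stepWT_conj F (fun i hi => checkedE8.cW i hi) step18

end CfsgLib.Chevalley.InvE8
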