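import Cfsg.Agent.Chevalley.InvReduce
import Cfsg.Agent.Chevalley.EvalTwo

/-!
Involutions in characteristic two: the products over orthogonal roots are conjugate to chosen
representatives, which are separated by the rank of `g - 1`.
-/

set_option autoImplicit false

namespace CfsgLib.Chevalley

open Cfsg.Lie
open scoped Matrix Pointwise

variable {D : ChevalleyDatum}

/-- A step `(R, isWeyl, w, R')` conjugating the product over `R` to the product over `R'`. -/
abbrev InvStep : Type := List ℕ × Bool × List ℕ × List ℕ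

/-- Check: one step. -/
def chkInvStep (D : ChevalleyDatum) (e : InvStep) : Bool :=
  if e.2.1 then chkOrthList D e.2.2.2 && chkEvenComm D e.2.2.2 e.2.2.2 &&
      e.2.2.1.all (fun j => decide (j < D.rank)) && e.1.all (fun r => decide (r < D.nroots)) &&
      (e.1.map (wApp D e.2.2.1)).isPerm e.2.2.2
  else e.2.2.1.all (fun r => decide (r < D.nroots)) &&
    wordEqBit D (e.2.2.1 ++ e.1) (e.2.2.2 ++ e.2.2.1)

/-- Check: a list of steps, each leading to something known. -/
def chkSteps (D : ChevalleyDatum) : List InvStep → List (List ℕ) → Bool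
  | [], _ => true
  | e :: L, known => chkInvStep D e && known.contains e.2.2.2 && chkSteps D L (e.1 :: known)

namespace Sys

variable (S : Sys D)
include S

variable (F : Type*) [Field F]

theorem xProd_mem_group {L : List ℕ} (h : ∀ r ∈ L, r < D.nroots) (f : ℕ → F) :
    S.xProd F L f ∈ D.group F := by
  refine Subgroup.list_prod_mem _ fun g hg => ?_
  obtain ⟨r, hr, rfl⟩ := List.mem_map.mp hg
  exact S.xG_mem F (h r hr) _

variable [CharP F 2]

theorem step_conj [Finite F] {e : InvStep} (h : chkInvStep D e = true) :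
    ∃ k ∈ D.group F, k * S.xProd F e.1 (fun _ => (1 : F)) * k⁻¹ =
      S.xProd F e.2.2.2 fun _ => 1 := by
  classical
  unfold chkInvStep at h
  split_ifs at h with hw
  · simp only [Bool.and_eq_true, List.all_eq_true, decide_eq_true_eq, List.isPerm_iff] at h
    obtain ⟨⟨⟨⟨hor, hcomm⟩, hj⟩, hlt⟩, hperm⟩ := h
    obtain ⟨L, hLval⟩ : ∃ L : List (Fin D.rank), L.map Fin.val = e.2.2.1 := by
      refine ⟨e.2.2.1.pmap (fun j hj => (⟨j, hj⟩ : Fin D.rank)) fun j hj' => hj j hj', ?_⟩
      rw [List.map_pmap]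
      simp
    set w := S.wN F L with hwdef
    choose c hc0 hc using fun s : Fin D.nroots => S.conj_root F w s
    let f' : ℕ → F := fun s => if hs : s < D.nroots then
      c ((S.perm F w).symm ⟨s, hs⟩) else 1
    have himg : ∀ r < D.nroots, (w : GL D.Idx F) * S.xG F r 1 * (w : GL D.Idx F)⁻¹ =
        S.xG F (wApp D e.2.2.1 r) (f' (wApp D e.2.2.1 r)) := by
      intro r hr
      have h1 := (hc ⟨r, hr⟩ 1).1
      rw [mul_one] at h1
      have hv : (S.perm F w ⟨r, hr⟩ : ℕ) = wApp D e.2.2.1 r := by
        rw [hwdef, S.perm_wN, S.wperm_val_reduce, hLval]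
      rw [h1, ← hv]
      congr 1
      simp [f']
    have hconj : ∀ M : List ℕ, (∀ r ∈ M, r < D.nroots) →
        (w : GL D.Idx F) * S.xProd F M (fun _ => (1 : F)) * (w : GL D.Idx F)⁻¹ =
          S.xProd F (M.map (wApp D e.2.2.1)) f' := by
      intro M hM
      induction M with
      | nil => simp [xProd]
      | cons a M ih =>
        rw [List.forall_mem_cons] at hM
        rw [List.map_cons, xProd_cons, xProd_cons, ← ih hM.2, ← himg a hM.1]
        group
    have hp : S.xProd F e.2.2.2 f' = S.xProd F (e.1.map (wApp D e.2.2.1)) f' := by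
      unfold xProd
      refine (hperm.symm.map _).prod_eq' ?_
      rw [List.pairwise_map]
      exact List.pairwise_of_forall_mem_list fun a ha b hb =>
        S.evenComm_commute F hcomm ha hb _ _
    obtain ⟨k, hk, hk'⟩ := S.normalise F hor f' fun r _ => by
      show (if hs : r < D.nroots then _ else _) ≠ (0 : F)
      split_ifs with hs
      · exact hc0 _
      · exact one_ne_zero
    refine ⟨k * w, mul_mem hk (S.monomial_le_group F w.2), ?_⟩
    rw [← hk', hp, ← hconj e.1 hlt]
    group
  · simp only [Bool.and_eq_true, List.all_eq_true, decide_eq_true_eq] at h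
    refine ⟨S.xProd F e.2.2.1 (fun _ => 1), S.xProd_mem_group F h.1 _, ?_⟩
    have h2 := S.wordEqBit_sound F h.2
    simp only [xProd, List.map_append, List.prod_append] at h2 ⊢
    rw [h2, mul_inv_cancel_right]

theorem steps_conj [Finite F] {reps : List (List ℕ)} : ∀ (L : List InvStep) (known : List (List ℕ)),
    chkSteps D L known = true →
    (∀ R ∈ known, ∃ R₀ ∈ reps, ∃ k ∈ D.group F,
      k * S.xProd F R (fun _ => (1 : F)) * k⁻¹ = S.xProd F R₀ fun _ => 1) →
    ∀ R, R ∈ L.map (fun e => e.1) ∨ R ∈ known → ∃ R₀ ∈ reps, ∃ k ∈ D.group F,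
      k * S.xProd F R (fun _ => (1 : F)) * k⁻¹ = S.xProd F R₀ fun _ => 1 := by
  intro L
  induction L with
  | nil => intro known _ hk R hR; simpa using hk R (by simpa using hR)
  | cons e L ih =>
    intro known h hk R hR
    simp only [chkSteps, Bool.and_eq_true, List.contains_iff_mem] at h
    obtain ⟨⟨h1, h2⟩, h3⟩ := h
    refine ih (e.1 :: known) h3 (fun R' hR' => ?_) R ?_
    · rcases List.mem_cons.mp hR' with rfl | hR'
      · obtain ⟨k, hkm, hke⟩ := S.step_conj F h1
        obtain ⟨R₀, hR₀, k', hk'm, hk'e⟩ := hk _ h2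
        refine ⟨R₀, hR₀, k' * k, mul_mem hk'm hkm, ?_⟩
        rw [← hk'e, ← hke]
        group
      · exact hk R' hR'
    · simp only [List.map_cons, List.mem_cons] at hR ⊢
      tauto

/-- Every involution is conjugate to a representative. -/
theorem exists_rep [Fintype F] {Ts : List InvState} {E : List InvEdge} {L : List InvStep}
    {reps : List (List ℕ)} (hinv : chkInv D S.vec Ts E = true)
    (htop : ([], List.range D.rank) ∈ Ts) (hsteps : chkSteps D L reps = true)
    (hcover : ∀ T ∈ Ts, T.1 = [] ∨ T.1 ∈ L.map (fun e => e.1) ∨ T.1 ∈ reps)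
    {g : GL D.Idx F} (hg : g ∈ D.group F) (hg2 : orderOf g = 2) :
    ∃ R ∈ reps, ∃ h ∈ D.group F, h * g * h⁻¹ = S.xProd F R fun _ => 1 := by
  obtain ⟨T, hT, hne, h, hh, he⟩ := S.involution_states F hinv htop hg hg2
  obtain ⟨R, hR, k, hk, hke⟩ := S.steps_conj F L reps hsteps
    (fun R hR => ⟨R, hR, 1, one_mem _, by group⟩) T.1 ((hcover T hT).resolve_left hne)
  refine ⟨R, hR, k * h, mul_mem hk hh, ?_⟩
  rw [← hke, ← he]
  group

theorem orderOf_xProd {R : List ℕ} (hsq : wordEqBit D (R ++ R) [] = true)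
    (hne : S.xProd F R (fun _ => (1 : F)) ≠ 1) : orderOf (S.xProd F R fun _ => (1 : F)) = 2 := by
  haveI := Fact.mk Nat.prime_two
  refine orderOf_eq_prime ?_ hne
  have h := S.wordEqBit_sound F hsq
  simp only [xProd, List.map_append, List.prod_append, List.map_nil, List.prod_nil] at h
  rw [sq]
  exact h

theorem ne_one_of_rank {R C : List ℕ} {B : List (ℕ × ℕ × List ℕ)} (h : chkRank D R C B = true)
    (hB : B.length ≠ 0) : S.xProd F R (fun _ => (1 : F)) ≠ 1 := by
  intro e
  have := S.rank_sub_one F h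
  rw [e, Units.val_one, sub_self, Matrix.rank_zero] at this
  exact hB this.symm

omit [CharP F 2] in
theorem rank_conj {g h : GL D.Idx F} :
    (((h * g * h⁻¹ : GL D.Idx F) : Matrix D.Idx D.Idx F) - 1).rank =
      ((g : Matrix D.Idx D.Idx F) - 1).rank := by
  have e : ((h * g * h⁻¹ : GL D.Idx F) : Matrix D.Idx D.Idx F) - 1 =
      (h : Matrix D.Idx D.Idx F) * ((g : Matrix D.Idx D.Idx F) - 1) *
        ((h⁻¹ : GL D.Idx F) : Matrix D.Idx D.Idx F) := by
    rw [mul_sub, sub_mul, mul_one, Units.val_mul, Units.val_mul, Units.mul_inv]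
  rw [e, Matrix.rank_mul_eq_left_of_isUnit_det _ _
      ((Matrix.isUnit_iff_isUnit_det _).mp (h⁻¹ : GL D.Idx F).isUnit),
    Matrix.rank_mul_eq_right_of_isUnit_det _ _ ((Matrix.isUnit_iff_isUnit_det _).mp h.isUnit)]

end Sys

end CfsgLib.Chevalley
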