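import Cfsg.Agent.Chevalley.InvCoord

/-!
Involutions in characteristic two: an involution `x_b(a) q` with `b` fundamental is conjugate to one
with `q` supported on roots orthogonal to `b`.
-/

set_option autoImplicit false

namespace CfsgLib.Chevalley

open Cfsg.Lie
open scoped Matrix Pointwise

variable {D : ChevalleyDatum}

/-- The terms `(k, c, a, 1)` with odd `c` leading out of the orthogonal complement of `p_i`. -/
def topTerms (D : ChevalleyDatum) (i u : ℕ) : List (ℕ × ℤ × ℕ × ℕ) :=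
  (D.commTerms (D.simple i) u).filter fun c =>
    decide (c.2.1 % 2 ≠ 0) && decide (c.2.2.2 = 1) && decide (D.cartan i c.1 ≠ 0)

/-- Check: the shape of the commutators of a fundamental root with the roots supported on `J`. -/
def chkClean (D : ChevalleyDatum) (co : ℕ → ℕ → ℤ) (J : List ℕ) (i : ℕ) : Bool :=
  decide (i < D.rank) && J.contains i && J.all (fun j => decide (j < D.rank)) &&
  decide (sumOn co (otherPos J i) (D.simple i) = 0) &&
  (spanList D co J).all fun u => u == D.simple i ||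
    (decide (1 ≤ sumOn co (otherPos J i) u) &&
      ((D.commTerms (D.simple i) u).all fun c => decide (c.2.1 % 2 = 0) ||
        (decide (D.cartan i u ≠ 0) && (spanList D co J).contains c.1)) &&
      (if D.cartan i u < 0 then decide ((topTerms D i u).length = 1) &&
          (topTerms D i u).all fun c => decide (0 < D.cartan i c.1) &&
            decide (c.1 = D.reflectRoot i u)
        else (topTerms D i u).isEmpty) &&
      (decide (D.cartan i u ≤ 0) || ((spanList D co J).contains (D.reflectRoot i u) &&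
        decide (D.reflectRoot i u ≠ D.simple i) &&
        (topTerms D i (D.reflectRoot i u)).any fun c => c.1 == u)))

namespace Sys

variable (S : Sys D)
include S

/-- The roots supported on `J`, other than `p_i`, orthogonal to `p_i` or of large degree. -/
def levelSet (J : List ℕ) (i : ℕ) (d : ℤ) : Set ℕ :=
  {r | (r ∈ S.spanSet J ∧ r ≠ D.simple i) ∧ (D.cartan i r = 0 ∨ d ≤ sumOn S.vec (otherPos J i) r)}

/-- The content of `chkClean`. -/
structure CleanFacts (J : List ℕ) (i : ℕ) : Prop where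
  lt : i < D.rank
  mem : i ∈ J
  posJ : ∀ m ∈ otherPos J i, m < D.rank
  deg_simple : sumOn S.vec (otherPos J i) (D.simple i) = 0
  deg_pos : ∀ u ∈ S.spanSet J, u ≠ D.simple i → 1 ≤ sumOn S.vec (otherPos J i) u
  odd_terms : ∀ u ∈ S.spanSet J, u ≠ D.simple i → ∀ c ∈ D.commTerms (D.simple i) u,
    c.2.1 % 2 = 0 ∨ (D.cartan i u ≠ 0 ∧ c.1 ∈ S.spanSet J)
  top_neg : ∀ u ∈ S.spanSet J, u ≠ D.simple i → D.cartan i u < 0 →
    ∃ c, topTerms D i u = [c] ∧ 0 < D.cartan i c.1
  top_nonneg : ∀ u ∈ S.spanSet J, u ≠ D.simple i → 0 ≤ D.cartan i u → topTerms D i u = []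
  bottom : ∀ u ∈ S.spanSet J, u ≠ D.simple i → 0 < D.cartan i u →
    ∃ v, ((v ∈ S.spanSet J ∧ v ≠ D.simple i) ∧ ∃ c ∈ topTerms D i v, c.1 = u) ∧
      ∀ w ∈ S.spanSet J, w ≠ D.simple i → (∃ c ∈ topTerms D i w, c.1 = u) → w = v

theorem cleanFacts_of_chk {J : List ℕ} {i : ℕ} (h : chkClean D S.vec J i = true) :
    S.CleanFacts J i := by
  simp only [chkClean, Bool.and_eq_true, decide_eq_true_eq, List.all_eq_true, Bool.or_eq_true,
    List.contains_iff_mem, beq_iff_eq] at h
  obtain ⟨⟨⟨⟨h1, h2⟩, h3⟩, h4⟩, h5⟩ := h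
  have h5' : ∀ u ∈ S.spanSet J, u ≠ D.simple i → _ := fun u hu hne => (h5 u hu).resolve_left hne
  refine ⟨h1, h2, fun m hm => h3 m (List.mem_of_mem_filter hm), h4,
    fun u hu hne => (h5' u hu hne).1.1.1, fun u hu hne c hc => (h5' u hu hne).1.1.2 c hc,
    fun u hu hne hn => ?_, fun u hu hne hn => ?_, fun u hu hne hp => ?_⟩
  · have := (h5' u hu hne).1.2
    rw [if_pos hn] at this
    simp only [Bool.and_eq_true, decide_eq_true_eq, List.all_eq_true] at this
    obtain ⟨c, hc⟩ := List.length_eq_one_iff.mp this.1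
    exact ⟨c, hc, (this.2 c (by rw [hc]; simp)).1⟩
  · have := (h5' u hu hne).1.2
    rw [if_neg (by omega)] at this
    simpa using this
  · obtain ⟨⟨hv1, hv2⟩, hv3⟩ := (h5' u hu hne).2.resolve_left (by omega)
    simp only [List.any_eq_true, beq_iff_eq] at hv3
    refine ⟨D.reflectRoot i u, ⟨⟨hv1, hv2⟩, hv3⟩, fun w hw hwne he => ?_⟩
    obtain ⟨c, hc, hcu⟩ := he
    have hneg : D.cartan i w < 0 := by
      by_contra hn
      have := (h5' w hw hwne).1.2
      rw [if_neg hn] at this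
      simp only [List.isEmpty_iff] at this
      rw [this] at hc
      simp at hc
    have := (h5' w hw hwne).1.2
    rw [if_pos hneg] at this
    simp only [Bool.and_eq_true, decide_eq_true_eq, List.all_eq_true] at this
    rw [← hcu, (this.2 c hc).2, S.w_w i h1 w (S.mem_spanList.mp hw).1.2]

variable {S} {J : List ℕ} {i : ℕ} (hC : S.CleanFacts J i)
include hC

theorem pos_of_level {d : ℤ} {r : ℕ} (hr : r ∈ S.levelSet J i d) :
    D.nroots / 2 ≤ r ∧ r < D.nroots := (S.mem_spanList.mp hr.1.1).1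

theorem closed_level (d : ℤ) : S.Closed (S.levelSet J i d) := by
  rintro r ⟨⟨hrS, hrb⟩, hr⟩ s ⟨⟨hsS, hsb⟩, hs⟩ pr ps k hk a b ha hb hv
  have hd := S.sumOn_lin hC.posJ hv
  have h1 := hC.deg_pos r hrS hrb
  have h2 := hC.deg_pos s hsS hsb
  have e1 : sumOn S.vec (otherPos J i) r ≤ (a : ℤ) * sumOn S.vec (otherPos J i) r :=
    le_mul_of_one_le_left (by omega) (by omega)
  have e2 : sumOn S.vec (otherPos J i) s ≤ (b : ℤ) * sumOn S.vec (otherPos J i) s :=
    le_mul_of_one_le_left (by omega) (by omega)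
  refine ⟨⟨S.closed_spanSet J r hrS s hsS pr ps k hk a b ha hb hv, fun e => ?_⟩, ?_⟩
  · subst e
    rw [hC.deg_simple] at hd
    omega
  · by_cases hz : D.cartan i r = 0 ∧ D.cartan i s = 0
    · left
      rw [S.cartan_lin hC.lt ((S.pos_iff r).mp pr).2 ((S.pos_iff s).mp ps).2 hk hv, hz.1, hz.2]
      simp
    · right
      rcases hr with hr | hr <;> rcases hs with hs | hs
      · exact absurd ⟨hr, hs⟩ hz
      all_goals omega

theorem closed_level_diff (d : ℤ) {u : ℕ} (hu : D.cartan i u ≠ 0)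
    (hud : sumOn S.vec (otherPos J i) u = d) : S.Closed (S.levelSet J i d \ {u}) := by
  rintro r ⟨hr, -⟩ s ⟨hs, -⟩ pr ps k hk a b ha hb hv
  refine ⟨closed_level hC d r hr s hs pr ps k hk a b ha hb hv, fun e => ?_⟩
  rw [Set.mem_singleton_iff] at e
  subst e
  obtain ⟨⟨hrS, hrb⟩, hr⟩ := hr
  obtain ⟨⟨hsS, hsb⟩, hs⟩ := hs
  have hd := S.sumOn_lin hC.posJ hv
  have h1 := hC.deg_pos r hrS hrb
  have h2 := hC.deg_pos s hsS hsb
  have e1 : sumOn S.vec (otherPos J i) r ≤ (a : ℤ) * sumOn S.vec (otherPos J i) r :=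
    le_mul_of_one_le_left (by omega) (by omega)
  have e2 : sumOn S.vec (otherPos J i) s ≤ (b : ℤ) * sumOn S.vec (otherPos J i) s :=
    le_mul_of_one_le_left (by omega) (by omega)
  rcases hr with hr | hr <;> rcases hs with hs | hs
  · refine hu ?_
    rw [S.cartan_lin hC.lt ((S.pos_iff r).mp pr).2 ((S.pos_iff s).mp ps).2 hk hv, hr, hs]
    simp
  all_goals omega

variable {F : Type*} [Field F] [CharP F 2]

/-- The roots of the commutators with `p_i` stay in the level set. -/
theorem term_mem {d : ℤ} {w : ℕ} (hw : w ∈ S.levelSet J i d) {c : ℕ × ℤ × ℕ × ℕ}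
    (hc : c ∈ D.commTerms (D.simple i) w) (hodd : c.2.1 % 2 ≠ 0) :
    c.1 ∈ S.levelSet J i d ∧ D.cartan i w ≠ 0 ∧
      sumOn S.vec (otherPos J i) c.1 = (c.2.2.2 : ℤ) * sumOn S.vec (otherPos J i) w := by
  obtain ⟨hp, hk⟩ := (hC.odd_terms w hw.1.1 hw.1.2 c hc).resolve_left hodd
  have hwl := (pos_of_level hC hw).2
  obtain ⟨c1, c2, c3⟩ := S.commTerms_vec (S.wf.simple_lt i hC.lt) hwl hc
  have hd := S.sumOn_lin hC.posJ c3
  rw [hC.deg_simple, mul_zero, zero_add] at hd
  have h1 := hC.deg_pos w hw.1.1 hw.1.2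
  have e1 : sumOn S.vec (otherPos J i) w ≤ (c.2.2.2 : ℤ) * sumOn S.vec (otherPos J i) w :=
    le_mul_of_one_le_left (by omega) (by omega)
  refine ⟨⟨⟨hk, fun e => ?_⟩, Or.inr ?_⟩, hp, hd⟩
  · rw [e, hC.deg_simple] at hd
    omega
  · rcases hw.2 with h | h
    · exact absurd h hp
    · omega

/-- The contribution to the coordinate `u` of the commutator of `p_i` and `w`. -/
def termValClean (D : ChevalleyDatum) {F : Type*} [Field F] (i w u : ℕ) (A t : F) : F :=
  (((topTerms D i w).filter fun c => c.1 == u).map fun c => A ^ c.2.2.1 * t).sum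

omit hC in
theorem cast_of_odd {z : ℤ} (h : z % 2 ≠ 0) : (z : F) = 1 := by
  have h2 : ((z - 1 : ℤ) : F) = 0 := S.int_cast_eq_zero F (by omega)
  push_cast at h2
  exact sub_eq_zero.mp h2

theorem coord_word {d : ℤ} {u w : ℕ} (hu : u ∈ S.levelSet J i d) (hun : D.cartan i u ≠ 0)
    (hud : sumOn S.vec (otherPos J i) u = d) (hw : w ∈ S.levelSet J i d) (A t : F) :
    S.Coord F (S.levelSet J i d) u (S.wG F (D.commWord F (D.simple i) w (-A) t))
      (termValClean D i w u A t) := by
  have hP := closed_level hC d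
  have hup := pos_of_level hC hu
  have key : ∀ L : List (ℕ × ℤ × ℕ × ℕ), (∀ c ∈ L, c ∈ D.commTerms (D.simple i) w) →
      S.Coord F (S.levelSet J i d) u
        (S.wG F (L.map fun c => (c.1, (c.2.1 : F) * (- -A) ^ c.2.2.1 * t ^ c.2.2.2)))
        (((L.filter fun c => (decide (c.2.1 % 2 ≠ 0) && decide (c.2.2.2 = 1) &&
          decide (D.cartan i c.1 ≠ 0)) && c.1 == u).map fun c => A ^ c.2.2.1 * t).sum) := by
    intro L hL
    induction L with
    | nil => simpa [wG] using S.coord_one (F := F) (S.levelSet J i d) u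
    | cons c L ih =>
      rw [List.forall_mem_cons] at hL
      have hrest := ih hL.2
      have hfirst : S.Coord F (S.levelSet J i d) u
          (S.xG F c.1 ((c.2.1 : F) * (- -A) ^ c.2.2.1 * t ^ c.2.2.2))
          ((([c].filter fun c => (decide (c.2.1 % 2 ≠ 0) && decide (c.2.2.2 = 1) &&
            decide (D.cartan i c.1 ≠ 0)) && c.1 == u).map fun c => A ^ c.2.2.1 * t).sum) := by
        by_cases hev : c.2.1 % 2 = 0
        · rw [S.int_cast_eq_zero F hev, zero_mul, zero_mul, S.xG_zero,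
            List.filter_cons_of_neg (by simp [hev])]
          exact S.coord_one _ u
        · obtain ⟨hk, hp, hdeg⟩ := term_mem hC hw hL.1 hev
          have hx := S.coord_xG (F := F) (u := u) hk (pos_of_level hC hk)
            ((c.2.1 : F) * (- -A) ^ c.2.2.1 * t ^ c.2.2.2)
          convert hx using 1
          rw [S.cast_of_odd hev, one_mul, neg_neg]
          by_cases he : c.1 = u
          · have hj : c.2.2.2 = 1 := by
              obtain ⟨c1, c2, c3⟩ := S.commTerms_vec (S.wf.simple_lt i hC.lt)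
                (pos_of_level hC hw).2 hL.1
              have hwd : d ≤ sumOn S.vec (otherPos J i) w := hw.2.resolve_left hp
              have h1 := hC.deg_pos w hw.1.1 hw.1.2
              have h2 := hC.deg_pos u hu.1.1 hu.1.2
              rw [he, hud] at hdeg
              by_contra hj
              have e2 : 2 * sumOn S.vec (otherPos J i) w ≤
                  (c.2.2.2 : ℤ) * sumOn S.vec (otherPos J i) w :=
                mul_le_mul_of_nonneg_right (by omega) (by omega)
              omega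
            rw [if_pos he, List.filter_cons_of_pos (by simp [hev, hj, he, hun])]
            simp [hj]
          · rw [if_neg he, List.filter_cons_of_neg (by simp [he])]
            simp
      have := S.coord_mul hP hu hup hfirst hrest
      rw [List.map_cons, wG, List.map_cons, List.prod_cons]
      convert this using 1
      · rfl
      · rw [List.filter_cons, List.filter_cons, List.filter_nil]
        split_ifs <;> simp
  have h := key _ fun c hc => hc
  rw [termValClean, topTerms, List.filter_filter]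
  have e : (fun a : ℕ × ℤ × ℕ × ℕ => (a.1 == u) && (decide (a.2.1 % 2 ≠ 0) &&
      decide (a.2.2.2 = 1) && decide (D.cartan i a.1 ≠ 0))) =
      fun c => (decide (c.2.1 % 2 ≠ 0) && decide (c.2.2.2 = 1) &&
        decide (D.cartan i c.1 ≠ 0)) && c.1 == u := funext fun a => Bool.and_comm _ _
  rw [e]
  exact h

/-- The coordinates of a conjugate of a root element by `x_i(A)`. -/
theorem coord_conj {d : ℤ} {u w : ℕ} (hu : u ∈ S.levelSet J i d) (hun : D.cartan i u ≠ 0)
    (hud : sumOn S.vec (otherPos J i) u = d) (hw : w ∈ S.levelSet J i d) (A t : F) :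
    S.Coord F (S.levelSet J i d) u
      (S.xG F (D.simple i) A * S.xG F w t * (S.xG F (D.simple i) A)⁻¹)
      ((if w = u then t else 0) + termValClean D i w u A t) := by
  obtain ⟨hw1, hw2⟩ := pos_of_level hC hw
  rw [S.xG_conj F (S.wf.simple_lt i hC.lt) hw2 hw.1.2 (fun e => by
    have := (S.neg_half _ (S.wf.simple_lt i hC.lt)).mpr (S.simple_pos i hC.lt)
    omega)]
  exact S.coord_mul (closed_level hC d) hu (pos_of_level hC hu)
    (S.coord_xG hw ⟨hw1, hw2⟩ t) (coord_word hC hu hun hud hw A t)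

theorem conj_mem {d : ℤ} (A : F) {q : GL D.Idx F} (hq : q ∈ uSub D F (S.levelSet J i d)) :
    S.xG F (D.simple i) A * q * (S.xG F (D.simple i) A)⁻¹ ∈ uSub D F (S.levelSet J i d) := by
  refine closure_conj_mem ?_ hq
  rintro y ⟨w, t, ⟨hw, hwp⟩, hy⟩
  obtain ⟨hw1, hw2⟩ := (S.pos_iff w).mp hwp
  rw [S.eq_xG F hy, S.xG_conj F (S.wf.simple_lt i hC.lt) hw2 hw.1.2 (fun e => by
    have := (S.neg_half _ (S.wf.simple_lt i hC.lt)).mpr (S.simple_pos i hC.lt)
    omega)]
  refine mul_mem (S.xG_mem_uSub F hw hw1 hw2 t) (Subgroup.list_prod_mem _ fun g hg => ?_)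
  simp only [ChevalleyDatum.commWord, List.map_map, List.mem_map, Function.comp_apply] at hg
  obtain ⟨c, hc, rfl⟩ := hg
  by_cases hev : c.2.1 % 2 = 0
  · rw [S.int_cast_eq_zero F hev, zero_mul, zero_mul, S.xG_zero]; exact one_mem _
  · obtain ⟨hk, -, -⟩ := term_mem hC hw hc hev
    exact S.xG_mem_uSub F hk (pos_of_level hC hk).1 (pos_of_level hC hk).2 _

theorem termVal_of_bottom {v k : ℕ} {c : ℕ × ℤ × ℕ × ℕ} (hv : v ∈ S.spanSet J ∧ v ≠ D.simple i)
    (hc : topTerms D i v = [c]) (hk : c.1 = k) (A t : F) :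
    termValClean D i v k A t = A ^ c.2.2.1 * t := by
  simp [termValClean, hc, hk]

theorem termVal_zero {w u : ℕ} (h : ∀ c ∈ topTerms D i w, c.1 ≠ u) (A t : F) :
    termValClean D i w u A t = 0 := by
  rw [termValClean, List.filter_eq_nil_iff.mpr (fun c hc => by simpa using h c hc)]
  simp

/-- The bottom of a root of positive pairing, in the same layer. -/
theorem bottom_spec {d : ℤ} {u : ℕ} (hu : u ∈ S.levelSet J i d) (hup : 0 < D.cartan i u)
    (hud : sumOn S.vec (otherPos J i) u = d) :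
    ∃ v c, v ∈ S.levelSet J i d ∧ D.cartan i v < 0 ∧ sumOn S.vec (otherPos J i) v = d ∧
      topTerms D i v = [c] ∧ c.1 = u ∧
      ∀ w ∈ S.levelSet J i d, (∃ c ∈ topTerms D i w, c.1 = u) → w = v := by
  obtain ⟨v, ⟨⟨hv, hvb⟩, c, hc, hcu⟩, huniq⟩ := hC.bottom u hu.1.1 hu.1.2 hup
  have hneg : D.cartan i v < 0 := by
    by_contra hn
    rw [hC.top_nonneg v hv hvb (not_lt.mp hn)] at hc
    simp at hc
  obtain ⟨c', hc', -⟩ := hC.top_neg v hv hvb hneg
  have hcc : c = c' := by rw [hc'] at hc; simpa using hc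
  have hmem : c ∈ D.commTerms (D.simple i) v ∧ c.2.1 % 2 ≠ 0 ∧ c.2.2.2 = 1 := by
    simp only [topTerms, List.mem_filter, Bool.and_eq_true, decide_eq_true_eq] at hc
    exact ⟨hc.1, hc.2.1.1, hc.2.1.2⟩
  obtain ⟨c1, c2, c3⟩ := S.commTerms_vec (S.wf.simple_lt i hC.lt) (S.mem_spanList.mp hv).1.2 hmem.1
  have hd := S.sumOn_lin hC.posJ c3
  rw [hC.deg_simple, mul_zero, zero_add, hmem.2.2, hcu, hud] at hd
  have hd' : sumOn S.vec (otherPos J i) v = d := by simpa using hd.symm
  exact ⟨v, c, ⟨⟨hv, hvb⟩, Or.inr hd'.ge⟩, hneg, hd', by rw [hc', hcc], hcu,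
    fun w hw he => huniq w hw.1.1 hw.1.2 he⟩

/-- The two coordinates of the fixed-point equation. -/
theorem coord_shift {d : ℤ} {k s : ℕ} {c : ℕ × ℤ × ℕ × ℕ} (hk : k ∈ S.levelSet J i d)
    (hkp : 0 < D.cartan i k) (hkd : sumOn S.vec (otherPos J i) k = d)
    (hs : s ∈ S.levelSet J i d) (hsn : D.cartan i s < 0)
    (hsd : sumOn S.vec (otherPos J i) s = d) (hc : topTerms D i s = [c]) (hck : c.1 = k)
    (huniq : ∀ w ∈ S.levelSet J i d, (∃ c ∈ topTerms D i w, c.1 = k) → w = s) (A : F)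
    {q : GL D.Idx F} (hq : q ∈ uSub D F (S.levelSet J i d)) :
    ∃ cs ck, S.Coord F (S.levelSet J i d) s q cs ∧ S.Coord F (S.levelSet J i d) k q ck ∧
      S.Coord F (S.levelSet J i d) k
        (S.xG F (D.simple i) A * q * (S.xG F (D.simple i) A)⁻¹) (ck + A ^ c.2.2.1 * cs) := by
  have hP := closed_level hC d
  have gen : ∀ w ∈ S.levelSet J i d, ∀ t : F,
      ∃ cs ck, S.Coord F (S.levelSet J i d) s (S.xG F w t) cs ∧
        S.Coord F (S.levelSet J i d) k (S.xG F w t) ck ∧ S.Coord F (S.levelSet J i d) k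
          (S.xG F (D.simple i) A * S.xG F w t * (S.xG F (D.simple i) A)⁻¹)
          (ck + A ^ c.2.2.1 * cs) := by
    intro w hw t
    refine ⟨_, _, S.coord_xG hw (pos_of_level hC hw) t, S.coord_xG hw (pos_of_level hC hw) t, ?_⟩
    have h := coord_conj hC hk hkp.ne' hkd hw A t
    by_cases hws : w = s
    · subst hws
      rw [termVal_of_bottom hC hw.1 hc hck] at h
      simpa using h
    · rw [termVal_zero hC (fun c hc' e => hws (huniq w hw ⟨c, hc', e⟩))] at h
      simpa [hws] using h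
  induction hq using Subgroup.closure_induction'' with
  | mem x hx =>
    obtain ⟨w, t, ⟨hw, -⟩, hx⟩ := hx
    rw [S.eq_xG F hx]
    exact gen w hw t
  | inv_mem x hx =>
    obtain ⟨w, t, ⟨hw, -⟩, hx⟩ := hx
    rw [S.eq_xG F hx, S.xG_inv]
    exact gen w hw (-t)
  | one => exact ⟨0, 0, S.coord_one _ _, S.coord_one _ _, by simpa using S.coord_one (F := F) _ k⟩
  | mul x y _ _ hx hy =>
    obtain ⟨cs, ck, h1, h2, h3⟩ := hx
    obtain ⟨cs', ck', h1', h2', h3'⟩ := hy
    refine ⟨cs + cs', ck + ck', S.coord_mul hP hs (pos_of_level hC hs) h1 h1',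
      S.coord_mul hP hk (pos_of_level hC hk) h2 h2', ?_⟩
    have := S.coord_mul hP hk (pos_of_level hC hk) h3 h3'
    convert this using 1
    · group
    · ring

/-- An involution has no coordinates of negative pairing in the lowest layer. -/
theorem coord_neg_zero {d : ℤ} {A : F} (hA : A ≠ 0) {q : GL D.Idx F}
    (hq : q ∈ uSub D F (S.levelSet J i d))
    (hinv : S.xG F (D.simple i) A * q * (S.xG F (D.simple i) A * q) = 1) {s : ℕ}
    (hs : s ∈ S.levelSet J i d) (hsn : D.cartan i s < 0)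
    (hsd : sumOn S.vec (otherPos J i) s = d) : q ∈ uSub D F (S.levelSet J i d \ {s}) := by
  have hP := closed_level hC d
  obtain ⟨c, hc, hcp⟩ := hC.top_neg s hs.1.1 hs.1.2 hsn
  have hmem : c ∈ D.commTerms (D.simple i) s ∧ c.2.1 % 2 ≠ 0 ∧ c.2.2.2 = 1 := by
    have : c ∈ topTerms D i s := by rw [hc]; simp
    simp only [topTerms, List.mem_filter, Bool.and_eq_true, decide_eq_true_eq] at this
    exact ⟨this.1, this.2.1.1, this.2.1.2⟩
  obtain ⟨hk, -, hkd⟩ := term_mem hC hs hmem.1 hmem.2.1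
  rw [hmem.2.2, Nat.cast_one, one_mul, hsd] at hkd
  obtain ⟨v, c', -, -, -, -, -, huniq⟩ := bottom_spec hC hk hcp hkd
  have hsv : s = v := huniq s hs ⟨c, by rw [hc]; simp, rfl⟩
  obtain ⟨cs, ck, h1, h2, h3⟩ := coord_shift hC hk hcp hkd hs hsn hsd hc rfl
    (fun w hw he => (huniq w hw he).trans hsv.symm) A hq
  have hX : (S.xG F (D.simple i) A)⁻¹ = S.xG F (D.simple i) A := by
    rw [S.xG_inv, CharTwo.neg_eq]
  rw [hX] at h3
  have hcl := closed_level_diff hC d hcp.ne' hkd
  have e : S.xG F (D.simple i) A * q * S.xG F (D.simple i) A * q = 1 := by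
    rw [← hinv]; group
  have h4 := S.coord_mul hP hk (pos_of_level hC hk) h3 h2
  rw [e] at h4
  have h5 := S.coord_unique hcl (pos_of_level hC hk).2 h4 (S.coord_one _ _)
  have h6 : A ^ c.2.2.1 * cs = 0 := by
    rw [add_right_comm, CharTwo.add_self_eq_zero, zero_add] at h5
    exact h5
  rw [(mul_eq_zero.mp h6).resolve_left (pow_ne_zero _ hA)] at h1
  exact S.coord_zero_iff.mp h1

omit [CharP F 2] in
theorem levelSet_mem_genSub {d : ℤ} {v : ℕ} (hv : v ∈ S.levelSet J i d) (e : F) :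
    S.xG F v e ∈ genSub D F {r | r ∈ leviGens D S.vec J} :=
  S.xG_mem_genSub F (List.mem_append_left _ hv.1.1) e

/-- Clearing a list of coordinates of positive pairing in the lowest layer. -/
theorem clear_pos {d : ℤ} {A : F} (hA : A ≠ 0) : ∀ L : List ℕ, L.Nodup →
    (∀ u ∈ L, u ∈ S.levelSet J i d ∧ 0 < D.cartan i u ∧ sumOn S.vec (otherPos J i) u = d) →
    ∀ q ∈ uSub D F (S.levelSet J i d), ∃ h ∈ genSub D F {r | r ∈ leviGens D S.vec J}, ∃ q',
      h * (S.xG F (D.simple i) A * q) * h⁻¹ = S.xG F (D.simple i) A * q' ∧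
        q' ∈ uSub D F (S.levelSet J i d) ∧
        ∀ u ∈ L, q' ∈ uSub D F (S.levelSet J i d \ {u}) := by
  intro L
  induction L with
  | nil => intro _ _ q hq; exact ⟨1, one_mem _, q, by group, hq, by simp⟩
  | cons u L ih =>
    intro hnd hL q hq
    obtain ⟨hnu, hnd'⟩ := List.nodup_cons.mp hnd
    rw [List.forall_mem_cons] at hL
    obtain ⟨h, hh, q', he, hq', hz⟩ := ih hnd' hL.2 q hq
    obtain ⟨hu, hup, hud⟩ := hL.1
    have hP := closed_level hC d
    obtain ⟨v, c, hv, hvn, hvd, hc, hcu, huniq⟩ := bottom_spec hC hu hup hud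
    obtain ⟨ck, hck⟩ := S.exists_coord hP hu (pos_of_level hC hu) hq'
    set e := ck * (A ^ c.2.2.1)⁻¹ with he'
    set X := S.xG F (D.simple i) A with hXdef
    set k := S.xG F v e with hkdef
    have hX : X⁻¹ = X := by rw [hXdef, S.xG_inv, CharTwo.neg_eq]
    have hk' : k ∈ uSub D F (S.levelSet J i d) :=
      S.xG_mem_uSub F hv (pos_of_level hC hv).1 (pos_of_level hC hv).2 e
    refine ⟨k * h, mul_mem (levelSet_mem_genSub hC hv e) hh, X * k * X⁻¹ * q' * k⁻¹, ?_,
      mul_mem (mul_mem (conj_mem hC A hk') hq') (inv_mem hk'), ?_⟩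
    · rw [show k * h * (X * q) * (k * h)⁻¹ = k * (h * (X * q) * h⁻¹) * k⁻¹ by group, he]
      have hXX : X * X = 1 := inv_eq_iff_mul_eq_one.mp hX
      simp only [← mul_assoc, hX, hXX, one_mul]
    intro w hw
    have hkinv : k⁻¹ = S.xG F v e := by rw [hkdef, S.xG_inv, CharTwo.neg_eq]
    rw [List.mem_cons] at hw
    obtain ⟨hwm, hwp, hwd⟩ : w ∈ S.levelSet J i d ∧ 0 < D.cartan i w ∧
        sumOn S.vec (otherPos J i) w = d := by
      rcases hw with rfl | hw
      · exact ⟨hu, hup, hud⟩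
      · exact hL.2 w hw
    have hcoordk := coord_conj hC hwm hwp.ne' hwd hv A e
    have hvw : v ≠ w := fun e' => by subst e'; omega
    rw [if_neg hvw, zero_add] at hcoordk
    have hkc : S.Coord F (S.levelSet J i d) w k⁻¹ 0 := by
      have := S.coord_xG (F := F) (u := w) hv (pos_of_level hC hv) e
      rwa [if_neg hvw, ← hkinv] at this
    rw [← hkdef, ← hXdef] at hcoordk
    refine S.coord_zero_iff.mp ?_
    rcases hw with rfl | hw
    · have := S.coord_mul hP hwm (pos_of_level hC hwm)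
        (S.coord_mul hP hwm (pos_of_level hC hwm) hcoordk hck) hkc
      rw [termVal_of_bottom hC hv.1 hc hcu, he', add_zero, mul_left_comm,
        mul_inv_cancel₀ (pow_ne_zero _ hA), mul_one, CharTwo.add_self_eq_zero] at this
      exact this
    · have := S.coord_mul hP hwm (pos_of_level hC hwm)
        (S.coord_mul hP hwm (pos_of_level hC hwm) hcoordk (S.coord_zero_iff.mpr (hz w hw))) hkc
      rw [termVal_zero hC (fun c' hc' e' => hnu (by
        rw [hc, List.mem_singleton] at hc'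
        subst hc'
        rw [← hcu, e']; exact hw)), add_zero, add_zero] at this
      exact this

/-- One layer. -/
theorem clean_step {d : ℤ} {A : F} (hA : A ≠ 0) {q : GL D.Idx F}
    (hq : q ∈ uSub D F (S.levelSet J i d))
    (hinv : S.xG F (D.simple i) A * q * (S.xG F (D.simple i) A * q) = 1) :
    ∃ h ∈ genSub D F {r | r ∈ leviGens D S.vec J}, ∃ q',
      h * (S.xG F (D.simple i) A * q) * h⁻¹ = S.xG F (D.simple i) A * q' ∧
        q' ∈ uSub D F (S.levelSet J i (d + 1)) := by
  set Lp := (spanList D S.vec J).filter fun u => decide (u ≠ D.simple i) &&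
    decide (0 < D.cartan i u) && decide (sumOn S.vec (otherPos J i) u = d) with hLp
  set Ln := (spanList D S.vec J).filter fun u => decide (u ≠ D.simple i) &&
    decide (D.cartan i u ≠ 0) && decide (sumOn S.vec (otherPos J i) u = d) with hLn
  have hnd : (spanList D S.vec J).Nodup := (List.nodup_range' (step := 1)).filter _
  have hp : ∀ u ∈ Lp, u ∈ S.levelSet J i d ∧ 0 < D.cartan i u ∧
      sumOn S.vec (otherPos J i) u = d := by
    intro u hu
    simp only [hLp, List.mem_filter, Bool.and_eq_true, decide_eq_true_eq] at hu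
    exact ⟨⟨⟨hu.1, hu.2.1.1⟩, Or.inr hu.2.2.ge⟩, hu.2.1.2, hu.2.2⟩
  obtain ⟨h, hh, q', he, hq', hz⟩ := clear_pos hC hA Lp (hnd.filter _) hp q hq
  refine ⟨h, hh, q', he, ?_⟩
  have hinv' : S.xG F (D.simple i) A * q' * (S.xG F (D.simple i) A * q') = 1 := by
    rw [← he, show h * (S.xG F (D.simple i) A * q) * h⁻¹ *
      (h * (S.xG F (D.simple i) A * q) * h⁻¹) =
      h * (S.xG F (D.simple i) A * q * (S.xG F (D.simple i) A * q)) * h⁻¹ by group, hinv]
    group
  obtain ⟨-, hm⟩ := S.mem_diff_list (closed_level hC d) hq' Ln fun u hu => by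
    simp only [hLn, List.mem_filter, Bool.and_eq_true, decide_eq_true_eq] at hu
    refine ⟨closed_level_diff hC d hu.2.1.2 hu.2.2, ?_⟩
    rcases lt_or_gt_of_ne hu.2.1.2 with hn | hn
    · exact coord_neg_zero hC hA hq' hinv' ⟨⟨hu.1, hu.2.1.1⟩, Or.inr hu.2.2.ge⟩ hn hu.2.2
    · exact hz u (by simp [hLp, hu.1, hu.2.1.1, hn, hu.2.2])
  refine uSub_mono ?_ hm
  rintro r ⟨⟨⟨hr1, hr2⟩, hr3⟩, hr4⟩
  refine ⟨⟨hr1, hr2⟩, ?_⟩
  by_cases h0 : D.cartan i r = 0
  · exact Or.inl h0
  · have hge := hr3.resolve_left h0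
    refine Or.inr ?_
    by_contra hlt
    refine hr4 ?_
    simp only [hLn, List.mem_filter, Bool.and_eq_true, decide_eq_true_eq]
    exact ⟨hr1, ⟨hr2, h0⟩, by omega⟩

/-- Cleaning: the part of `q` outside the orthogonal complement of `p_i` can be conjugated away. -/
theorem clean {A : F} (hA : A ≠ 0) {q : GL D.Idx F}
    (hq : q ∈ uSub D F (S.spanSet J \ {D.simple i}))
    (hinv : S.xG F (D.simple i) A * q * (S.xG F (D.simple i) A * q) = 1) :
    ∃ h ∈ genSub D F {r | r ∈ leviGens D S.vec J}, ∃ q',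
      h * (S.xG F (D.simple i) A * q) * h⁻¹ = S.xG F (D.simple i) A * q' ∧
        q' ∈ uSub D F {r | r ∈ S.spanSet J ∧ D.cartan i r = 0} := by
  have key : ∀ n : ℕ, ∃ h ∈ genSub D F {r | r ∈ leviGens D S.vec J}, ∃ q',
      h * (S.xG F (D.simple i) A * q) * h⁻¹ = S.xG F (D.simple i) A * q' ∧
        q' ∈ uSub D F (S.levelSet J i (n + 1 : ℕ)) := by
    intro n
    induction n with
    | zero =>
      refine ⟨1, one_mem _, q, by group, uSub_mono ?_ hq⟩
      rintro r ⟨hr, hrb⟩
      exact ⟨⟨hr, hrb⟩, Or.inr (by simpa using hC.deg_pos r hr hrb)⟩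
    | succ n ih =>
      obtain ⟨h, hh, q', he, hq'⟩ := ih
      obtain ⟨h', hh', q'', he', hq''⟩ := clean_step hC hA hq' (by
        rw [← he, show h * (S.xG F (D.simple i) A * q) * h⁻¹ *
          (h * (S.xG F (D.simple i) A * q) * h⁻¹) =
          h * (S.xG F (D.simple i) A * q * (S.xG F (D.simple i) A * q)) * h⁻¹ by group, hinv]
        group)
      refine ⟨h' * h, mul_mem hh' hh, q'', ?_, ?_⟩
      · rw [show h' * h * (S.xG F (D.simple i) A * q) * (h' * h)⁻¹ =
          h' * (h * (S.xG F (D.simple i) A * q) * h⁻¹) * h'⁻¹ by group, he, he']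
      · exact_mod_cast hq''
  set B := ((spanList D S.vec J).map fun r => (sumOn S.vec (otherPos J i) r).natAbs).sum with hB
  obtain ⟨h, hh, q', he, hq'⟩ := key B
  refine ⟨h, hh, q', he, uSub_mono ?_ hq'⟩
  rintro r ⟨⟨hr, hrb⟩, h0 | hbig⟩
  · exact ⟨hr, h0⟩
  · exfalso
    have h1 : (sumOn S.vec (otherPos J i) r).natAbs ≤ B :=
      List.le_sum_of_mem (List.mem_map.mpr ⟨r, hr, rfl⟩)
    have h2 := hC.deg_pos r hr hrb
    push_cast at hbig
    omega

end Sys

end CfsgLib.Chevalley
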