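import Cfsg.Agent.Chevalley.CentralizerFix

/-!
Involutions in characteristic two: coordinates modulo a closed set, and the roots of a standard
Levi factor.
-/

set_option autoImplicit false

namespace CfsgLib.Chevalley

open Cfsg.Lie
open scoped Matrix Pointwise

variable {D : ChevalleyDatum}

/-- The height attached to a coefficient function, summed over the positions in `M`. -/
def sumOn (co : ℕ → ℕ → ℤ) (M : List ℕ) (r : ℕ) : ℤ := (M.map fun m => co m r).sum

/-- The positions of `J` other than `i`. -/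
def otherPos (J : List ℕ) (i : ℕ) : List ℕ := J.filter fun m => m != i

/-- The positive roots supported on `J`. -/
def spanList (D : ChevalleyDatum) (co : ℕ → ℕ → ℤ) (J : List ℕ) : List ℕ :=
  (List.range' (D.nroots / 2) (D.nroots - D.nroots / 2)).filter fun r =>
    (List.range D.rank).all fun m => J.contains m || decide (co m r = 0)

/-- The positive roots supported on `J` with the negatives of the fundamental roots of `J`. -/
def leviGens (D : ChevalleyDatum) (co : ℕ → ℕ → ℤ) (J : List ℕ) : List ℕ :=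
  spanList D co J ++ J.map fun j => D.neg (D.simple j)

namespace Sys

variable (S : Sys D)
include S

/-- The positive roots supported on `J`, as a set. -/
def spanSet (J : List ℕ) : Set ℕ := {r | r ∈ spanList D S.vec J}

theorem mem_spanList {J : List ℕ} {r : ℕ} : r ∈ spanList D S.vec J ↔
    (D.nroots / 2 ≤ r ∧ r < D.nroots) ∧ ∀ m < D.rank, m ∈ J ∨ S.vec m r = 0 := by
  have := S.even
  simp only [spanList, List.mem_filter, List.mem_range'_1, List.all_eq_true, List.mem_range,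
    Bool.or_eq_true, List.contains_iff_mem, decide_eq_true_eq]
  constructor
  · rintro ⟨⟨h1, h2⟩, h3⟩; exact ⟨⟨h1, by omega⟩, h3⟩
  · rintro ⟨⟨h1, h2⟩, h3⟩; exact ⟨⟨h1, by omega⟩, h3⟩

theorem sumOn_lin {M : List ℕ} (hM : ∀ m ∈ M, m < D.rank) {r s k : ℕ} {a b : ℕ}
    (hv : ∀ m < D.rank, S.vec m k = a * S.vec m r + b * S.vec m s) :
    sumOn S.vec M k = a * sumOn S.vec M r + b * sumOn S.vec M s := by
  induction M with
  | nil => simp [sumOn]
  | cons x M ih =>
    rw [List.forall_mem_cons] at hM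
    have := ih hM.2
    simp only [sumOn, List.map_cons, List.sum_cons] at this ⊢
    rw [this, hv x hM.1]
    ring

theorem cartan_lin {i : ℕ} (hi : i < D.rank) {r s k : ℕ} (hr : r < D.nroots) (hs : s < D.nroots)
    (hk : k < D.nroots) {a b : ℕ}
    (hv : ∀ m < D.rank, S.vec m k = a * S.vec m r + b * S.vec m s) :
    D.cartan i k = a * D.cartan i r + b * D.cartan i s := by
  rw [S.cartan_vec i hi k hk, S.cartan_vec i hi r hr, S.cartan_vec i hi s hs]
  have : ∀ L : List ℕ, (∀ m ∈ L, m < D.rank) →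
      (L.map fun j => S.vec j k * D.cartan i (D.simple j)).sum =
        a * (L.map fun j => S.vec j r * D.cartan i (D.simple j)).sum +
          b * (L.map fun j => S.vec j s * D.cartan i (D.simple j)).sum := by
    intro L hL
    induction L with
    | nil => simp
    | cons x L ih =>
      rw [List.forall_mem_cons] at hL
      simp only [List.map_cons, List.sum_cons, ih hL.2, hv x hL.1]
      ring
  exact this _ fun m hm => List.mem_range.mp hm

theorem range_lt {m : ℕ} (hm : m ∈ List.range D.rank) : m < D.rank := List.mem_range.mp hm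

theorem height_pos {r : ℕ} (hr : r < D.nroots) (hp : D.nroots / 2 ≤ r) :
    1 ≤ sumOn S.vec (List.range D.rank) r := by
  obtain ⟨j, hj, hpos⟩ := S.exists_vec_pos hr hp
  have hle : S.vec j r ≤ sumOn S.vec (List.range D.rank) r := by
    refine List.single_le_sum ?_ _ (List.mem_map.mpr ⟨j, List.mem_range.mpr hj, rfl⟩)
    intro x hx
    obtain ⟨m, hm, rfl⟩ := List.mem_map.mp hx
    exact S.vec_pos r hr hp m (List.mem_range.mp hm)
  omega

theorem height_simple {i : ℕ} (hi : i < D.rank) :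
    sumOn S.vec (List.range D.rank) (D.simple i) = 1 := by
  have h : ((List.range D.rank).map fun m => S.vec m (D.simple i)) =
      (List.range D.rank).map fun m => if m = i then (1 : ℤ) else 0 :=
    List.map_congr_left fun m hm => by rw [S.vec_simple i hi m (List.mem_range.mp hm)]
  rw [sumOn, h, ← List.sum_toFinset _ List.nodup_range]
  simp [hi]

theorem closed_spanSet (J : List ℕ) : S.Closed (S.spanSet J) := by
  intro r hr s hs _ _ k hk a b ha hb hv
  obtain ⟨⟨hr1, hr2⟩, hr3⟩ := S.mem_spanList.mp hr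
  obtain ⟨⟨hs1, hs2⟩, hs3⟩ := S.mem_spanList.mp hs
  refine S.mem_spanList.mpr ⟨⟨?_, hk⟩, fun m hm => ?_⟩
  · obtain ⟨j, hj, hpos⟩ := S.exists_vec_pos hr2 hr1
    refine S.pos_of_vec hk hj ?_
    rw [hv j hj]
    exact add_pos_of_pos_of_nonneg (mul_pos (by omega) hpos)
      (mul_nonneg (by omega) (S.vec_pos s hs2 hs1 j hj))
  · rcases hr3 m hm with h | h
    · exact Or.inl h
    rcases hs3 m hm with h' | h'
    · exact Or.inl h'
    · right; rw [hv m hm, h, h', mul_zero, mul_zero, add_zero]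

theorem Closed.inter {P Q : Set ℕ} (hP : S.Closed P) (hQ : S.Closed Q) : S.Closed (P ∩ Q) :=
  fun r hr s hs pr ps k hk i j hi hj hv =>
    ⟨hP r hr.1 s hs.1 pr ps k hk i j hi hj hv, hQ r hr.2 s hs.2 pr ps k hk i j hi hj hv⟩

theorem not_self_comb {u w : ℕ} (hu : D.nroots / 2 ≤ u ∧ u < D.nroots)
    (hw : D.nroots / 2 ≤ w ∧ w < D.nroots) {a b : ℕ} (ha : 1 ≤ a) (hb : 1 ≤ b) :
    ¬ ∀ m < D.rank, S.vec m u = a * S.vec m u + b * S.vec m w := by
  intro hv
  obtain ⟨j, hj, hpos⟩ := S.exists_vec_pos hw.2 hw.1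
  have h := hv j hj
  have h1 := S.vec_pos u hu.2 hu.1 j hj
  have e1 : S.vec j u ≤ (a : ℤ) * S.vec j u := le_mul_of_one_le_left h1 (by omega)
  have e2 : S.vec j w ≤ (b : ℤ) * S.vec j w := le_mul_of_one_le_left (by omega) (by omega)
  omega

variable (F : Type*) [Field F]

/-- The `u`-coordinate of `q` in `uSub P` is `c`. -/
def Coord (P : Set ℕ) (u : ℕ) (q : GL D.Idx F) (c : F) : Prop :=
  (S.xG F u c)⁻¹ * q ∈ uSub D F (P \ {u})

variable {F}

theorem xG_normalizes {P : Set ℕ} (hP : S.Closed P) {u : ℕ} (hu : u ∈ P)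
    (hup : D.nroots / 2 ≤ u ∧ u < D.nroots) (c : F) {x : GL D.Idx F}
    (hx : x ∈ uSub D F (P \ {u})) : S.xG F u c * x * (S.xG F u c)⁻¹ ∈ uSub D F (P \ {u}) := by
  refine closure_conj_mem ?_ hx
  rintro y ⟨w, t, ⟨hw, hwp⟩, hy⟩
  obtain ⟨hw1, hw2⟩ := (S.pos_iff w).mp hwp
  rw [S.eq_xG F hy, S.xG_conj F hup.2 hw2 hw.2 (fun e => by
    have := (S.neg_half u hup.2).mpr hup.1
    omega)]
  refine mul_mem (S.xG_mem_uSub F hw hw1 hw2 t) (S.wG_commWord_mem F hup.2 hw2 _ t fun k hk => ?_)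
  obtain ⟨k1, k2, k3⟩ := S.commTerms_vec hup.2 hw2 hk
  have hkl := S.commTerms_lt hup.2 hw2 hk
  have hpos : D.nroots / 2 ≤ k.1 := by
    obtain ⟨j, hj, hjp⟩ := S.exists_vec_pos hup.2 hup.1
    refine S.pos_of_vec hkl hj ?_
    rw [k3 j hj]
    exact add_pos_of_pos_of_nonneg (mul_pos (by omega) hjp)
      (mul_nonneg (by omega) (S.vec_pos w hw2 hw1 j hj))
  refine ⟨⟨hP u hu w hw.1 ((S.pos_iff u).mpr hup) hwp k.1 hkl _ _ k1 k2 k3, fun e => ?_⟩, hpos⟩
  rw [Set.mem_singleton_iff] at e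
  exact S.not_self_comb hup ⟨hw1, hw2⟩ k1 k2 (e ▸ k3)

theorem coord_mul {P : Set ℕ} (hP : S.Closed P) {u : ℕ} (hu : u ∈ P)
    (hup : D.nroots / 2 ≤ u ∧ u < D.nroots) {q q' : GL D.Idx F} {c c' : F}
    (h : S.Coord F P u q c) (h' : S.Coord F P u q' c') : S.Coord F P u (q * q') (c + c') := by
  have h1 := S.xG_normalizes hP hu hup (-c') h
  have h2 := mul_mem h1 h'
  unfold Coord
  convert h2 using 1
  rw [← S.xG_add, S.xG_inv F u (-c'), neg_neg, ← S.xG_inv F u c']
  group

theorem coord_one (P : Set ℕ) (u : ℕ) : S.Coord F P u 1 0 := by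
  simp [Coord, S.xG_zero]

theorem coord_xG {P : Set ℕ} {u w : ℕ} (hw : w ∈ P) (hwp : D.nroots / 2 ≤ w ∧ w < D.nroots)
    (t : F) : S.Coord F P u (S.xG F w t) (if w = u then t else 0) := by
  by_cases h : w = u
  · subst h; simp [Coord]
  · rw [if_neg h, Coord, S.xG_zero, inv_one, one_mul]
    exact S.xG_mem_uSub F (P := P \ {u}) ⟨hw, h⟩ hwp.1 hwp.2 t

theorem coord_zero_iff {P : Set ℕ} {u : ℕ} {q : GL D.Idx F} :
    S.Coord F P u q 0 ↔ q ∈ uSub D F (P \ {u}) := by
  simp [Coord, S.xG_zero]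

theorem coord_unique {P : Set ℕ} {u : ℕ} (hPu : S.Closed (P \ {u})) (hul : u < D.nroots)
    {q : GL D.Idx F} {c c' : F} (h : S.Coord F P u q c) (h' : S.Coord F P u q c') : c = c' := by
  have h1 : (S.xG F u c)⁻¹ * S.xG F u c' ∈ uSub D F (P \ {u}) := by
    have := mul_mem h (inv_mem h')
    rwa [mul_inv_rev, inv_inv, mul_assoc, mul_inv_cancel_left] at this
  rw [S.xG_inv, S.xG_add] at h1
  by_contra hne
  exact (S.xG_mem_uSub_iff F hPu hul (fun e => hne (by linear_combination -e)) h1).1.2 rfl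

theorem exists_coord {P : Set ℕ} (hP : S.Closed P) {u : ℕ} (hu : u ∈ P)
    (hup : D.nroots / 2 ≤ u ∧ u < D.nroots) {q : GL D.Idx F} (hq : q ∈ uSub D F P) :
    ∃ c, S.Coord F P u q c := by
  have hn : (S.xHom F u).range ≤ Subgroup.normalizer (uSub D F (P \ {u}) : Set (GL D.Idx F)) := by
    refine le_normalizer_of_conj_mem ?_
    rintro _ ⟨a, rfl⟩ g hg
    exact S.xG_normalizes hP hu hup _ hg
  have hle : uSub D F P ≤ (S.xHom F u).range ⊔ uSub D F (P \ {u}) := by
    refine S.uSub_le F fun r hr h1 h2 t => ?_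
    by_cases h : r = u
    · subst h; exact Subgroup.mem_sup_left ⟨Multiplicative.ofAdd t, rfl⟩
    · exact Subgroup.mem_sup_right (S.xG_mem_uSub F (P := P \ {u}) ⟨hr, h⟩ h1 h2 t)
  have h1 := hle hq
  rw [← SetLike.mem_coe, Subgroup.coe_mul_of_left_le_normalizer_right _ _ hn] at h1
  obtain ⟨_, ⟨c, rfl⟩, r, hr, rfl⟩ := h1
  refine ⟨Multiplicative.toAdd c, ?_⟩
  show (S.xG F u _)⁻¹ * (S.xG F u _ * r) ∈ _
  rwa [inv_mul_cancel_left]

/-- An element with vanishing coordinates at a list of roots. -/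
theorem mem_diff_list {P : Set ℕ} (hP : S.Closed P) {q : GL D.Idx F} (hq : q ∈ uSub D F P) :
    ∀ L : List ℕ, (∀ u ∈ L, S.Closed (P \ {u}) ∧ q ∈ uSub D F (P \ {u})) →
      S.Closed {r | r ∈ P ∧ r ∉ L} ∧ q ∈ uSub D F {r | r ∈ P ∧ r ∉ L} := by
  intro L
  induction L with
  | nil => intro _; simpa using And.intro hP hq
  | cons u L ih =>
    intro h
    rw [List.forall_mem_cons] at h
    obtain ⟨hc, hm⟩ := ih h.2
    have e : ({r | r ∈ P ∧ r ∉ u :: L} : Set ℕ) = {r | r ∈ P ∧ r ∉ L} ∩ (P \ {u}) := by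
      ext r
      simp
      tauto
    rw [e]
    exact ⟨hc.inter S h.1.1, (S.uSub_inf F hc h.1.1).le ⟨hm, h.1.2⟩⟩

end Sys

end CfsgLib.Chevalley
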