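import Cfsg.Agent.Chevalley.InvClean
import Cfsg.Agent.SteinbergChar.Degree
import Cfsg.Agent.Chevalley.Order

/-!
Involutions in characteristic two: every involution is conjugate to a product of root elements
`x_r(1)` over one of finitely many sets of orthogonal roots.
-/

set_option autoImplicit false

namespace CfsgLib.Chevalley

open Cfsg.Lie
open scoped Matrix Pointwise

variable {D : ChevalleyDatum}

/-- The image of a root under a word of fundamental reflections (ℕ form). -/
def wApp (D : ChevalleyDatum) (L : List ℕ) (r : ℕ) : ℕ := L.foldr D.reflectRoot r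

/-- An edge `(R, i, L, θ, R')`: the word `L` moves `p_i` to `θ`. -/
abbrev InvEdge : Type := List ℕ × ℕ × List ℕ × ℕ × List ℕ

/-- A state `(R, J)`. -/
abbrev InvState : Type := List ℕ × List ℕ

/-- Check: the roots of `R` are positive, distinct and pairwise orthogonal. -/
def chkOrthList (D : ChevalleyDatum) (R : List ℕ) : Bool :=
  decide R.Nodup && R.all fun r => decide (D.nroots / 2 ≤ r) && decide (r < D.nroots) &&
    R.all fun s => decide (D.pairing r s = if r = s then 2 else 0)

/-- Check: a state. -/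
def chkState (D : ChevalleyDatum) (co : ℕ → ℕ → ℤ) (T : InvState) : Bool :=
  chkOrthList D T.1 && T.2.all (fun j => decide (j < D.rank)) &&
  chkEvenComm D T.1 (leviGens D co T.2) && chkEvenComm D T.1 T.1 &&
  (spanList D co T.2).all fun r => (T.2.map D.simple).contains r ||
    (decide (2 ≤ sumOn co (List.range D.rank) r) &&
      T.2.any fun j => decide (0 < D.cartan j r))

/-- Check: an edge from the state `T` to the state `T'`. -/
def chkInvEdge (D : ChevalleyDatum) (co : ℕ → ℕ → ℤ) (T T' : InvState) (e : InvEdge) : Bool :=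
  decide (e.1 = T.1) && decide (e.2.2.2.2 = T'.1) && chkClean D co T.2 e.2.1 &&
  e.2.2.1.all (fun j => T.2.contains j) &&
  decide (wApp D e.2.2.1 (D.simple e.2.1) = e.2.2.2.1) &&
  (spanList D co T.2).all (fun r => decide (D.cartan e.2.1 r ≠ 0) ||
    (spanList D co T'.2).contains (wApp D e.2.2.1 r)) &&
  T'.1.isPerm (T.1 ++ [e.2.2.2.1]) && decide (T'.2.length < T.2.length)

/-- Check: a system of states and edges. -/
def chkInv (D : ChevalleyDatum) (co : ℕ → ℕ → ℤ) (Ts : List InvState) (E : List InvEdge) : Bool :=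
  Ts.all fun T => chkState D co T && T.2.all fun i => E.any fun e =>
    decide (e.2.1 = i) && Ts.any fun T' => chkInvEdge D co T T' e

namespace Sys

variable (S : Sys D)
include S

theorem wperm_val_reduce : ∀ (L : List (Fin D.rank)) (r : Fin D.nroots),
    (S.wperm L r : ℕ) = wApp D (L.map Fin.val) r := by
  intro L
  induction L with
  | nil => intro r; simp [wperm, wApp]
  | cons i L ih =>
    intro r
    rw [S.wperm_cons, Equiv.Perm.mul_apply, S.srefl_val, ih]
    rfl

theorem closed_height (J : List ℕ) (k : ℤ) :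
    S.Closed {r | r ∈ S.spanSet J ∧ k ≤ sumOn S.vec (List.range D.rank) r} := by
  rintro r ⟨hr, hr'⟩ s ⟨hs, -⟩ pr ps x hx a b ha hb hv
  refine ⟨S.closed_spanSet J r hr s hs pr ps x hx a b ha hb hv, ?_⟩
  have hd := S.sumOn_lin (fun m hm => S.range_lt hm) hv
  obtain ⟨r1, r2⟩ := (S.pos_iff r).mp pr
  obtain ⟨s1, s2⟩ := (S.pos_iff s).mp ps
  have h1 := S.height_pos r2 r1
  have h2 := S.height_pos s2 s1
  have e1 : sumOn S.vec (List.range D.rank) r ≤ (a : ℤ) * sumOn S.vec (List.range D.rank) r :=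
    le_mul_of_one_le_left (by omega) (by omega)
  have e2 : 0 ≤ (b : ℤ) * sumOn S.vec (List.range D.rank) s := mul_nonneg (by omega) (by omega)
  omega

theorem closed_span_diff_simple (J : List ℕ) {j : ℕ} (hj : j < D.rank) :
    S.Closed (S.spanSet J \ {D.simple j}) := by
  rintro r ⟨hr, -⟩ s ⟨hs, -⟩ pr ps x hx a b ha hb hv
  refine ⟨S.closed_spanSet J r hr s hs pr ps x hx a b ha hb hv, fun e => ?_⟩
  rw [Set.mem_singleton_iff] at e
  subst e
  have hd := S.sumOn_lin (fun m hm => S.range_lt hm) hv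
  rw [S.height_simple hj] at hd
  obtain ⟨r1, r2⟩ := (S.pos_iff r).mp pr
  obtain ⟨s1, s2⟩ := (S.pos_iff s).mp ps
  have h1 := S.height_pos r2 r1
  have h2 := S.height_pos s2 s1
  have e1 : sumOn S.vec (List.range D.rank) r ≤ (a : ℤ) * sumOn S.vec (List.range D.rank) r :=
    le_mul_of_one_le_left (by omega) (by omega)
  have e2 : sumOn S.vec (List.range D.rank) s ≤ (b : ℤ) * sumOn S.vec (List.range D.rank) s :=
    le_mul_of_one_le_left (by omega) (by omega)
  omega

variable (F : Type*) [Field F]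

theorem wN_mem_genSub {J : List ℕ} (hJ : ∀ j ∈ J, j < D.rank) :
    ∀ L : List (Fin D.rank), (∀ j ∈ L, (j : ℕ) ∈ J) →
      (S.wN F L : GL D.Idx F) ∈ genSub D F {r | r ∈ leviGens D S.vec J} := by
  intro L
  induction L with
  | nil => intro _; simp [wN]
  | cons i L ih =>
    intro h
    rw [List.forall_mem_cons] at h
    rw [S.wN_cons, Subgroup.coe_mul]
    refine mul_mem (S.nG_mem_genSub F ?_ ?_ 1) (ih h.2)
    · refine List.mem_append_left _ (S.mem_spanList.mpr ⟨⟨S.simple_pos i i.isLt,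
        S.wf.simple_lt i i.isLt⟩, fun m hm => ?_⟩)
      by_cases hmi : m = (i : ℕ)
      · exact Or.inl (hmi ▸ h.1)
      · exact Or.inr (by rw [S.vec_simple i i.isLt m hm, if_neg hmi])
    · exact List.mem_append_right _ (List.mem_map.mpr ⟨i, h.1, rfl⟩)

/-- Some fundamental coordinate can be made non-zero. -/
theorem lower {J : List ℕ} (hJ : ∀ j ∈ J, j < D.rank)
    (hdesc : ∀ r ∈ S.spanSet J, r ∈ J.map D.simple ∨
      (2 ≤ sumOn S.vec (List.range D.rank) r ∧ ∃ j ∈ J, 0 < D.cartan j r))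
    {g : GL D.Idx F} (hg : g ∈ uSub D F (S.spanSet J)) (hg1 : g ≠ 1) :
    ∃ h ∈ genSub D F {r | r ∈ leviGens D S.vec J}, ∃ i ∈ J,
      h * g * h⁻¹ ∈ uSub D F (S.spanSet J) ∧
        h * g * h⁻¹ ∉ uSub D F (S.spanSet J \ {D.simple i}) := by
  classical
  set ht := sumOn S.vec (List.range D.rank) with hht
  suffices H : ∀ k : ℕ, ∀ g ∈ uSub D F (S.spanSet J),
      g ∉ uSub D F {r | r ∈ S.spanSet J ∧ (k : ℤ) ≤ ht r} →
      ∃ h ∈ genSub D F {r | r ∈ leviGens D S.vec J}, ∃ i ∈ J,
        h * g * h⁻¹ ∈ uSub D F (S.spanSet J) ∧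
          h * g * h⁻¹ ∉ uSub D F (S.spanSet J \ {D.simple i}) by
    refine H (((spanList D S.vec J).map fun r => (ht r).natAbs).sum + 1) g hg fun hmem => hg1 ?_
    rw [uSub_empty_of] at hmem
    · exact Subgroup.mem_bot.mp hmem
    rintro r ⟨hr, hbig⟩ -
    have h1 : (ht r).natAbs ≤ ((spanList D S.vec J).map fun r => (ht r).natAbs).sum :=
      List.le_sum_of_mem (List.mem_map.mpr ⟨r, hr, rfl⟩)
    revert hbig h1
    generalize ((spanList D S.vec J).map fun r => (ht r).natAbs).sum = B
    intro hbig h1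
    push_cast at hbig
    omega
  intro k
  induction k using Nat.strong_induction_on with
  | _ k ih =>
    intro g hg hgk
    by_cases hs : ∃ i ∈ J, g ∉ uSub D F (S.spanSet J \ {D.simple i})
    · obtain ⟨i, hi, hi'⟩ := hs
      exact ⟨1, one_mem _, i, hi, by simpa using hg, by simpa using hi'⟩
    push Not at hs
    obtain ⟨hN, hgN⟩ := S.mem_diff_list (S.closed_spanSet J) hg (J.map D.simple) fun u hu => by
      obtain ⟨j, hj, rfl⟩ := List.mem_map.mp hu
      exact ⟨S.closed_span_diff_simple J (hJ j hj), hs j hj⟩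
    obtain ⟨t, ht0, hgt⟩ := S.exists_ordProd_half F hN hgN
    obtain ⟨r, hr0, hrk⟩ : ∃ r, t r ≠ 0 ∧ ht r < (k : ℤ) := by
      by_contra hcon
      push Not at hcon
      refine hgk (hgt ▸ S.ordProd_mem F t le_rfl fun r _ _ => ?_)
      by_cases h0 : t r = 0
      · exact Or.inr h0
      · exact Or.inl ⟨(ht0 r h0).1.1, hcon r h0⟩
    obtain ⟨⟨hrS, hrN⟩, hrp, hrl⟩ := ht0 r hr0
    obtain ⟨hr2, j, hjJ, hjc⟩ := (hdesc r hrS).resolve_left hrN
    have hjl := hJ j hjJ
    set n : ↥(D.monomialSubgroup F) := S.nN F ⟨j, hjl⟩ with hn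
    have hnmem : (n : GL D.Idx F) ∈ genSub D F {r | r ∈ leviGens D S.vec J} := by
      have := S.wN_mem_genSub F hJ [⟨j, hjl⟩] (by simpa using hjJ)
      simpa [wN, hn] using this
    -- conjugation by `n` reflects the roots
    have hperm : ∀ m : ↥(D.monomialSubgroup F), S.perm F m = S.srefl ⟨j, hjl⟩ →
        ∀ {P Q : Set ℕ}, (∀ x ∈ P, D.nroots / 2 ≤ x → x < D.nroots → D.reflectRoot j x ∈ Q ∧
          D.nroots / 2 ≤ D.reflectRoot j x) →
        ∀ y ∈ uSub D F P, (m : GL D.Idx F) * y * (m : GL D.Idx F)⁻¹ ∈ uSub D F Q := by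
      intro m hm P Q hPQ y hy
      refine closure_conj_mem ?_ hy
      rintro z ⟨x, u, ⟨hxP, hxp⟩, hz⟩
      obtain ⟨hx1, hx2⟩ := (S.pos_iff x).mp hxp
      obtain ⟨c, -, hc⟩ := S.conj_root F m ⟨x, hx2⟩
      rw [S.eq_xG F hz, (hc u).1, hm, S.srefl_val]
      obtain ⟨h1, h2⟩ := hPQ x hxP hx1 hx2
      exact S.xG_mem_uSub F h1 h2 (S.w_lt j hjl x hx2) _
    have hvec : ∀ x < D.nroots, ht (D.reflectRoot j x) = ht x - D.cartan j x := by
      intro x hx
      have : ∀ M : List ℕ, (∀ m ∈ M, m < D.rank) → M.Nodup →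
          sumOn S.vec M (D.reflectRoot j x) =
            sumOn S.vec M x - if j ∈ M then D.cartan j x else 0 := by
        intro M hM hMn
        induction M with
        | nil => simp [sumOn]
        | cons a M ihM =>
          rw [List.forall_mem_cons] at hM
          obtain ⟨ha, hMn'⟩ := List.nodup_cons.mp hMn
          have := ihM hM.2 hMn'
          simp only [sumOn, List.map_cons, List.sum_cons] at this ⊢
          rw [this, S.vec_w j hjl x hx a hM.1]
          by_cases haj : a = j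
          · subst haj; simp [ha]; ring
          · simp [haj, Ne.symm haj]; ring
      rw [hht, this _ (fun m hm => S.range_lt hm) List.nodup_range,
        if_pos (List.mem_range.mpr hjl)]
    have hspan : ∀ x ∈ S.spanSet J, x ≠ D.simple j →
        D.reflectRoot j x ∈ S.spanSet J ∧ D.nroots / 2 ≤ D.reflectRoot j x := by
      intro x hx hxj
      obtain ⟨⟨hx1, hx2⟩, hx3⟩ := S.mem_spanList.mp hx
      have h1 := S.w_pos j hjl x hx2 hx1 hxj
      refine ⟨S.mem_spanList.mpr ⟨⟨h1, S.w_lt j hjl x hx2⟩, fun m hm => ?_⟩, h1⟩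
      rcases hx3 m hm with h | h
      · exact Or.inl h
      · by_cases hmj : m = j
        · exact Or.inl (hmj ▸ hjJ)
        · exact Or.inr (by rw [S.vec_w j hjl x hx2 m hm, if_neg hmj, h, sub_zero])
    have hsimp : D.simple j ∈ J.map D.simple := List.mem_map.mpr ⟨j, hjJ, rfl⟩
    set g' := (n : GL D.Idx F) * g * (n : GL D.Idx F)⁻¹ with hg'
    have hg'S : g' ∈ uSub D F (S.spanSet J) := by
      refine hperm n (by rw [hn, S.perm_nN]) (P := {x | x ∈ S.spanSet J ∧ x ∉ J.map D.simple})
        (fun x hx _ _ => hspan x hx.1 fun e => hx.2 (e ▸ hsimp)) g hgN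
    have hkr : g' ∉ uSub D F {x | x ∈ S.spanSet J ∧ ((ht r).toNat : ℤ) ≤ ht x} := by
      intro hmem
      rw [Int.toNat_of_nonneg (by omega)] at hmem
      set Q : Set ℕ := {x | x ∈ S.spanSet J ∧ x ≠ D.simple j ∧
        ht r ≤ ht (D.reflectRoot j x)} with hQ
      have hback : g ∈ uSub D F Q := by
        have h2 := hperm n⁻¹ (by rw [map_inv, hn, S.perm_nN, inv_eq_of_mul_eq_one_right
            (S.srefl_mul_self ⟨j, hjl⟩)])
          (P := {x | x ∈ S.spanSet J ∧ ht r ≤ ht x}) (Q := Q) (fun x hx hx1 hx2 => by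
            have hxj : x ≠ D.simple j := by
              rintro rfl
              have h1 := hx.2
              have h2 := S.height_simple hjl
              rw [← hht] at h2
              omega
            obtain ⟨h1, h2⟩ := hspan x hx.1 hxj
            refine ⟨⟨h1, ?_, ?_⟩, h2⟩
            · intro e
              have := S.w_w j hjl x hx2
              rw [e, S.w_simple hjl] at this
              have := (S.neg_half _ (S.wf.simple_lt j hjl)).mpr (S.simple_pos j hjl)
              omega
            · rw [S.w_w j hjl x hx2]; exact hx.2) g' hmem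
        rwa [hg', Subgroup.coe_inv, inv_inv, show (n : GL D.Idx F)⁻¹ *
          ((n : GL D.Idx F) * g * (n : GL D.Idx F)⁻¹) * (n : GL D.Idx F) = g by group] at h2
      have hQc : S.Closed Q := by
        rintro a ⟨ha, haj, ha'⟩ b ⟨hb, hbj, hb'⟩ pa pb x hx u v hu hv hvv
        refine ⟨S.closed_spanSet J a ha b hb pa pb x hx u v hu hv hvv,
          fun e => (S.closed_span_diff_simple J hjl a ⟨ha, haj⟩ b ⟨hb, hbj⟩ pa pb x hx u v hu hv
            hvv).2 e, ?_⟩
        have hd := S.sumOn_lin (fun m hm => S.range_lt hm) hvv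
        have hal := ((S.pos_iff a).mp pa).2
        have hbl := ((S.pos_iff b).mp pb).2
        have hc := S.cartan_lin hjl hal hbl hx hvv
        rw [hvec a hal] at ha'
        rw [hvec b hbl] at hb'
        rw [hvec x hx, hc]
        have hab : ht x = (u : ℤ) * ht a + (v : ℤ) * ht b := hd
        have e1 : ht r ≤ (u : ℤ) * (ht a - D.cartan j a) :=
          ha'.trans (le_mul_of_one_le_left (by omega) (by omega))
        have e2 : 0 ≤ (v : ℤ) * (ht b - D.cartan j b) := mul_nonneg (by omega) (by omega)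
        rw [mul_sub] at e1 e2
        omega
      obtain ⟨t', ht', hgt'⟩ := S.exists_ordProd_half F hQc hback
      have := S.ordProd_inj_half F (hgt.symm.trans hgt') hrp hrl
      obtain ⟨⟨-, -, hQr⟩, -⟩ := ht' r (by rw [← this]; exact hr0)
      rw [hvec r hrl] at hQr
      omega
    obtain ⟨h, hh, i, hi, h1, h2⟩ := ih (ht r).toNat (by omega) g' hg'S hkr
    refine ⟨h * n, mul_mem hh hnmem, i, hi, ?_, ?_⟩ <;>
      rw [show h * (n : GL D.Idx F) * g * (h * (n : GL D.Idx F))⁻¹ = h * g' * h⁻¹ by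
        rw [hg']; group] <;> assumption

variable [CharP F 2]

theorem xProd_commute_levi {T : InvState} (h : chkState D S.vec T = true) (f : ℕ → F)
    {x : GL D.Idx F} (hx : x ∈ genSub D F {r | r ∈ leviGens D S.vec T.2}) :
    x * S.xProd F T.1 f * x⁻¹ = S.xProd F T.1 f := by
  simp only [chkState, Bool.and_eq_true] at h
  rw [Subgroup.mem_centralizer_singleton_iff.mp (S.genSub_le_centralizer F h.1.1.2 hx),
    mul_inv_cancel_right]

/-- Every involution of the Levi unipotent subgroup, times the product over `R`, is conjugate to a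
product over some state. -/
theorem reduce {Ts : List InvState} {E : List InvEdge} (hchk : chkInv D S.vec Ts E = true)
    (n : ℕ) : ∀ T ∈ Ts, T.2.length < n → ∀ f : ℕ → F, (∀ r ∈ T.1, f r ≠ 0) →
      ∀ g ∈ uSub D F (S.spanSet T.2), g * g = 1 →
      ∃ T' ∈ Ts, ∃ f' : ℕ → F, (∀ r ∈ T'.1, f' r ≠ 0) ∧ ∃ h ∈ D.group F,
        h * (S.xProd F T.1 f * g) * h⁻¹ = S.xProd F T'.1 f' := by
  classical
  induction n with
  | zero => intro T _ h; omega
  | succ n ih =>
    intro T hT hlen f hf g hg hinv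
    by_cases hg1 : g = 1
    · exact ⟨T, hT, f, hf, 1, one_mem _, by rw [hg1]; group⟩
    have hchk' := hchk
    simp only [chkInv, List.all_eq_true, Bool.and_eq_true, List.any_eq_true,
      decide_eq_true_eq] at hchk'
    obtain ⟨hstate, hedges⟩ := hchk' T hT
    have hst := hstate
    simp only [chkState, Bool.and_eq_true, List.all_eq_true, decide_eq_true_eq, Bool.or_eq_true,
      List.any_eq_true, List.contains_iff_mem] at hst
    obtain ⟨⟨⟨⟨-, hJ⟩, hcomm⟩, -⟩, hdesc⟩ := hst
    have hAlt : ∀ r ∈ leviGens D S.vec T.2, r < D.nroots := by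
      intro r hr
      rcases List.mem_append.mp hr with h | h
      · exact (S.mem_spanList.mp h).1.2
      · obtain ⟨j, hj, rfl⟩ := List.mem_map.mp h
        exact S.wf.neg_lt _ (S.wf.simple_lt j (hJ j hj))
    obtain ⟨h0, hh0, i, hi, hg'S, hg'i⟩ := S.lower F hJ hdesc hg hg1
    obtain ⟨e, -, hei, T', hT', he⟩ := hedges i hi
    simp only [chkInvEdge, Bool.and_eq_true, decide_eq_true_eq, List.all_eq_true, Bool.or_eq_true,
      List.contains_iff_mem, List.isPerm_iff, hei] at he
    obtain ⟨⟨⟨⟨⟨⟨⟨-, -⟩, hclean⟩, hL⟩, hθ⟩, hsub⟩, hperm⟩, hlen'⟩ := he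
    have hC := S.cleanFacts_of_chk hclean
    set g' := h0 * g * h0⁻¹ with hg'
    have hb : D.simple i ∈ S.spanSet T.2 := S.mem_spanList.mpr
      ⟨⟨S.simple_pos i hC.lt, S.wf.simple_lt i hC.lt⟩, fun m hm => by
        by_cases hmi : m = i
        · exact Or.inl (hmi ▸ hi)
        · exact Or.inr (by rw [S.vec_simple i hC.lt m hm, if_neg hmi])⟩
    obtain ⟨A, q, hq, hgq⟩ : ∃ A, ∃ q ∈ uSub D F (S.spanSet T.2 \ {D.simple i}),
        g' = S.xG F (D.simple i) A * q := by
      obtain ⟨A, hA⟩ := S.exists_coord (F := F) (S.closed_spanSet T.2) hb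
        ⟨S.simple_pos i hC.lt, S.wf.simple_lt i hC.lt⟩ hg'S
      exact ⟨A, _, hA, (mul_inv_cancel_left _ _).symm⟩
    have hA : A ≠ 0 := by
      rintro rfl
      rw [S.xG_zero, one_mul] at hgq
      exact hg'i (hgq ▸ hq)
    have hinv' : S.xG F (D.simple i) A * q * (S.xG F (D.simple i) A * q) = 1 := by
      rw [← hgq, hg', show h0 * g * h0⁻¹ * (h0 * g * h0⁻¹) = h0 * (g * g) * h0⁻¹ by group, hinv]
      group
    obtain ⟨h1, hh1, q', he1, hq'⟩ := Sys.clean hC hA hq hinv'
    have hqc : Commute (S.xG F (D.simple i) A) q' := by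
      have hle : uSub D F {r | r ∈ S.spanSet T.2 ∧ D.cartan i r = 0} ≤
          Subgroup.centralizer {S.xG F (D.simple i) A} := by
        refine S.uSub_le F fun r ⟨hr, hr0⟩ h1 h2 t =>
          Subgroup.mem_centralizer_singleton_iff.mpr ?_
        by_cases hrb : r = D.simple i
        · subst hrb; rw [S.xG_add, S.xG_add, add_comm]
        have hne : r ≠ D.neg (D.simple i) := fun e' => by
          have := (S.neg_half _ (S.wf.simple_lt i hC.lt)).mpr (S.simple_pos i hC.lt)
          omega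
        have e' := S.xG_conj F (S.wf.simple_lt i hC.lt) h2 hrb hne A t
        rw [S.wG_commWord_one F (fun c hc => (hC.odd_terms r hr hrb c hc).resolve_right
          fun h' => h'.1 hr0), mul_one, mul_inv_eq_iff_eq_mul] at e'
        exact e'.symm
      exact (Subgroup.mem_centralizer_singleton_iff.mp (hle hq')).symm
    have hinv2 : q' * q' = 1 := by
      have h2 : S.xG F (D.simple i) A * q' * (S.xG F (D.simple i) A * q') = 1 := by
        rw [← he1, show h1 * (S.xG F (D.simple i) A * q) * h1⁻¹ *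
          (h1 * (S.xG F (D.simple i) A * q) * h1⁻¹) =
          h1 * (S.xG F (D.simple i) A * q * (S.xG F (D.simple i) A * q)) * h1⁻¹ by group, hinv']
        group
      rw [mul_assoc, ← mul_assoc q', ← hqc.eq, ← mul_assoc, ← mul_assoc, S.xG_add,
        CharTwo.add_self_eq_zero, S.xG_zero, one_mul] at h2
      exact h2
    -- move `p_i` to `θ`
    obtain ⟨L, hLval⟩ : ∃ L : List (Fin D.rank), L.map Fin.val = e.2.2.1 := by
      refine ⟨e.2.2.1.pmap (fun j hj => (⟨j, hj⟩ : Fin D.rank)) (fun j hj => hJ j (hL j hj)), ?_⟩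
      rw [List.map_pmap]
      simp
    set w := S.wN F L with hw
    have hwmem : (w : GL D.Idx F) ∈ genSub D F {r | r ∈ leviGens D S.vec T.2} :=
      S.wN_mem_genSub F hJ L fun j hj => hL _ (hLval ▸ List.mem_map.mpr ⟨j, hj, rfl⟩)
    obtain ⟨c0, hc0, hcA⟩ := S.conj_root F w ⟨D.simple i, S.wf.simple_lt i hC.lt⟩
    have hwθ : (S.perm F w ⟨D.simple i, S.wf.simple_lt i hC.lt⟩ : ℕ) = e.2.2.2.1 := by
      rw [hw, S.perm_wN, S.wperm_val_reduce, hLval, hθ]
    have hq'' : (w : GL D.Idx F) * q' * (w : GL D.Idx F)⁻¹ ∈ uSub D F (S.spanSet T'.2) := by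
      refine closure_conj_mem ?_ hq'
      rintro z ⟨r, u, ⟨⟨hrS, hr0⟩, hrp⟩, hz⟩
      have hr2 := ((S.pos_iff r).mp hrp).2
      obtain ⟨c, -, hc⟩ := S.conj_root F w ⟨r, hr2⟩
      rw [S.eq_xG F hz, (hc u).1, hw, S.perm_wN, S.wperm_val_reduce, hLval]
      have hmem := (hsub r hrS).resolve_left (by simp [hr0])
      obtain ⟨h1, h2⟩ := (S.mem_spanList.mp hmem).1
      exact S.xG_mem_uSub F hmem h1 h2 _
    set a' := c0 * A with ha'
    set f' : ℕ → F := fun r => if r = e.2.2.2.1 then a' else f r with hf'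
    have hT'chk := (hchk' T' hT').1
    have hnd : (T.1 ++ [e.2.2.2.1]).Nodup := by
      have hh := hT'chk
      simp only [chkState, chkOrthList, Bool.and_eq_true, decide_eq_true_eq] at hh
      exact hperm.nodup_iff.mp hh.1.1.1.1.1
    have hθR : e.2.2.2.1 ∉ T.1 := fun h => by
      rw [List.nodup_append] at hnd
      exact hnd.2.2 _ h _ (by simp) rfl
    have hprod : S.xProd F T'.1 f' = S.xProd F T.1 f * S.xG F e.2.2.2.1 a' := by
      have hcommT : chkEvenComm D T'.1 T'.1 = true := by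
        simp only [chkState, Bool.and_eq_true] at hT'chk
        exact hT'chk.1.2
      have e1 : S.xProd F T'.1 f' = S.xProd F (T.1 ++ [e.2.2.2.1]) f' := by
        unfold xProd
        refine (hperm.map _).prod_eq' ?_
        rw [List.pairwise_map]
        refine List.pairwise_of_forall_mem_list fun a ha b hb => ?_
        exact S.evenComm_commute F hcommT ha hb _ _
      rw [e1]
      simp only [xProd, List.map_append, List.prod_append, List.map_cons, List.map_nil,
        List.prod_cons, List.prod_nil, mul_one]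
      rw [show f' e.2.2.2.1 = a' from if_pos rfl]
      congr 2
      exact List.map_congr_left fun r hr => by rw [hf']; simp [show r ≠ e.2.2.2.1 from
        fun h => hθR (h ▸ hr)]
    obtain ⟨T'', hT'', f'', hf'', h3, hh3, he3⟩ := ih T' hT' (by omega) f' (fun r hr => by
      rw [hf']
      dsimp only
      split_ifs with h
      · exact mul_ne_zero hc0 hA
      · exact hf r (by
          have := hperm.subset hr
          simpa [h] using this)) _ hq'' (by
        rw [show (w : GL D.Idx F) * q' * (w : GL D.Idx F)⁻¹ *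
          ((w : GL D.Idx F) * q' * (w : GL D.Idx F)⁻¹) =
          (w : GL D.Idx F) * (q' * q') * (w : GL D.Idx F)⁻¹ by group, hinv2]
        group)
    set k : GL D.Idx F := (w : GL D.Idx F) * h1 * h0 with hk
    have hkmem : k ∈ genSub D F {r | r ∈ leviGens D S.vec T.2} :=
      mul_mem (mul_mem hwmem hh1) hh0
    refine ⟨T'', hT'', f'', hf'', h3 * k,
      mul_mem hh3 (S.genSub_le_group F hAlt hkmem), ?_⟩
    rw [show h3 * k * (S.xProd F T.1 f * g) * (h3 * k)⁻¹ =
      h3 * ((k * S.xProd F T.1 f * k⁻¹) * (k * g * k⁻¹)) * h3⁻¹ by group,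
      S.xProd_commute_levi F hstate f hkmem]
    have hkg : k * g * k⁻¹ = S.xG F e.2.2.2.1 a' * ((w : GL D.Idx F) * q' * (w : GL D.Idx F)⁻¹) := by
      rw [hk, show (w : GL D.Idx F) * h1 * h0 * g * ((w : GL D.Idx F) * h1 * h0)⁻¹ =
        (w : GL D.Idx F) * (h1 * (h0 * g * h0⁻¹) * h1⁻¹) * (w : GL D.Idx F)⁻¹ by group,
        ← hg', hgq, he1, ha', ← hwθ, ← (hcA A).1]
      group
    rw [hkg, ← he3, hprod]
    group

/-- Normalising the coefficients of a product over orthogonal roots. -/
theorem normalise [Finite F] {R : List ℕ} (hR : chkOrthList D R = true) (f : ℕ → F)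
    (hf : ∀ r ∈ R, f r ≠ 0) :
    ∃ h ∈ D.group F, h * S.xProd F R f * h⁻¹ = S.xProd F R fun _ => 1 := by
  classical
  simp only [chkOrthList, Bool.and_eq_true, decide_eq_true_eq, List.all_eq_true] at hR
  obtain ⟨hnd, hR⟩ := hR
  have hsqrt : ∀ r : ℕ, ∃ u : Fˣ, r ∈ R → (u : F) ^ 2 * f r = 1 := by
    intro r
    by_cases hr : r ∈ R
    · obtain ⟨s, hs⟩ := FiniteField.isSquare_of_char_two (F := F)
        (CharP.ringChar_of_prime_eq_zero Nat.prime_two CharTwo.two_eq_zero) (f r)⁻¹
      have hs0 : s ≠ 0 := by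
        rintro rfl
        simp [hf r hr] at hs
      exact ⟨Units.mk0 s hs0, fun _ => by
        rw [Units.val_mk0, sq, ← hs, inv_mul_cancel₀ (hf r hr)]⟩
    · exact ⟨1, fun h => absurd h hr⟩
  choose u hu using hsqrt
  let c : ℕ → Fˣ := fun j => ∏ r ∈ R.toFinset, u r ^ (D.coroot.getD r #[]).getD j 0
  have hval : ∀ s ∈ R, (torusVal D c s : F) = (u s : F) ^ 2 := by
    intro s hs
    have e : torusVal D c s = ∏ r ∈ R.toFinset, u r ^ D.pairing r s := by
      rw [torusVal]
      simp only [c, ← Finset.prod_zpow, ← zpow_mul]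
      rw [Finset.prod_comm]
      refine Finset.prod_congr rfl fun r _ => ?_
      rw [S.pairing_eq, prod_zpow_sum]
    rw [e, Finset.prod_eq_single_of_mem s (List.mem_toFinset.mpr hs)]
    · rw [((hR s hs).2 s hs), if_pos rfl]
      simp [zpow_ofNat]
    · intro r hr hrs
      rw [(hR r (List.mem_toFinset.mp hr)).2 s hs, if_neg hrs, zpow_zero]
  refine ⟨tor D F c, S.diagonal_le_group F (by rw [S.diagonal_eq]; exact ⟨c, rfl⟩), ?_⟩
  rw [S.tor_conj_xProd F c fun r hr => (hR r hr).1.2]
  exact S.xProd_congr F fun r hr => by rw [hval r hr, hu r hr]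

/-- Every involution is conjugate to a product of root elements `x_r(1)` over a state. -/
theorem involution_states [Fintype F] {Ts : List InvState} {E : List InvEdge}
    (hchk : chkInv D S.vec Ts E = true) (htop : ([], List.range D.rank) ∈ Ts)
    {g : GL D.Idx F} (hg : g ∈ D.group F) (hg2 : orderOf g = 2) :
    ∃ T ∈ Ts, T.1 ≠ [] ∧ ∃ h ∈ D.group F,
      h * g * h⁻¹ = S.xProd F T.1 fun _ => 1 := by
  classical
  haveI : Fact (Nat.Prime 2) := ⟨Nat.prime_two⟩
  obtain ⟨Q, hQ⟩ := CfsgLib.SteinbergChar.exists_sylow_eq S F 2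
  have h2 : IsPGroup 2 ↥(Subgroup.zpowers (⟨g, hg⟩ : ↥(D.group F))) := by
    refine IsPGroup.of_card (n := 1) ?_
    rw [Nat.card_zpowers, pow_one, ← Subgroup.orderOf_coe]
    exact hg2
  obtain ⟨Q', hQ'⟩ := h2.exists_le_sylow
  obtain ⟨k, hk⟩ := MulAction.exists_smul_eq ↥(D.group F) Q' Q
  have hmem : (k : GL D.Idx F) * g * (k : GL D.Idx F)⁻¹ ∈ D.posUnipotent F := by
    have h1 : MulAut.conj k • (⟨g, hg⟩ : ↥(D.group F)) ∈
        MulAut.conj k • (Q' : Subgroup ↥(D.group F)) :=
      Subgroup.smul_mem_pointwise_smul _ _ _ (hQ' (Subgroup.mem_zpowers _))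
    rw [show MulAut.conj k • (Q' : Subgroup ↥(D.group F)) = (Q : Subgroup ↥(D.group F)) from
      congrArg (fun R : Sylow 2 ↥(D.group F) => (R : Subgroup ↥(D.group F))) hk, hQ] at h1
    exact h1
  have hspan : uSub D F (S.spanSet (List.range D.rank)) = D.posUnipotent F := by
    refine le_antisymm (uSub_le_posUnipotent F _) ?_
    rw [← uSub_univ]
    refine S.uSub_le F fun r _ h1 h2 t => S.xG_mem_uSub F ?_ h1 h2 t
    exact S.mem_spanList.mpr ⟨⟨h1, h2⟩, fun m hm => Or.inl (List.mem_range.mpr hm)⟩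
  have hsq : g * g = 1 := by rw [← sq, ← hg2, pow_orderOf_eq_one]
  set g' := (k : GL D.Idx F) * g * (k : GL D.Idx F)⁻¹ with hg'
  obtain ⟨T, hT, f, hf, h, hh, he⟩ := S.reduce F hchk (D.rank + 1) _ htop (by simp) (fun _ => 1)
    (by simp) g' (hspan.symm ▸ hmem) (by
      rw [hg', show (k : GL D.Idx F) * g * (k : GL D.Idx F)⁻¹ *
        ((k : GL D.Idx F) * g * (k : GL D.Idx F)⁻¹) =
        (k : GL D.Idx F) * (g * g) * (k : GL D.Idx F)⁻¹ by group, hsq]
      group)
  rw [show S.xProd F ([] : List ℕ) (fun _ => (1 : F)) = 1 from rfl, one_mul] at he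
  have hTne : T.1 ≠ [] := by
    intro hnil
    rw [hnil, S.xProd_nil] at he
    have : g' = 1 := by
      rw [← show h⁻¹ * (h * g' * h⁻¹) * h = g' by group, he]; group
    rw [hg', conj_eq_one_iff] at this
    rw [this, orderOf_one] at hg2
    omega
  simp only [chkInv, List.all_eq_true, Bool.and_eq_true] at hchk
  have hst := (hchk T hT).1
  simp only [chkState, Bool.and_eq_true] at hst
  obtain ⟨h', hh', he'⟩ := S.normalise F hst.1.1.1.1 f hf
  refine ⟨T, hT, hTne, h' * h * k, mul_mem (mul_mem hh' hh) k.2, ?_⟩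
  rw [← he', ← he, hg']
  group

end Sys

end CfsgLib.Chevalley
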