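import Cfsg.Agent.Chevalley.InvClasses

/-!
Involutions in characteristic two: classes separated by the rank of `g - 1`.
-/

set_option autoImplicit false

namespace CfsgLib.Chevalley

open Cfsg.Lie
open scoped Matrix Pointwise

variable {D : ChevalleyDatum}

/-- The product of the matrices `x_r(1)` over a list, associated to the left. -/
def repMat (D : ChevalleyDatum) (F : Type*) [Field F] : List ℕ → Matrix D.Idx D.Idx F
  | [] => 1
  | r :: L => L.foldl (fun M s => M * D.x F s 1) (D.x F r 1)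

namespace Sys

variable (S : Sys D)
include S

variable (F : Type*) [Field F]

theorem repMat_eq (R : List ℕ) :
    repMat D F R = (S.xProd F R (fun _ => (1 : F)) : Matrix D.Idx D.Idx F) := by
  rcases R with _ | ⟨r, L⟩
  · rfl
  · have : ∀ (L : List ℕ) (g : GL D.Idx F),
        L.foldl (fun M s => M * D.x F s 1) (g : Matrix D.Idx D.Idx F) =
          ((g * S.xProd F L (fun _ => (1 : F)) : GL D.Idx F) : Matrix D.Idx D.Idx F) := by
      intro L
      induction L with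
      | nil => intro g; simp [xProd]
      | cons s L ih =>
        intro g
        rw [List.foldl_cons, show (g : Matrix D.Idx D.Idx F) * D.x F s 1 =
          ((g * S.xG F s 1 : GL D.Idx F) : Matrix D.Idx D.Idx F) by rw [Units.val_mul, S.xG_val],
          ih, xProd_cons, mul_assoc]
    exact this L (S.xG F r 1)

theorem eq_rep {y : GL D.Idx F} {reps : List (List ℕ)}
    (hy : (y : Matrix D.Idx D.Idx F) ∈ reps.map (repMat D F)) :
    ∃ R ∈ reps, y = S.xProd F R fun _ => (1 : F) := by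
  obtain ⟨R, hR, e⟩ := List.mem_map.mp hy
  exact ⟨R, hR, Units.ext (by rw [← e, S.repMat_eq])⟩

variable [CharP F 2] [Fintype F]

/-- The classification statement, given the checks. -/
theorem classes_statement {Ts : List InvState} {E : List InvEdge} {L : List InvStep}
    {reps : List (List ℕ)} (hinv : chkInv D S.vec Ts E = true)
    (htop : ([], List.range D.rank) ∈ Ts) (hsteps : chkSteps D L reps = true)
    (hcover : ∀ T ∈ Ts, T.1 = [] ∨ T.1 ∈ L.map (fun e => e.1) ∨ T.1 ∈ reps)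
    (hlt : ∀ R ∈ reps, ∀ r ∈ R, r < D.nroots)
    (hsq : ∀ R ∈ reps, wordEqBit D (R ++ R) [] = true)
    (hne : ∀ R ∈ reps, S.xProd F R (fun _ => (1 : F)) ≠ 1)
    (hsep : ∀ R₁ ∈ reps, ∀ R₂ ∈ reps, ∀ h ∈ D.group F,
      h * S.xProd F R₁ (fun _ => (1 : F)) * h⁻¹ = S.xProd F R₂ (fun _ => 1) → R₁ = R₂) :
    (∀ y : GL D.Idx F, (y : Matrix D.Idx D.Idx F) ∈ reps.map (repMat D F) →
        y ∈ D.group F ∧ orderOf y = 2) ∧
      (∀ g ∈ D.group F, orderOf g = 2 → ∃ y ∈ D.group F,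
        (y : Matrix D.Idx D.Idx F) ∈ reps.map (repMat D F) ∧
          ∃ h ∈ D.group F, h * g * h⁻¹ = y) ∧
      ∀ y₁ ∈ D.group F, ∀ y₂ ∈ D.group F,
        (y₁ : Matrix D.Idx D.Idx F) ∈ reps.map (repMat D F) →
        (y₂ : Matrix D.Idx D.Idx F) ∈ reps.map (repMat D F) →
        (∃ h ∈ D.group F, h * y₁ * h⁻¹ = y₂) →
        (y₁ : Matrix D.Idx D.Idx F) = (y₂ : Matrix D.Idx D.Idx F) := by
  refine ⟨fun y hy => ?_, fun g hg hg2 => ?_, fun y₁ _ y₂ _ h₁ h₂ => ?_⟩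
  · obtain ⟨R, hR, rfl⟩ := S.eq_rep F hy
    exact ⟨S.xProd_mem_group F (hlt R hR) _, S.orderOf_xProd F (hsq R hR) (hne R hR)⟩
  · obtain ⟨R, hR, h, hh, e⟩ := S.exists_rep F hinv htop hsteps hcover hg hg2
    exact ⟨_, S.xProd_mem_group F (hlt R hR) _,
      List.mem_map.mpr ⟨R, hR, S.repMat_eq F R⟩, h, hh, e⟩
  · obtain ⟨R₁, hR₁, rfl⟩ := S.eq_rep F h₁
    obtain ⟨R₂, hR₂, rfl⟩ := S.eq_rep F h₂
    rintro ⟨h, hh, e⟩
    rw [hsep R₁ hR₁ R₂ hR₂ h hh e]

omit [Fintype F] in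
/-- Separation by the rank of `g - 1`. -/
theorem sep_of_rank {reps : List (List ℕ)} (rk : List ℕ → ℕ)
    (hrk : ∀ R ∈ reps,
      ((S.xProd F R (fun _ => (1 : F)) : Matrix D.Idx D.Idx F) - 1).rank = rk R)
    (hinj : ∀ R₁ ∈ reps, ∀ R₂ ∈ reps, rk R₁ = rk R₂ → R₁ = R₂) :
    ∀ R₁ ∈ reps, ∀ R₂ ∈ reps, ∀ h ∈ D.group F,
      h * S.xProd F R₁ (fun _ => (1 : F)) * h⁻¹ = S.xProd F R₂ (fun _ => 1) → R₁ = R₂ := by
  intro R₁ h₁ R₂ h₂ h _ e
  refine hinj R₁ h₁ R₂ h₂ ?_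
  rw [← hrk R₁ h₁, ← hrk R₂ h₂, ← e, S.rank_conj F]

end Sys

end CfsgLib.Chevalley
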