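import Cfsg.Agent.Chevalley.InvSeparate
import Cfsg.Agent.Chevalley.Poincare

/-!
Involutions in characteristic two: cheaper forms of the checks, for large root systems. Reflections
are read off the tables, and `x_r(1)` is applied to bit masks through sparse tables of its columns.
-/

set_option autoImplicit false

namespace CfsgLib.Chevalley

open Cfsg.Lie
open scoped Matrix Pointwise

variable (D : ChevalleyDatum)

/-- A word of reflections, by the tables. -/
def wAppT (T : Tab) (L : List ℕ) (r : ℕ) : ℕ := L.foldr T.wF r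

/-- Check: an edge, reflections read off the tables. -/
def chkEdgeT (Tb : Tab) (co : ℕ → ℕ → ℤ) (T T' : InvState) (e : InvEdge) : Bool :=
  decide (e.1 = T.1) && decide (e.2.2.2.2 = T'.1) && chkClean D co T.2 e.2.1 &&
  e.2.2.1.all (fun j => T.2.contains j) &&
  decide (wAppT Tb e.2.2.1 (D.simple e.2.1) = e.2.2.2.1) &&
  (spanList D co T.2).all (fun r => decide (D.cartan e.2.1 r ≠ 0) ||
    (spanList D co T'.2).contains (wAppT Tb e.2.2.1 r)) &&
  T'.1.isPerm (T.1 ++ [e.2.2.2.1]) && decide (T'.2.length < T.2.length)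

/-- Check: one node of a state. -/
def chkNodeT (Tb : Tab) (co : ℕ → ℕ → ℤ) (Ts : List InvState) (E : List InvEdge) (T : InvState)
    (i : ℕ) : Bool :=
  E.any fun e => decide (e.2.1 = i) && Ts.any fun T' => chkEdgeT D Tb co T T' e

/-- Check: a step by a Weyl group element, reflections read off the tables. -/
def chkStepWT (Tb : Tab) (e : InvStep) : Bool :=
  e.2.1 && chkOrthList D e.2.2.2 && chkEvenComm D e.2.2.2 e.2.2.2 &&
    e.2.2.1.all (fun j => decide (j < D.rank)) && e.1.all (fun r => decide (r < D.nroots)) &&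
    (e.1.map (wAppT Tb e.2.2.1)).isPerm e.2.2.2

/-- Check: the targets of the steps are known. -/
def chkKnown : List InvStep → List (List ℕ) → Bool
  | [], _ => true
  | e :: L, known => known.contains e.2.2.2 && chkKnown L (e.1 :: known)

/-- `v + N v` for the sparse columns `T` of `N`. -/
def appMask (T : List (ℕ × ℕ)) (v : ℕ) : ℕ :=
  T.foldl (fun a e => if v.testBit e.1 then a ^^^ e.2 else a) v

/-- The column `c` of a sparse table. -/
def maskCol (T : List (ℕ × ℕ)) (c : ℕ) : ℕ :=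
  xorAll ((T.filter fun e => e.1 == c).map fun e => e.2)

/-- Check: `T` lists the columns of `x_r(1) - 1` modulo two. -/
def chkMask (r : ℕ) (T : List (ℕ × ℕ)) : Bool :=
  decide (r < D.nroots) && T.all (fun e => decide (e.1 < D.rank + D.nroots)) &&
    (List.range (D.rank + D.nroots)).all fun c =>
      xorAll ((colBit D r c).map fun k => 1 <<< k) == (maskCol T c ^^^ (1 <<< c))

/-- The table of `r`. -/
def maskOf (Tb : List (ℕ × List (ℕ × ℕ))) (r : ℕ) : List (ℕ × ℕ) :=
  ((Tb.find? fun e => e.1 == r).map fun e => e.2).getD []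

/-- A word on a mask. -/
def wordMask (Tb : List (ℕ × List (ℕ × ℕ))) (W : List ℕ) (v : ℕ) : ℕ :=
  W.foldr (fun r => appMask (maskOf Tb r)) v

/-- Check: two words agree modulo two, by tables. -/
def wordEqMask (Tb : List (ℕ × List (ℕ × ℕ))) (W₁ W₂ : List ℕ) : Bool :=
  (W₁.all fun r => Tb.any fun e => e.1 == r) && (W₂.all fun r => Tb.any fun e => e.1 == r) &&
    (List.range (D.rank + D.nroots)).all fun c =>
      wordMask Tb W₁ (1 <<< c) == wordMask Tb W₂ (1 <<< c)

/-- Check: `B` is a basis of the span of the columns `C` of `w - 1`, by tables; `G` expresses each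
column by basis indices. -/
def chkRankMask (Tb : List (ℕ × List (ℕ × ℕ))) (W C : List ℕ) (B : List (ℕ × ℕ × List ℕ))
    (G : List (List ℕ)) : Bool :=
  (W.all fun r => Tb.any fun e => e.1 == r) &&
  decide (((List.range (D.rank + D.nroots)).map fun c =>
    wordMask Tb W (1 <<< c) ^^^ (1 <<< c)) = C) &&
  triBit D B &&
  ((List.range (D.rank + D.nroots)).all fun c =>
    (G.getD c []).all (fun k => decide (k < B.length)) &&
      decide (xorAll ((G.getD c []).map fun k => (B.getD k (0, 0, [])).2.1) = C.getD c 0)) &&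
  B.all fun e => e.2.2.all (fun c => decide (c < D.rank + D.nroots)) &&
    decide (xorAll (e.2.2.map fun c => C.getD c 0) = e.2.1)

theorem maskOf_mem {Tb : List (ℕ × List (ℕ × ℕ))} {r : ℕ}
    (h : Tb.any (fun e => e.1 == r) = true) : (r, maskOf Tb r) ∈ Tb := by
  unfold maskOf
  cases he : Tb.find? fun e => e.1 == r with
  | none =>
    rw [List.find?_eq_none] at he
    simp only [List.any_eq_true] at h
    obtain ⟨e, hm, hr⟩ := h
    exact absurd hr (he e hm)
  | some e =>
    obtain ⟨r', T⟩ := e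
    have h1 := List.find?_some he
    simp only [beq_iff_eq] at h1
    subst h1
    simpa using List.mem_of_find?_eq_some he

variable (F : Type*) [Field F] [CharP F 2]

theorem toVec_foldl (T : List (ℕ × ℕ)) (v : ℕ) : ∀ a : ℕ,
    toVec D F (T.foldl (fun a e => if v.testBit e.1 then a ^^^ e.2 else a) a) =
      toVec D F a + (T.map fun e => if v.testBit e.1 then toVec D F e.2 else 0).sum := by
  induction T with
  | nil => intro a; simp
  | cons e T ih =>
    intro a
    rw [List.foldl_cons, ih, List.map_cons, List.sum_cons, ← add_assoc]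
    congr 1
    split_ifs
    · exact toVec_xor D F _ _
    · simp

theorem enc_surj {c : ℕ} (hc : c < D.rank + D.nroots) : ∃ col : D.Idx, enc D col = c := by
  by_cases h' : c < D.rank
  · exact ⟨Sum.inl ⟨c, h'⟩, rfl⟩
  · exact ⟨Sum.inr ⟨c - D.rank, by omega⟩, show D.rank + (c - D.rank) = c by omega⟩

theorem enc_inj {a b : D.Idx} (h : enc D a = enc D b) : a = b := by
  rcases a with i | s <;> rcases b with j | t <;> simp only [enc, Sum.elim_inl, Sum.elim_inr] at h
  · rw [Fin.ext h]
  · have := i.isLt; omega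
  · have := j.isLt; omega
  · rw [Fin.ext (by omega : (s : ℕ) = t)]

theorem sum_maskCol (T : List (ℕ × ℕ)) (hT : ∀ e ∈ T, e.1 < D.rank + D.nroots) (v : ℕ)
    (row : D.Idx) :
    (∑ col : D.Idx, toVec D F (maskCol T (enc D col)) row * toVec D F v col) =
      (T.map fun e => if v.testBit e.1 then toVec D F e.2 else 0).sum row := by
  classical
  induction T with
  | nil => simp [maskCol, xorAll, toVec_zero]
  | cons e T ih =>
    rw [List.forall_mem_cons] at hT
    obtain ⟨c0, hc0⟩ := enc_surj D hT.1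
    have hstep : ∀ col : D.Idx, toVec D F (maskCol (e :: T) (enc D col)) row * toVec D F v col =
        (if col = c0 then toVec D F e.2 row * toVec D F v col else 0) +
          toVec D F (maskCol T (enc D col)) row * toVec D F v col := by
      intro col
      by_cases h : col = c0
      · subst h
        rw [if_pos rfl]
        simp only [maskCol, List.filter_cons, hc0, beq_self_eq_true, if_true, List.map_cons]
        rw [show ∀ L, xorAll (e.2 :: L) = e.2 ^^^ xorAll L from fun _ => rfl, toVec_xor,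
          Pi.add_apply, add_mul]
      · have hne : e.1 ≠ enc D col := fun e' => h (enc_inj D (e'.symm.trans hc0.symm))
        simp [maskCol, List.filter_cons, hne, h]
    rw [Finset.sum_congr rfl fun col _ => hstep col, Finset.sum_add_distrib, Finset.sum_ite_eq',
      if_pos (Finset.mem_univ _), ih hT.2, List.map_cons, List.sum_cons, Pi.add_apply]
    congr 1
    simp only [toVec, hc0]
    split_ifs <;> simp [toVec, *]

theorem x_toVec (W : WellFormed D) {r : ℕ} {T : List (ℕ × ℕ)} (h : chkMask D r T = true) (v : ℕ) :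
    D.x F r 1 *ᵥ toVec D F v = toVec D F (appMask T v) := by
  classical
  simp only [chkMask, Bool.and_eq_true, decide_eq_true_eq, List.all_eq_true, List.mem_range,
    beq_iff_eq] at h
  obtain ⟨⟨hr, hT⟩, hcol⟩ := h
  have hentry : ∀ row col : D.Idx, D.x F r 1 row col =
      toVec D F (maskCol T (enc D col)) row + toVec D F (1 <<< enc D col) row := by
    intro row col
    have h1 := congrArg (toVec D F) (hcol _ (enc_lt D col))
    rw [toVec_vecOf, toVec_xor] at h1
    have h2 := x_vecOf D F W hr [enc D col]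
    have e1 : vecOf D F [enc D col] = bv D F (enc D col) := by simp [vecOf]
    have e2 : vecOf D F (appBit D r [enc D col]) = vecOf D F (colBit D r (enc D col)) := by
      simp [appBit, enc_lt D col, vecOf_foldr]
    rw [e1, e2, h1, bv_enc] at h2
    have h3 := congrFun h2 row
    simpa [Matrix.mulVec_single, Pi.single_apply] using h3
  funext row
  rw [appMask, toVec_foldl, Pi.add_apply, ← sum_maskCol D F T hT v row]
  simp only [Matrix.mulVec, dotProduct, hentry, add_mul, Finset.sum_add_distrib]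
  rw [add_comm]
  congr 1
  rw [Finset.sum_eq_single row]
  · simp [toVec_single, bv_enc, Pi.single_apply]
  · intro b _ hb
    simp [toVec_single, bv_enc, Pi.single_apply, Ne.symm hb]
  · simp

theorem wordMask_sound (W : WellFormed D) {Tb : List (ℕ × List (ℕ × ℕ))}
    (hTb : ∀ e ∈ Tb, chkMask D e.1 e.2 = true) : ∀ w : List ℕ,
    (∀ r ∈ w, Tb.any (fun e => e.1 == r) = true) → ∀ c,
    D.wordMat F (w.map fun r => (r, (1 : F))) *ᵥ bv D F c =
      toVec D F (wordMask Tb w (1 <<< c)) := by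
  intro w
  induction w with
  | nil => intro _ c; simp [ChevalleyDatum.wordMat, wordMask, toVec_single]
  | cons r w ih =>
    intro hw c
    rw [List.forall_mem_cons] at hw
    rw [List.map_cons, wordMat_cons, ← Matrix.mulVec_mulVec, ih hw.2 c,
      x_toVec D F W (hTb _ (maskOf_mem hw.1))]
    rfl

variable {D}

namespace Sys

variable (S : Sys D)
include S

omit [CharP F 2] in
theorem wApp_tab {Tb : Tab} (hw : ∀ i < D.rank, chkW D Tb i = true) : ∀ L : List ℕ,
    (∀ j ∈ L, j < D.rank) → ∀ r < D.nroots,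
      wApp D L r = wAppT Tb L r ∧ wAppT Tb L r < D.nroots := by
  intro L
  induction L with
  | nil => intro _ r hr; exact ⟨rfl, hr⟩
  | cons j L ih =>
    intro hL r hr
    rw [List.forall_mem_cons] at hL
    obtain ⟨h1, h2⟩ := ih hL.2 r hr
    have h3 := reflectRoot_wF (hw j hL.1) h2
    simp only [wApp, wAppT, List.foldr_cons] at h1 h2 h3 ⊢
    rw [h1, h3]
    refine ⟨rfl, ?_⟩
    rw [← h3]
    exact S.w_lt j hL.1 _ h2

omit [CharP F 2] in
theorem chkInv_of {Tb : Tab} (hw : ∀ i < D.rank, chkW D Tb i = true) {co : ℕ → ℕ → ℤ}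
    {Ts : List InvState} {E : List InvEdge}
    (h : ∀ T ∈ Ts, chkState D co T = true ∧ ∀ i ∈ T.2, chkNodeT D Tb co Ts E T i = true) :
    chkInv D co Ts E = true := by
  simp only [chkInv, List.all_eq_true, Bool.and_eq_true, List.any_eq_true, decide_eq_true_eq]
  intro T hT
  obtain ⟨hst, hn⟩ := h T hT
  refine ⟨hst, fun i hi => ?_⟩
  have h1 := hn i hi
  simp only [chkNodeT, List.any_eq_true, Bool.and_eq_true, decide_eq_true_eq] at h1
  obtain ⟨e, he, hei, T', hT', hc⟩ := h1
  refine ⟨e, he, hei, T', hT', ?_⟩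
  have hJ : ∀ j ∈ T.2, j < D.rank := by
    simp only [chkState, Bool.and_eq_true, List.all_eq_true, decide_eq_true_eq] at hst
    exact hst.1.1.1.2
  simp only [chkEdgeT, chkInvEdge, Bool.and_eq_true, decide_eq_true_eq, List.all_eq_true,
    Bool.or_eq_true, List.contains_iff_mem] at hc ⊢
  obtain ⟨⟨⟨⟨⟨⟨⟨a1, a2⟩, a3⟩, a4⟩, a5⟩, a6⟩, a7⟩, a8⟩ := hc
  have hL : ∀ j ∈ e.2.2.1, j < D.rank := fun j hj => hJ j (a4 j hj)
  have hi' : e.2.1 < D.rank := hJ _ (hei ▸ hi)
  refine ⟨⟨⟨⟨⟨⟨⟨a1, a2⟩, a3⟩, a4⟩, ?_⟩, fun r hr => ?_⟩, a7⟩, a8⟩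
  · rw [(S.wApp_tab hw _ hL _ (S.wf.simple_lt _ hi')).1, a5]
  · have hlt : r < D.nroots := by
      simp only [spanList, List.mem_filter, List.mem_range'_1] at hr
      omega
    rw [(S.wApp_tab hw _ hL r hlt).1]
    exact a6 r hr

theorem stepWT_conj [Finite F] {Tb : Tab} (hw : ∀ i < D.rank, chkW D Tb i = true) {e : InvStep}
    (h : chkStepWT D Tb e = true) : ∃ k ∈ D.group F,
      k * S.xProd F e.1 (fun _ => (1 : F)) * k⁻¹ = S.xProd F e.2.2.2 fun _ => 1 := by
  refine S.step_conj F ?_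
  simp only [chkStepWT, Bool.and_eq_true, List.all_eq_true, decide_eq_true_eq] at h
  obtain ⟨⟨⟨⟨⟨h0, h1⟩, h2⟩, h3⟩, h4⟩, h5⟩ := h
  have e' : e.1.map (wApp D e.2.2.1) = e.1.map (wAppT Tb e.2.2.1) :=
    List.map_congr_left fun r hr => (S.wApp_tab hw _ h3 r (h4 r hr)).1
  rw [chkInvStep, if_pos h0, e']
  simp only [Bool.and_eq_true, List.all_eq_true, decide_eq_true_eq]
  exact ⟨⟨⟨⟨h1, h2⟩, h3⟩, h4⟩, h5⟩

theorem wordEqMask_sound {Tb : List (ℕ × List (ℕ × ℕ))}
    (hTb : ∀ e ∈ Tb, chkMask D e.1 e.2 = true) {W₁ W₂ : List ℕ}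
    (h : wordEqMask D Tb W₁ W₂ = true) :
    S.xProd F W₁ (fun _ => (1 : F)) = S.xProd F W₂ fun _ => 1 := by
  simp only [wordEqMask, Bool.and_eq_true, List.all_eq_true, List.mem_range, beq_iff_eq] at h
  obtain ⟨⟨h1, h2⟩, h3⟩ := h
  refine Units.ext ?_
  rw [S.xProd_val F, S.xProd_val F]
  refine ext_bv D F fun c hc => ?_
  rw [wordMask_sound D F S.wf hTb W₁ h1, wordMask_sound D F S.wf hTb W₂ h2, h3 c hc]

theorem conj_of_wordEqMask {Tb : List (ℕ × List (ℕ × ℕ))}
    (hTb : ∀ e ∈ Tb, chkMask D e.1 e.2 = true) {R X R' : List ℕ}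
    (h : wordEqMask D Tb (X ++ R) (R' ++ X) = true) : ∃ k ∈ D.group F,
      k * S.xProd F R (fun _ => (1 : F)) * k⁻¹ = S.xProd F R' fun _ => 1 := by
  have h2 := S.wordEqMask_sound F hTb h
  simp only [wordEqMask, Bool.and_eq_true, List.all_eq_true] at h
  have hlt : ∀ r ∈ X, r < D.nroots := by
    intro r hr
    have h1 := hTb _ (maskOf_mem (h.1.1 r (List.mem_append_left _ hr)))
    simp only [chkMask, Bool.and_eq_true, decide_eq_true_eq] at h1
    exact h1.1.1
  refine ⟨S.xProd F X (fun _ => 1), S.xProd_mem_group F hlt _, ?_⟩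
  simp only [xProd, List.map_append, List.prod_append] at h2 ⊢
  rw [h2, mul_inv_cancel_right]

theorem orderOf_of_mask {Tb : List (ℕ × List (ℕ × ℕ))}
    (hTb : ∀ e ∈ Tb, chkMask D e.1 e.2 = true) {R : List ℕ}
    (h : wordEqMask D Tb (R ++ R) [] = true) (hne : S.xProd F R (fun _ => (1 : F)) ≠ 1) :
    orderOf (S.xProd F R fun _ => (1 : F)) = 2 := by
  haveI := Fact.mk Nat.prime_two
  refine orderOf_eq_prime ?_ hne
  have h2 := S.wordEqMask_sound F hTb h
  simp only [xProd, List.map_append, List.prod_append, List.map_nil, List.prod_nil] at h2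
  rw [sq]
  exact h2

/-- The rank of `w - 1`, by tables. -/
theorem rank_sub_one_mask {Tb : List (ℕ × List (ℕ × ℕ))}
    (hTb : ∀ e ∈ Tb, chkMask D e.1 e.2 = true) {W C : List ℕ} {B : List (ℕ × ℕ × List ℕ)}
    {G : List (List ℕ)} (h : chkRankMask D Tb W C B G = true) :
    ((S.xProd F W (fun _ => (1 : F)) : Matrix D.Idx D.Idx F) - 1).rank = B.length := by
  classical
  simp only [chkRankMask, Bool.and_eq_true, List.all_eq_true, decide_eq_true_eq, beq_iff_eq,
    List.mem_range] at h
  obtain ⟨⟨⟨⟨hW, hC⟩, htri⟩, hred⟩, hB⟩ := h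
  set M := (S.xProd F W (fun _ => (1 : F)) : Matrix D.Idx D.Idx F) - 1 with hM
  have hcol : ∀ col : D.Idx, M.col col = toVec D F (C.getD (enc D col) 0) := by
    intro col
    have hl := enc_lt D col
    have e1 : C.getD (enc D col) 0 =
        wordMask Tb W (1 <<< enc D col) ^^^ (1 <<< enc D col) := by
      rw [← hC]; simp [List.getD, hl]
    rw [e1, toVec_xor, toVec_single, ← wordMask_sound D F S.wf hTb W hW, hM, S.xProd_val F]
    funext row
    rw [bv_enc]
    simp [Matrix.col, Matrix.mulVec_single, Matrix.one_apply, Pi.single_apply,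
      sub_eq_add_neg, CharTwo.neg_eq]
  have hspan : Submodule.span F (Set.range M.col) =
      Submodule.span F (Set.range fun k : Fin B.length => toVec D F (B.get k).2.1) := by
    refine le_antisymm (Submodule.span_le.mpr ?_) (Submodule.span_le.mpr ?_)
    · rintro x ⟨col, rfl⟩
      rw [hcol]
      obtain ⟨hk, hx⟩ := hred _ (enc_lt D col)
      rw [← hx, toVec_xorAll, List.map_map]
      refine list_sum_mem fun y hy => ?_
      obtain ⟨k, hkm, rfl⟩ := List.mem_map.mp hy
      refine Submodule.subset_span ⟨⟨k, hk k hkm⟩, ?_⟩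
      show toVec D F (B.get ⟨k, hk k hkm⟩).2.1 = toVec D F (B.getD k (0, 0, [])).2.1
      rw [List.getD_eq_getElem _ _ (hk k hkm), List.get_eq_getElem]
    · rintro x ⟨k, rfl⟩
      obtain ⟨hlt, hx⟩ := hB _ (List.get_mem B k)
      show toVec D F (B.get k).2.1 ∈ _
      rw [← hx, toVec_xorAll, List.map_map]
      refine list_sum_mem fun y hy => ?_
      obtain ⟨c, hc, rfl⟩ := List.mem_map.mp hy
      obtain ⟨col, rfl⟩ := enc_surj D (hlt c hc)
      rw [Function.comp_apply, ← hcol]
      exact Submodule.subset_span ⟨col, rfl⟩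
  rw [Matrix.rank_eq_finrank_span_cols, hspan, finrank_span_eq_card (S.tri_indep F B htri)]
  simp

theorem known_conj {reps : List (List ℕ)} : ∀ (L : List InvStep) (known : List (List ℕ)),
    chkKnown L known = true →
    (∀ e ∈ L, ∃ k ∈ D.group F,
      k * S.xProd F e.1 (fun _ => (1 : F)) * k⁻¹ = S.xProd F e.2.2.2 fun _ => 1) →
    (∀ R ∈ known, ∃ R₀ ∈ reps, ∃ k ∈ D.group F,
      k * S.xProd F R (fun _ => (1 : F)) * k⁻¹ = S.xProd F R₀ fun _ => 1) →
    ∀ R, R ∈ L.map (fun e => e.1) ∨ R ∈ known → ∃ R₀ ∈ reps, ∃ k ∈ D.group F,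
      k * S.xProd F R (fun _ => (1 : F)) * k⁻¹ = S.xProd F R₀ fun _ => 1 := by
  intro L
  induction L with
  | nil => intro known _ _ hk R hR; simpa using hk R (by simpa using hR)
  | cons e L ih =>
    intro known h hs hk R hR
    simp only [chkKnown, Bool.and_eq_true, List.contains_iff_mem] at h
    rw [List.forall_mem_cons] at hs
    refine ih (e.1 :: known) h.2 hs.2 (fun R' hR' => ?_) R ?_
    · rcases List.mem_cons.mp hR' with rfl | hR'
      · obtain ⟨k, hkm, hke⟩ := hs.1
        obtain ⟨R₀, hR₀, k', hk'm, hk'e⟩ := hk _ h.1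
        refine ⟨R₀, hR₀, k' * k, mul_mem hk'm hkm, ?_⟩
        rw [← hk'e, ← hke]
        group
      · exact hk R' hR'
    · simp only [List.map_cons, List.mem_cons] at hR ⊢
      tauto

variable [Fintype F]

/-- The classification statement, from split checks. -/
theorem classes_statement_split {Ts : List InvState} {E : List InvEdge} {L : List InvStep}
    {reps : List (List ℕ)} (hinv : chkInv D S.vec Ts E = true)
    (htop : ([], List.range D.rank) ∈ Ts) (hknown : chkKnown L reps = true)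
    (hstep : ∀ e ∈ L, ∃ k ∈ D.group F,
      k * S.xProd F e.1 (fun _ => (1 : F)) * k⁻¹ = S.xProd F e.2.2.2 fun _ => 1)
    (hcover : ∀ T ∈ Ts, T.1 = [] ∨ T.1 ∈ L.map (fun e => e.1) ∨ T.1 ∈ reps)
    (hlt : ∀ R ∈ reps, ∀ r ∈ R, r < D.nroots)
    (hord : ∀ R ∈ reps, orderOf (S.xProd F R fun _ => (1 : F)) = 2)
    (hsep : ∀ R₁ ∈ reps, ∀ R₂ ∈ reps, ∀ h ∈ D.group F,
      h * S.xProd F R₁ (fun _ => (1 : F)) * h⁻¹ = S.xProd F R₂ (fun _ => 1) → R₁ = R₂) :
    (∀ y : GL D.Idx F, (y : Matrix D.Idx D.Idx F) ∈ reps.map (repMat D F) →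
        y ∈ D.group F ∧ orderOf y = 2) ∧
      (∀ g ∈ D.group F, orderOf g = 2 → ∃ y ∈ D.group F,
        (y : Matrix D.Idx D.Idx F) ∈ reps.map (repMat D F) ∧
          ∃ h ∈ D.group F, h * g * h⁻¹ = y) ∧
      ∀ y₁ ∈ D.group F, ∀ y₂ ∈ D.group F,
        (y₁ : Matrix D.Idx D.Idx F) ∈ reps.map (repMat D F) →
        (y₂ : Matrix D.Idx D.Idx F) ∈ reps.map (repMat D F) →
        (∃ h ∈ D.group F, h * y₁ * h⁻¹ = y₂) →
        (y₁ : Matrix D.Idx D.Idx F) = (y₂ : Matrix D.Idx D.Idx F) := by
  refine ⟨fun y hy => ?_, fun g hg hg2 => ?_, fun y₁ _ y₂ _ h₁ h₂ => ?_⟩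
  · obtain ⟨R, hR, rfl⟩ := S.eq_rep F hy
    exact ⟨S.xProd_mem_group F (hlt R hR) _, hord R hR⟩
  · obtain ⟨T, hT, hne, h, hh, he⟩ := S.involution_states F hinv htop hg hg2
    obtain ⟨R, hR, k, hk, hke⟩ := S.known_conj F L reps hknown hstep
      (fun R hR => ⟨R, hR, 1, one_mem _, by group⟩) T.1 ((hcover T hT).resolve_left hne)
    refine ⟨_, S.xProd_mem_group F (hlt R hR) _, List.mem_map.mpr ⟨R, hR, S.repMat_eq F R⟩,
      k * h, mul_mem hk hh, ?_⟩
    rw [← hke, ← he]
    group
  · obtain ⟨R₁, hR₁, rfl⟩ := S.eq_rep F h₁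
    obtain ⟨R₂, hR₂, rfl⟩ := S.eq_rep F h₂
    rintro ⟨h, hh, e⟩
    rw [hsep R₁ hR₁ R₂ hR₂ h hh e]

end Sys

end CfsgLib.Chevalley
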