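import Cfsg.Agent.Chevalley.TwoGen
import Cfsg.Agent.Chevalley.All

/-!
Certificates for two-generation of the tabulated Chevalley groups.
-/

set_option autoImplicit false

namespace CfsgLib.Chevalley

open Cfsg.Lie

/-- Steps for `G2`. -/
def genStepsG2 : List GenStep := [
    .mv 8, .mv 11, .mv 4, .mv 6, .mv 2, .mv 1, .mv 3, .mv 0, .mv 7, .mv 5]

theorem genCheckG2 : pairCheck chevG2 [0, 1] 1 9 11 10 1 genStepsG2 = true := by
  decide +kernel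

theorem twoGenG2 (F : Type*) [Field F] [Finite F] (hF : ∃ x : F, x ≠ 0 ∧ x ≠ 1) :
    ∃ a b : ↥(chevG2.group F), Subgroup.closure ({a, b} : Set ↥(chevG2.group F)) = ⊤ :=
  sysG2.two_gen_of_check F hF ([⟨0, by decide⟩, ⟨1, by decide⟩] : List (Fin chevG2.rank)) ⟨1, by decide⟩ (genCheckG2)

/-- Steps for `B2`. -/
def genStepsB2 : List GenStep := [
    .mv 4, .mv 5, .mv 0, .mv 6, .mv 3, .mv 2]

theorem genCheckB2 : pairCheck chevB2 [0, 1] 1 7 5 1 1 genStepsB2 = true := by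
  decide +kernel

theorem twoGenB2 (F : Type*) [Field F] [Finite F] (hF : ∃ x : F, x ≠ 0 ∧ x ≠ 1) :
    ∃ a b : ↥(chevB2.group F), Subgroup.closure ({a, b} : Set ↥(chevB2.group F)) = ⊤ :=
  sysB2.two_gen_of_check F hF ([⟨0, by decide⟩, ⟨1, by decide⟩] : List (Fin chevB2.rank)) ⟨1, by decide⟩ (genCheckB2)

/-- Steps for `D4`. -/
def genStepsD4 : List GenStep := [
    .mv 3, .mv 15, .mv 7, .mv 13, .mv 11, .mv 2, .mv 20, .mv 8, .mv 16, .mv 10, .cm 3 15 5, 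
    .mv 5, .mv 9, .mv 1, .mv 18, .mv 14, .cm 3 7 0, .mv 0, .mv 6, .mv 19, .mv 23, .mv 17]

theorem genCheckD4 : pairCheck chevD4 [0, 1, 2, 3] 0 12 15 21 1 genStepsD4 = true := by
  decide +kernel

theorem twoGenD4 (F : Type*) [Field F] [Finite F] (hF : ∃ x : F, x ≠ 0 ∧ x ≠ 1) :
    ∃ a b : ↥(chevD4.group F), Subgroup.closure ({a, b} : Set ↥(chevD4.group F)) = ⊤ :=
  sysD4.two_gen_of_check F hF ([⟨0, by decide⟩, ⟨1, by decide⟩, ⟨2, by decide⟩, ⟨3, by decide⟩] : List (Fin chevD4.rank)) ⟨0, by decide⟩ (genCheckD4)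

/-- Steps for `F4`. -/
def genStepsF4 : List GenStep := [
    .mv 5, .mv 34, .mv 17, .mv 37, .mv 4, .mv 44, .mv 16, .mv 40, .mv 22, .mv 39, .mv 23, 
    .mv 29, .mv 42, .mv 13, .mv 30, .mv 10, .mv 43, .mv 3, .mv 31, .mv 7, .mv 25, .mv 8, 
    .cm 5 17 2, .mv 2, .mv 1, .mv 0, .mv 15, .mv 21, .mv 41, .mv 45, .mv 46, .mv 47, .mv 32, 
    .mv 26, .cm 5 34 11, .mv 11, .mv 33, .mv 27, .mv 35, .mv 38, .mv 28, .mv 36, .mv 14, 
    .mv 20, .mv 12, .mv 9]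

theorem genCheckF4 : pairCheck chevF4 [0, 1, 2, 3] 0 24 34 18 1 genStepsF4 = true := by
  decide +kernel

theorem twoGenF4 (F : Type*) [Field F] [Finite F] (hF : ∃ x : F, x ≠ 0 ∧ x ≠ 1) :
    ∃ a b : ↥(chevF4.group F), Subgroup.closure ({a, b} : Set ↥(chevF4.group F)) = ⊤ :=
  sysF4.two_gen_of_check F hF ([⟨0, by decide⟩, ⟨1, by decide⟩, ⟨2, by decide⟩, ⟨3, by decide⟩] : List (Fin chevF4.rank)) ⟨0, by decide⟩ (genCheckF4)

/-- Steps for `E6`. -/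
def genStepsE6 : List GenStep := [
    .mv 8, .mv 43, .mv 28, .mv 48, .mv 23, .mv 60, .mv 11, .mv 15, .mv 56, .mv 29, .mv 42, 
    .mv 24, .mv 47, .mv 12, .mv 59, .mv 19, .mv 52, .mv 32, .mv 39, .mv 34, .mv 37, .mv 35, 
    .cm 8 28 3, .mv 3, .mv 18, .mv 5, .mv 26, .mv 57, .mv 50, .mv 64, .mv 69, .mv 54, .mv 40, 
    .mv 38, .cm 8 60 25, .mv 25, .mv 13, .mv 20, .mv 6, .mv 27, .mv 22, .mv 46, .mv 58, 
    .mv 51, .mv 65, .mv 44, .cm 8 18 0, .mv 0, .mv 1, .mv 16, .mv 30, .mv 61, .mv 67, .mv 71, 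
    .mv 70, .mv 55, .mv 41, .mv 10, .cm 8 27 2, .mv 2, .mv 17, .mv 31, .mv 33, .mv 62, 
    .mv 68, .mv 53, .mv 66, .mv 45, .mv 14, .mv 21]

theorem genCheckE6 : pairCheck chevE6 [0, 1, 2, 3, 4, 5] 0 36 43 63 1 genStepsE6 = true := by
  decide +kernel

theorem twoGenE6 (F : Type*) [Field F] [Finite F] (hF : ∃ x : F, x ≠ 0 ∧ x ≠ 1) :
    ∃ a b : ↥(chevE6.group F), Subgroup.closure ({a, b} : Set ↥(chevE6.group F)) = ⊤ :=
  sysE6.two_gen_of_check F hF ([⟨0, by decide⟩, ⟨1, by decide⟩, ⟨2, by decide⟩, ⟨3, by decide⟩, ⟨4, by decide⟩, ⟨5, by decide⟩] : List (Fin chevE6.rank)) ⟨0, by decide⟩ (genCheckE6)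

/-- Steps for `E7`. -/
def genStepsE7 : List GenStep := [
    .mv 23, .mv 74, .mv 51, .mv 80, .mv 45, .mv 97, .mv 28, .mv 86, .mv 39, .mv 69, .mv 56, 
    .mv 66, .mv 59, .mv 64, .mv 61, .mv 62, .cm 23 51 14, .mv 14, .mv 38, .mv 19, .mv 11, 
    .mv 36, .mv 55, .mv 58, .mv 60, .mv 101, .mv 111, .mv 87, .mv 106, .mv 114, .mv 89, 
    .mv 70, .mv 67, .mv 65, .cm 23 86 32, .mv 32, .mv 52, .mv 46, .mv 29, .mv 40, .mv 20, 
    .mv 50, .mv 44, .mv 27, .mv 93, .mv 73, .mv 79, .mv 96, .mv 85, .mv 105, .mv 75, .mv 81, 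
    .cm 23 38 5, .mv 5, .mv 10, .mv 3, .mv 8, .mv 34, .mv 54, .mv 57, .mv 100, .mv 110, 
    .mv 120, .mv 115, .mv 122, .mv 117, .mv 91, .mv 71, .mv 68, .mv 25, .cm 23 55 18, .mv 18, 
    .mv 49, .mv 43, .mv 78, .mv 95, .mv 84, .mv 104, .mv 113, .mv 88, .mv 107, .mv 76, 
    .mv 82, .mv 47, .mv 30, .mv 41, .mv 21, .mv 12, .cm 23 10 0, .mv 0, .mv 1, .mv 2, .mv 7, 
    .mv 33, .mv 53, .mv 99, .mv 109, .mv 119, .mv 125, .mv 124, .mv 123, .mv 118, .mv 92, 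
    .mv 72, .mv 26, .mv 16, .cm 23 54 17, .mv 17, .mv 48, .mv 94, .mv 83, .mv 103, .mv 112, 
    .mv 121, .mv 116, .mv 90, .mv 108, .mv 77, .mv 31, .mv 42, .mv 22, .mv 13, .mv 4, .mv 9]

theorem genCheckE7 : pairCheck chevE7 [0, 1, 2, 3, 4, 5, 6] 0 63 74 102 1 genStepsE7 = true := by
  decide +kernel

theorem twoGenE7 (F : Type*) [Field F] [Finite F] (hF : ∃ x : F, x ≠ 0 ∧ x ≠ 1) :
    ∃ a b : ↥(chevE7.group F), Subgroup.closure ({a, b} : Set ↥(chevE7.group F)) = ⊤ :=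
  sysE7.two_gen_of_check F hF ([⟨0, by decide⟩, ⟨1, by decide⟩, ⟨2, by decide⟩, ⟨3, by decide⟩, ⟨4, by decide⟩, ⟨5, by decide⟩, ⟨6, by decide⟩] : List (Fin chevE7.rank)) ⟨0, by decide⟩ (genCheckE7)

/-- Steps for `E8`. -/
def genStepsE8 : List GenStep := [
    .mv 66, .mv 136, .mv 103, .mv 143, .mv 96, .mv 166, .mv 73, .mv 150, .mv 89, .mv 177, 
    .mv 62, .mv 137, .mv 102, .mv 144, .mv 95, .mv 167, .mv 72, .mv 151, .mv 88, .mv 130, 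
    .mv 109, .mv 126, .mv 113, .mv 123, .mv 116, .mv 121, .mv 118, .mv 119, .cm 66 103 52, 
    .mv 52, .mv 87, .mv 61, .mv 48, .mv 30, .mv 43, .mv 83, .mv 58, .mv 46, .mv 84, .mv 108, 
    .mv 112, .mv 115, .mv 117, .mv 172, .mv 187, .mv 152, .mv 178, .mv 191, .mv 209, .mv 196, 
    .mv 156, .mv 181, .mv 193, .mv 155, .mv 131, .mv 127, .mv 124, .mv 122, .cm 66 102 49, 
    .mv 49, .mv 86, .mv 60, .mv 47, .mv 85, .mv 59, .mv 101, .mv 94, .mv 71, .mv 162, 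
    .mv 135, .mv 142, .mv 165, .mv 149, .mv 176, .mv 190, .mv 153, .mv 179, .mv 192, .mv 154, 
    .mv 180, .mv 138, .mv 145, .mv 168, .mv 77, .mv 104, .mv 97, .mv 74, .mv 90, 
    .cm 66 87 33, .mv 33, .mv 45, .mv 29, .mv 10, .mv 18, .mv 24, .mv 39, .mv 26, .mv 40, 
    .mv 81, .mv 107, .mv 111, .mv 114, .mv 171, .mv 186, .mv 206, .mv 194, .mv 210, .mv 229, 
    .mv 221, .mv 215, .mv 200, .mv 213, .mv 199, .mv 158, .mv 132, .mv 128, .mv 125, .mv 68, 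
    .cm 66 83 28, .mv 28, .mv 42, .mv 27, .mv 41, .mv 82, .mv 57, .mv 100, .mv 93, .mv 141, 
    .mv 164, .mv 148, .mv 175, .mv 189, .mv 208, .mv 195, .mv 211, .mv 197, .mv 212, .mv 198, 
    .mv 157, .mv 182, .mv 139, .mv 146, .mv 98, .mv 75, .mv 91, .mv 64, .mv 50, .mv 31, 
    .cm 66 45 12, .mv 12, .mv 20, .mv 6, .mv 7, .mv 14, .mv 8, .mv 16, .mv 22, .mv 37, 
    .mv 79, .mv 106, .mv 110, .mv 170, .mv 185, .mv 205, .mv 227, .mv 219, .mv 233, .mv 232, 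
    .mv 225, .mv 231, .mv 223, .mv 217, .mv 202, .mv 160, .mv 133, .mv 129, .mv 69, .mv 54, 
    .cm 66 39 9, .mv 9, .mv 17, .mv 23, .mv 38, .mv 80, .mv 56, .mv 99, .mv 163, .mv 147, 
    .mv 174, .mv 188, .mv 207, .mv 228, .mv 220, .mv 214, .mv 230, .mv 222, .mv 216, .mv 201, 
    .mv 159, .mv 183, .mv 140, .mv 76, .mv 92, .mv 65, .mv 51, .mv 32, .mv 11, .mv 19, 
    .cm 66 20 5, .mv 5, .mv 4, .mv 3, .mv 2, .mv 1, .mv 0, .mv 15, .mv 21, .mv 36, .mv 78, 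
    .mv 105, .mv 169, .mv 184, .mv 204, .mv 226, .mv 234, .mv 235, .mv 236, .mv 237, .mv 238, 
    .mv 239, .mv 224, .mv 218, .mv 203, .mv 161, .mv 134, .mv 70, .mv 55, .mv 35]

theorem genCheckE8 : pairCheck chevE8 [0, 1, 2, 3, 4, 5, 6, 7] 0 120 136 173 1 genStepsE8 = true := by
  decide +kernel

theorem twoGenE8 (F : Type*) [Field F] [Finite F] (hF : ∃ x : F, x ≠ 0 ∧ x ≠ 1) :
    ∃ a b : ↥(chevE8.group F), Subgroup.closure ({a, b} : Set ↥(chevE8.group F)) = ⊤ :=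
  sysE8.two_gen_of_check F hF ([⟨0, by decide⟩, ⟨1, by decide⟩, ⟨2, by decide⟩, ⟨3, by decide⟩, ⟨4, by decide⟩, ⟨5, by decide⟩, ⟨6, by decide⟩, ⟨7, by decide⟩] : List (Fin chevE8.rank)) ⟨0, by decide⟩ (genCheckE8)

/-- Steps for `D4` over two elements. -/
def genStepsTwoD4 : List GenStep := [
    .inv 3, .inv 7, .inv 11, .cm 12 3 4, .mv 4, .inv 0, .inv 6, .inv 19, .cm 12 19 20, 
    .inv 16, .cm 17 19 23, .mvx 12 5, .inv 9, .inv 1, .inv 18, .cm 12 1 2, .mv 5, .inv 14, 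
    .mv 2, .inv 8, .mv 13, .inv 10, .mv 15]

theorem genCheckTwoD4 : pairCheckTwo chevD4 [3, 2, 1, 0] 12 2 genStepsTwoD4 = true := by
  decide +kernel

theorem twoGenTwoD4 (F : Type*) [Field F] (h2 : ∀ t : F, t = 0 ∨ t = 1) :
    ∃ a b : ↥(chevD4.group F), Subgroup.closure ({a, b} : Set ↥(chevD4.group F)) = ⊤ :=
  sysD4.two_gen_of_checkTwo F h2 ([⟨3, by decide⟩, ⟨2, by decide⟩, ⟨1, by decide⟩, ⟨0, by decide⟩] : List (Fin chevD4.rank)) (genCheckTwoD4)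

/-- Steps for `F4` over two elements. -/
def genStepsTwoF4 : List GenStep := [
    .mv 24, .inv 5, .mv 25, .inv 17, .inv 4, .inv 16, .inv 22, .inv 23, .inv 42, 
    .cm 24 25 26, .mv 26, .inv 6, .inv 2, .inv 1, .inv 0, .inv 15, .inv 21, .inv 41, 
    .cm 25 42 43, .mv 43, .cm 31 41 45, .cm 25 45 46, .cm 24 46 47, .mvx 31 20, .mv 20, 
    .inv 12, .inv 9, .inv 19, .inv 11, .inv 33, .cm 24 9 10, .mv 10, .inv 3, .mv 14, .inv 27, 
    .mv 13, .inv 7, .mv 36, .inv 35, .mv 29, .inv 8, .mv 28, .mv 39, .inv 18, .mv 40, 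
    .inv 34, .mv 44]

theorem genCheckTwoF4 : pairCheckTwo chevF4 [3, 2, 1, 0] 24 3 genStepsTwoF4 = true := by
  decide +kernel

theorem twoGenTwoF4 (F : Type*) [Field F] (h2 : ∀ t : F, t = 0 ∨ t = 1) :
    ∃ a b : ↥(chevF4.group F), Subgroup.closure ({a, b} : Set ↥(chevF4.group F)) = ⊤ :=
  sysF4.two_gen_of_checkTwo F h2 ([⟨3, by decide⟩, ⟨2, by decide⟩, ⟨1, by decide⟩, ⟨0, by decide⟩] : List (Fin chevF4.rank)) (genCheckTwoF4)

/-- Steps for `E6` over two elements. -/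
def genStepsTwoE6 : List GenStep := [
    .mv 36, .inv 8, .mv 37, .inv 28, .inv 23, .inv 11, .inv 56, .inv 42, .inv 47, 
    .cm 36 37 38, .mv 38, .inv 9, .inv 3, .inv 18, .inv 5, .inv 26, .inv 57, .inv 50, 
    .cm 36 11 12, .mv 12, .inv 19, .mv 24, .inv 32, .mv 29, .inv 34, .mv 15, .inv 35, 
    .inv 63, .cm 36 40 41, .inv 10, .inv 4, .inv 0, .mv 39, .inv 59, .mv 40, .inv 64, .mv 60, 
    .inv 43, .mv 41, .inv 1, .mv 54, .mv 55, .inv 16, .mv 70, .inv 30, .mv 71, .inv 61, 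
    .cm 36 26 27, .mv 27, .inv 22, .mv 6, .inv 46, .mv 20, .inv 58, .mv 13, .inv 51, .mv 25, 
    .inv 65, .mv 49, .cm 36 30 31, .mv 31, .inv 33, .mv 17, .inv 62, .mv 2, .inv 68, .mv 7, 
    .inv 53, .mv 21, .inv 66, .mv 14]

theorem genCheckTwoE6 : pairCheckTwo chevE6 [5, 4, 3, 2, 1, 0] 36 0 genStepsTwoE6 = true := by
  decide +kernel

theorem twoGenTwoE6 (F : Type*) [Field F] (h2 : ∀ t : F, t = 0 ∨ t = 1) :
    ∃ a b : ↥(chevE6.group F), Subgroup.closure ({a, b} : Set ↥(chevE6.group F)) = ⊤ :=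
  sysE6.two_gen_of_checkTwo F h2 ([⟨5, by decide⟩, ⟨4, by decide⟩, ⟨3, by decide⟩, ⟨2, by decide⟩, ⟨1, by decide⟩, ⟨0, by decide⟩] : List (Fin chevE6.rank)) (genCheckTwoE6)

/-- Steps for `E7` over two elements. -/
def genStepsTwoE7 : List GenStep := [
    .mv 63, .inv 23, .mv 64, .inv 51, .mv 66, .inv 45, .mv 69, .inv 28, .inv 39, .inv 56, 
    .inv 59, .inv 61, .inv 62, .inv 102, .cm 63 64 65, .mv 65, .inv 24, .mv 67, .inv 14, 
    .mv 70, .inv 38, .inv 19, .inv 11, .inv 36, .inv 55, .inv 58, .inv 60, .inv 101, 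
    .cm 63 39 40, .mv 40, .inv 20, .mv 29, .inv 50, .mv 46, .inv 44, .mv 52, .inv 27, 
    .inv 93, .cm 63 67 68, .mv 68, .inv 25, .mv 71, .inv 15, .inv 5, .inv 10, .inv 3, .inv 8, 
    .inv 34, .inv 54, .inv 57, .inv 100, .cm 63 36 37, .mv 37, .inv 18, .mv 12, .inv 49, 
    .mv 21, .inv 43, .mv 41, .inv 78, .mv 30, .inv 95, .mv 47, .mv 82, .cm 63 71 72, .mv 72, 
    .inv 26, .inv 16, .inv 6, .inv 0, .mv 86, .inv 74, .mv 89, .inv 111, .mv 32, .inv 73, 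
    .mv 91, .inv 110, .inv 84, .mv 76, .mv 92, .inv 1, .mv 97, .mv 114, .inv 87, .mv 98, 
    .inv 79, .mv 117, .inv 120, .inv 104, .mv 107, .mv 118, .inv 2, .mv 81, .inv 96, .mv 122, 
    .inv 113, .mv 123, .inv 7, .mv 75, .inv 85, .mv 124, .inv 33, .mv 125, .inv 53, .mv 119, 
    .inv 99, .cm 63 34 35, .mv 35, .inv 17, .mv 9, .inv 48, .mv 4, .inv 94, .mv 13, .inv 83, 
    .mv 22, .inv 103, .mv 42, .inv 112, .mv 31, .inv 121, .mv 77, .inv 116, .mv 108]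

theorem genCheckTwoE7 : pairCheckTwo chevE7 [6, 5, 4, 3, 2, 1, 0] 63 0 genStepsTwoE7 = true := by
  decide +kernel

theorem twoGenTwoE7 (F : Type*) [Field F] (h2 : ∀ t : F, t = 0 ∨ t = 1) :
    ∃ a b : ↥(chevE7.group F), Subgroup.closure ({a, b} : Set ↥(chevE7.group F)) = ⊤ :=
  sysE7.two_gen_of_checkTwo F h2 ([⟨6, by decide⟩, ⟨5, by decide⟩, ⟨4, by decide⟩, ⟨3, by decide⟩, ⟨2, by decide⟩, ⟨1, by decide⟩, ⟨0, by decide⟩] : List (Fin chevE7.rank)) (genCheckTwoE7)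

/-- Steps for `E8` over two elements. -/
def genStepsTwoE8 : List GenStep := [
    .inv 66, .inv 103, .inv 96, .inv 73, .inv 89, .inv 62, .inv 102, .inv 95, .inv 72, 
    .inv 88, .inv 109, .inv 113, .inv 116, .inv 118, .inv 119, .cm 120 66 67, .mv 67, 
    .inv 52, .inv 87, .inv 61, .inv 48, .inv 30, .inv 43, .inv 83, .inv 58, .inv 46, .inv 84, 
    .inv 108, .inv 112, .inv 115, .inv 117, .inv 172, .cm 120 62 63, .mv 63, .inv 49, .mv 90, 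
    .inv 86, .mv 74, .inv 60, .mv 97, .inv 47, .mv 104, .inv 85, .mv 77, .inv 59, .inv 101, 
    .inv 94, .inv 71, .inv 162, .inv 135, .inv 142, .inv 165, .inv 149, .inv 176, 
    .cm 120 52 53, .mv 53, .inv 33, .mv 68, .inv 45, .inv 29, .inv 10, .inv 18, .inv 24, 
    .inv 39, .inv 26, .inv 40, .inv 81, .inv 107, .inv 111, .inv 114, .inv 171, .inv 186, 
    .cm 120 43 44, .mv 44, .inv 28, .mv 31, .inv 42, .mv 50, .inv 27, .mv 64, .inv 41, 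
    .mv 91, .inv 82, .mv 75, .inv 57, .mv 98, .inv 100, .inv 93, .inv 141, .inv 164, 
    .inv 148, .inv 175, .inv 189, .cm 120 172 173, .inv 136, .inv 143, .inv 166, .inv 150, 
    .cm 120 176 177, .inv 137, .inv 144, .inv 167, .cm 120 33 34, .mv 34, .inv 12, .mv 54, 
    .inv 20, .mv 69, .inv 6, .inv 7, .inv 14, .inv 8, .inv 16, .inv 22, .inv 37, .inv 79, 
    .inv 106, .inv 110, .inv 170, .inv 185, .inv 205, .cm 120 24 25, .mv 25, .inv 9, .mv 19, 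
    .inv 17, .mv 11, .inv 23, .mv 32, .inv 38, .mv 51, .inv 80, .mv 65, .inv 56, .mv 92, 
    .inv 99, .mv 76, .inv 163, .inv 147, .inv 174, .inv 188, .inv 207, .cm 120 186 187, 
    .inv 152, .inv 178, .inv 191, .cm 120 189 190, .inv 153, .inv 179, .cm 120 150 151, 
    .inv 130, .inv 126, .inv 123, .inv 121, .cm 120 12 13, .mv 13, .inv 5, .mv 35, .inv 4, 
    .mv 55, .inv 3, .mv 70, .inv 2, .inv 1, .mv 122, .mv 168, .mv 125, .inv 206, .mv 146, 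
    .inv 208, .mv 129, .inv 227, .mv 140, .inv 228, .inv 209, .inv 192, .mv 134, .inv 0, 
    .mv 124, .mv 145, .mv 128, .inv 194, .mv 139, .inv 195, .mv 133, .inv 219, .mv 183, 
    .inv 220, .inv 196, .inv 154, .mv 161, .inv 15, .mv 127, .mv 138, .mv 132, .inv 210, 
    .mv 182, .inv 211, .mv 160, .inv 233, .mv 159, .inv 214, .inv 156, .mv 203, .inv 21, 
    .mv 131, .mv 158, .inv 229, .mv 157, .inv 197, .mv 202, .inv 232, .mv 201, .inv 230, 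
    .inv 181, .mv 218, .inv 36, .mv 155, .mv 199, .inv 221, .mv 198, .mv 217, .inv 225, 
    .mv 216, .mv 224, .inv 78, .mv 213, .inv 215, .mv 223, .mv 239, .inv 105, .mv 238, 
    .inv 169, .mv 237, .inv 184, .mv 236, .inv 204, .mv 235, .inv 226]

theorem genCheckTwoE8 : pairCheckTwo chevE8 [7, 6, 5, 4, 3, 2, 1, 0] 120 1 genStepsTwoE8 = true := by
  decide +kernel

theorem twoGenTwoE8 (F : Type*) [Field F] (h2 : ∀ t : F, t = 0 ∨ t = 1) :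
    ∃ a b : ↥(chevE8.group F), Subgroup.closure ({a, b} : Set ↥(chevE8.group F)) = ⊤ :=
  sysE8.two_gen_of_checkTwo F h2 ([⟨7, by decide⟩, ⟨6, by decide⟩, ⟨5, by decide⟩, ⟨4, by decide⟩, ⟨3, by decide⟩, ⟨2, by decide⟩, ⟨1, by decide⟩, ⟨0, by decide⟩] : List (Fin chevE8.rank)) (genCheckTwoE8)

end CfsgLib.Chevalley
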